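import Groth.Prelude.Def_QCohCat
import Groth.Agent.QCoh.Tilde
import Groth.Agent.KFlatLib.Scheme.Grothendieck
import Mathlib.CategoryTheory.Abelian.Subcategory

/-!
# The category of quasi-coherent modules: abelian, cocomplete, with exact filtered colimits
-/

universe u

open CategoryTheory CategoryTheory.Limits AlgebraicGeometry

namespace Groth.Agent.RPSM

variable (X : Scheme.{u})

instance qcoh_isClosedUnderIsomorphisms : (QCohCat.isQCoh X).IsClosedUnderIsomorphisms where
  of_iso e h := (QCoh.isQCoh_iff_iso e).1 h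

instance qcoh_isClosedUnderKernels : (QCohCat.isQCoh X).IsClosedUnderKernels where
  kernels_le := by
    rintro _ ⟨f, k, hk, hM, hN⟩
    exact (QCoh.isQCoh_iff_iso (IsLimit.conePointUniqueUpToIso (kernelIsKernel f) hk)).1
      (QCoh.isQCoh_kernel hM hN f)

instance qcoh_isClosedUnderCokernels : (QCohCat.isQCoh X).IsClosedUnderCokernels where
  cokernels_le := by
    rintro _ ⟨f, k, hk, hM, hN⟩
    exact (QCoh.isQCoh_iff_iso (IsColimit.coconePointUniqueUpToIso (cokernelIsCokernel f) hk)).1
      (QCoh.isQCoh_cokernel hM hN f)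

instance qcoh_isClosedUnderColimitsOfShape (J : Type u) [SmallCategory J] :
    (QCohCat.isQCoh X).IsClosedUnderColimitsOfShape J where
  colimitsOfShape_le := by
    rintro M ⟨p⟩
    exact (QCoh.isQCoh_iff_iso
      (IsColimit.coconePointUniqueUpToIso (colimit.isColimit p.diag) p.isColimit)).1
      (QCoh.isQCoh_colimit p.diag p.prop_diag_obj)

instance qcoh_isClosedUnderColimitsOfShape_small (J : Type) [SmallCategory J] :
    (QCohCat.isQCoh X).IsClosedUnderColimitsOfShape J where
  colimitsOfShape_le := by
    rintro M ⟨p⟩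
    let e : ULiftHom.{u} (ULift.{u} J) ≌ J := (ULiftHomULiftCategory.equiv.{u, u} J).symm
    let hc := p.isColimit.whiskerEquivalence e
    exact (QCoh.isQCoh_iff_iso (IsColimit.coconePointUniqueUpToIso (colimit.isColimit _) hc)).1
      (QCoh.isQCoh_colimit (e.functor ⋙ p.diag) fun j => p.prop_diag_obj _)

instance qcoh_containsZero : (QCohCat.isQCoh X).ContainsZero where
  exists_zero := by
    let K : Discrete PEmpty.{u + 1} ⥤ X.Modules := Functor.empty _
    refine ⟨colimit K, ?_, QCoh.isQCoh_colimit K fun j => j.as.elim⟩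
    exact (IsZero.iff_id_eq_zero _).2 (colimit.hom_ext fun j => j.as.elim)

instance qcoh_isClosedUnderFiniteProducts : (QCohCat.isQCoh X).IsClosedUnderFiniteProducts where
  isClosedUnderLimitsOfShape J _ := ⟨by
    rintro M ⟨p⟩
    let f : J → X.Modules := fun j => p.diag.obj ⟨j⟩
    haveI : HasFiniteBiproducts X.Modules := HasFiniteBiproducts.of_hasFiniteProducts
    let c : Cocone (Discrete.functor f) := (biproduct.bicone f).toCocone
    have hM : Coh.IsQCoh (biproduct f) :=
      (QCohCat.isQCoh X).prop_of_isColimit (biproduct.isColimit f) (fun j => p.prop_diag_obj j)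
    exact (QCoh.isQCoh_iff_iso (IsLimit.conePointUniqueUpToIso (biproduct.isLimit f)
      ((IsLimit.postcomposeHomEquiv Discrete.natIsoFunctor _).symm p.isLimit))).1 hM⟩

theorem isQCoh_sigma {ι : Type u} (f : ι → X.Modules) (h : ∀ i, Coh.IsQCoh (f i)) :
    Coh.IsQCoh (∐ f) :=
  QCoh.isQCoh_colimit _ fun j => h j.as

noncomputable instance qcoh_abelian : Abelian (QCohCat.QCoh X) :=
  inferInstanceAs (Abelian (QCohCat.isQCoh X).FullSubcategory)

instance qcoh_hasColimitsOfSize : HasColimitsOfSize.{u, u} (QCohCat.QCoh X) where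
  has_colimits_of_shape _ _ := inferInstance

instance qcoh_ι_preservesColimitsOfSize :
    PreservesColimitsOfSize.{u, u} (QCohCat.isQCoh X).ι where

instance qcoh_ι_preservesFiniteColimits : PreservesFiniteColimits (QCohCat.isQCoh X).ι where

instance qcoh_ι_preservesFiniteLimits : PreservesFiniteLimits (QCohCat.isQCoh X).ι := by
  haveI := (QCohCat.isQCoh X).preservesKernels_ι
  exact Functor.preservesFiniteLimits_of_preservesKernels _

instance qcoh_ab5 : AB5OfSize.{u, u} (QCohCat.QCoh X) where
  ofShape J _ _ := HasExactColimitsOfShape.domain_of_functor J (QCohCat.isQCoh X).ι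

end Groth.Agent.RPSM
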