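import Groth.Agent.QCoh.ExtendFT
import Groth.Agent.RPSM.QCohCat
import Mathlib.CategoryTheory.Generator.Preadditive
import Mathlib.CategoryTheory.Adjunction.AdjointFunctorTheorems

/-!
# Small generators for the category of quasi-coherent modules on any scheme

Every section of a quasi-coherent module over an affine open lies in a quasi-coherent submodule
whose sections over each affine open are spanned by a family indexed by a set depending only on the
scheme (Gabber).
-/

universe u

set_option backward.isDefEq.respectTransparency false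
set_option backward.isDefEq.respectTransparency.types false

open CategoryTheory CategoryTheory.Limits AlgebraicGeometry TopologicalSpace Opposite

namespace Groth.Agent.RPSM

open QCoh (rs rf)

variable {X : Scheme.{u}}

/-- A morphism of modules from compatible linear maps of sections over affine opens. -/
theorem exists_hom_of_affines {M N : X.Modules}
    (α : ∀ V : X.affineOpens, Γ(M, V.1) →ₗ[Γ(X, V.1)] Γ(N, V.1))
    (h : ∀ (V W : X.affineOpens) (e : W.1 ≤ V.1) (s : Γ(M, V.1)),
      α W (rs M e s) = rs N e (α V s)) :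
    ∃ φ : M ⟶ N, ∀ (V : X.affineOpens) (s : Γ(M, V.1)), φ.app V.1 s = α V s := by
  let B : X.affineOpens → X.Opens := fun V => V.1
  have hB : Opens.IsBasis (Set.range B) := by
    have : Set.range B = X.affineOpens := Subtype.range_coe
    rw [this]
    exact X.isBasis_affineOpens
  let a : (inducedFunctor B).op ⋙ M.presheaf ⟶ (inducedFunctor B).op ⋙ N.presheaf :=
    { app := fun V => AddCommGrpCat.ofHom (α V.unop).toAddMonoidHom
      naturality := fun V W g => by
        ext s
        exact h V.unop W.unop g.unop.hom.le s }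
  let ψ : M.presheaf ⟶ N.presheaf :=
    TopCat.Sheaf.restrictHomEquivHom M.presheaf ⟨N.presheaf, N.isSheaf⟩ hB a
  have hψ : ∀ (V : X.affineOpens) (s : Γ(M, V.1)), ψ.app (op V.1) s = α V s := fun V s =>
    congrArg (fun q => q s)
      (TopCat.Sheaf.extend_hom_app M.presheaf ⟨N.presheaf, N.isSheaf⟩ hB a V)
  have nat : ∀ {U V : X.Opens} (e : V ≤ U) (s : Γ(M, U)),
      ψ.app (op V) (rs M e s) = rs N e (ψ.app (op U) s) := fun {U V} e s =>
    congrArg (fun q => q s) (ψ.naturality (homOfLE e).op)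
  have hlin : ∀ (U : X.Opens) (r : Γ(X, U)) (s : Γ(M, U)),
      ψ.app (op U) (r • s) = r • ψ.app (op U) s := fun U r s => by
    rw [← sub_eq_zero]
    refine QCoh.eq_zero_of_locally U _ fun p hp => ?_
    obtain ⟨_, ⟨V, hV, rfl⟩, hpV, hVU⟩ := X.isBasis_affineOpens.exists_subset_of_mem_open hp U.2
    refine ⟨V, homOfLE hVU, hpV, ?_⟩
    change rs N hVU _ = 0
    rw [rs, map_sub, ← rs, ← rs, ← nat, QCoh.rs_smul, QCoh.rs_smul, hψ ⟨V, hV⟩, map_smul,
      ← hψ ⟨V, hV⟩, nat, sub_self]
  exact ⟨⟨PresheafOfModules.homMk ψ (fun U r s => hlin U.unop r s)⟩, hψ⟩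

theorem hom_ext_affines {M N : X.Modules} {φ ψ : M ⟶ N}
    (h : ∀ (V : X.affineOpens) (s : Γ(M, V.1)), φ.app V.1 s = ψ.app V.1 s) : φ = ψ := by
  refine Scheme.Modules.hom_ext _ _ fun U => ?_
  ext s
  rw [← sub_eq_zero]
  refine QCoh.eq_zero_of_locally U _ fun p hp => ?_
  obtain ⟨_, ⟨V, hV, rfl⟩, hpV, hVU⟩ := X.isBasis_affineOpens.exists_subset_of_mem_open hp U.2
  refine ⟨V, homOfLE hVU, hpV, ?_⟩
  rw [map_sub, ← QCoh.map_app_comm, ← QCoh.map_app_comm]
  exact sub_eq_zero.2 (h ⟨V, hV⟩ _)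

/-- Indices of the closure of one section under restriction and division. -/
inductive GenIdx (X : Scheme.{u}) (V₀ : X.affineOpens) : X.affineOpens → Type u
  | seed : GenIdx X V₀ V₀
  | res {V W : X.affineOpens} (h : W.1 ≤ V.1) (g : GenIdx X V₀ V) : GenIdx X V₀ W
  | lift (V : X.affineOpens) (f : Γ(X, V.1))
      (g : GenIdx X V₀ ⟨X.basicOpen f, V.2.basicOpen f⟩) : GenIdx X V₀ V

variable {M : X.Modules} (hM : Coh.IsQCoh M) {V₀ : X.affineOpens} (s : Γ(M, V₀.1))

/-- The sections of the closure. -/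
noncomputable def genEval : ∀ {V : X.affineOpens}, GenIdx X V₀ V → Γ(M, V.1)
  | _, .seed => s
  | _, .res h g => rs M h (genEval g)
  | _, .lift V f g => (QCoh.exists_pow_smul_eq_map hM V.2 f (genEval g)).choose_spec.choose

theorem genEval_lift (V : X.affineOpens) (f : Γ(X, V.1))
    (g : GenIdx X V₀ ⟨X.basicOpen f, V.2.basicOpen f⟩) :
    ∃ n : ℕ, rs M (X.basicOpen_le f) (genEval hM s (GenIdx.lift V f g)) =
      rf X (X.basicOpen_le f) f ^ n • genEval hM s g :=
  ⟨_, (QCoh.exists_pow_smul_eq_map hM V.2 f (genEval hM s g)).choose_spec.choose_spec⟩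

/-- The span of the closure over an affine open. -/
noncomputable def genSpan (V : X.affineOpens) : Submodule Γ(X, V.1) Γ(M, V.1) :=
  Submodule.span Γ(X, V.1) (Set.range (genEval hM s (V := V)))

theorem rs_mem_genSpan {V W : X.affineOpens} (h : W.1 ≤ V.1) {t : Γ(M, V.1)}
    (ht : t ∈ genSpan hM s V) : rs M h t ∈ genSpan hM s W := by
  refine Submodule.span_mono ?_ (QCoh.rs_mem_span h ht)
  rintro _ ⟨_, ⟨g, rfl⟩, rfl⟩
  exact ⟨.res h g, rfl⟩

theorem genSpan_basicOpen_le (V : X.affineOpens) (f : Γ(X, V.1)) :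
    genSpan hM s ⟨X.basicOpen f, V.2.basicOpen f⟩ ≤
      Submodule.span Γ(X, X.basicOpen f)
        (rs M (X.basicOpen_le f) '' Set.range (genEval hM s (V := V))) := by
  refine Submodule.span_le.2 ?_
  rintro _ ⟨g, rfl⟩
  obtain ⟨n, hn⟩ := genEval_lift hM s V f g
  rw [SetLike.mem_coe, ← Submodule.smul_mem_iff_of_isUnit _ ((QCoh.isUnit_rf_basicOpen f).pow n), ← hn]
  exact Submodule.subset_span ⟨_, ⟨_, rfl⟩, rfl⟩

/-- The submodule generated by the closure. -/
noncomputable def genSub : QCoh.SubMod M where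
  mem O :=
    { carrier := {t | ∀ x ∈ O, ∃ (V : X.affineOpens) (h : V.1 ≤ O), x ∈ V.1 ∧
        rs M h t ∈ genSpan hM s V}
      zero_mem' := fun x hx => by
        obtain ⟨_, ⟨V, hV, rfl⟩, hxV, hle⟩ := X.isBasis_affineOpens.exists_subset_of_mem_open hx O.2
        exact ⟨⟨V, hV⟩, hle, hxV, by rw [rs, map_zero]; exact zero_mem _⟩
      add_mem' := fun {a b} ha hb x hx => by
        obtain ⟨V, hVO, hxV, hVa⟩ := ha x hx
        obtain ⟨W, hWO, hxW, hWb⟩ := hb x hx
        obtain ⟨_, ⟨U, hU, rfl⟩, hxU, hle⟩ :=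
          X.isBasis_affineOpens.exists_subset_of_mem_open (show x ∈ V.1 ⊓ W.1 from ⟨hxV, hxW⟩)
            (V.1 ⊓ W.1).2
        have hUV : U ≤ V.1 := fun y hy => (hle hy).1
        have hUW : U ≤ W.1 := fun y hy => (hle hy).2
        refine ⟨⟨U, hU⟩, hUV.trans hVO, hxU, ?_⟩
        have h1 := rs_mem_genSpan hM s (W := ⟨U, hU⟩) hUV hVa
        have h2 := rs_mem_genSpan hM s (W := ⟨U, hU⟩) hUW hWb
        rw [QCoh.rs_rs] at h1 h2
        rw [rs, map_add]
        exact add_mem h1 h2
      smul_mem' := fun a t ht x hx => by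
        obtain ⟨V, hVO, hxV, hV⟩ := ht x hx
        exact ⟨V, hVO, hxV, by rw [QCoh.rs_smul]; exact Submodule.smul_mem _ _ hV⟩ }
  map_mem {O O'} i {t} ht x hx := by
    obtain ⟨V, hVO, hxV, hV⟩ := ht x (i hx)
    obtain ⟨_, ⟨U, hU, rfl⟩, hxU, hle⟩ :=
      X.isBasis_affineOpens.exists_subset_of_mem_open (show x ∈ V.1 ⊓ O' from ⟨hxV, hx⟩) (V.1 ⊓ O').2
    have hUV : U ≤ V.1 := fun y hy => (hle hy).1
    have hUO : U ≤ O' := fun y hy => (hle hy).2
    refine ⟨⟨U, hU⟩, hUO, hxU, ?_⟩
    have h1 := rs_mem_genSpan hM s (W := ⟨U, hU⟩) hUV hV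
    rw [QCoh.rs_rs] at h1
    change rs M hUO (rs M i t) ∈ _
    rwa [QCoh.rs_rs]
  of_locally O t ht x hx := by
    obtain ⟨P, i, hxP, hP⟩ := ht x hx
    obtain ⟨V, hVP, hxV, hV⟩ := hP x hxP
    change rs M hVP (rs M i t) ∈ _ at hV
    rw [QCoh.rs_rs] at hV
    exact ⟨V, hVP.trans i, hxV, hV⟩

theorem genSub_mem_affine (V : X.affineOpens) : (genSub hM s).mem V.1 = genSpan hM s V := by
  refine le_antisymm (fun t ht => ?_) (fun t ht x hx => ⟨V, le_rfl, hx, by rwa [QCoh.rs_self]⟩)
  refine QCoh.mem_span_of_locally hM V.2 _ t fun x hx => ?_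
  obtain ⟨W, hW, hxW, hWt⟩ := ht x hx
  obtain ⟨f, hfW, hxf⟩ := V.2.exists_basicOpen_le ⟨x, hxW⟩ hx
  refine ⟨X.basicOpen f, X.basicOpen_le f, hxf, genSpan_basicOpen_le hM s V f ?_⟩
  have := rs_mem_genSpan hM s (W := ⟨X.basicOpen f, V.2.basicOpen f⟩) hfW hWt
  rwa [QCoh.rs_rs] at this

theorem isQCoh_genSub : Coh.IsQCoh (genSub hM s).toModules := by
  refine QCoh.isQCoh_of_sections (fun V hV f t => ?_) (fun V hV f t ht => ?_)
  · have h := (genSub hM s).ι_app_mem _ t
    rw [genSub_mem_affine hM s ⟨X.basicOpen f, hV.basicOpen f⟩] at h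
    obtain ⟨n, z, hz, hzt⟩ := QCoh.exists_lift_span hV f _ (genSpan_basicOpen_le hM s ⟨V, hV⟩ f h)
    change z ∈ genSpan hM s ⟨V, hV⟩ at hz
    rw [← genSub_mem_affine hM s ⟨V, hV⟩] at hz
    obtain ⟨t', ht'⟩ := (genSub hM s).exists_app_eq hz
    refine ⟨n, t', (genSub hM s).ι_app_injective _ ?_⟩
    rw [Scheme.Modules.Hom.app_smul, QCoh.map_app_comm, ht']
    exact hzt
  · obtain ⟨n, hn⟩ := QCoh.exists_pow_smul_eq_zero hM hV f ((genSub hM s).ι.app V t) (by
      rw [← QCoh.map_app_comm, ht, map_zero])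
    exact ⟨n, (genSub hM s).ι_app_injective _ (by
      rw [Scheme.Modules.Hom.app_smul, hn, map_zero])⟩

/-- The relations among the closure of a section. -/
noncomputable def genKer (V : X.affineOpens) :
    Submodule Γ(X, V.1) (GenIdx X V₀ V →₀ Γ(X, V.1)) :=
  LinearMap.ker (Finsupp.linearCombination Γ(X, V.1) (genEval hM s (V := V)))

/-- Two sections with the same relations: the submodule of one maps to the module of the other,
sending the one section to the other. -/
theorem exists_hom_of_genKer_eq {M' : X.Modules} (hM' : Coh.IsQCoh M') (s' : Γ(M', V₀.1))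
    (h : ∀ V, genKer hM s V = genKer hM' s' V) :
    ∃ φ : (genSub hM s).toModules ⟶ M', ∃ t : Γ((genSub hM s).toModules, V₀.1),
      φ.app V₀.1 t = s' := by
  have hex : ∀ (V : X.affineOpens) (t : Γ((genSub hM s).toModules, V.1)),
      ∃ a : GenIdx X V₀ V →₀ Γ(X, V.1),
        Finsupp.linearCombination Γ(X, V.1) (genEval hM s (V := V)) a =
          (genSub hM s).ι.app V.1 t := fun V t => by
    have ht := (genSub hM s).ι_app_mem _ t
    rw [genSub_mem_affine hM s V] at ht
    exact Finsupp.mem_span_range_iff_exists_finsupp.1 ht |>.imp fun a ha => by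
      rw [Finsupp.linearCombination_apply]; exact ha
  choose a ha using hex
  have hwd : ∀ (V : X.affineOpens) (t : Γ((genSub hM s).toModules, V.1))
      (b : GenIdx X V₀ V →₀ Γ(X, V.1)),
      Finsupp.linearCombination Γ(X, V.1) (genEval hM s (V := V)) b = (genSub hM s).ι.app V.1 t →
      Finsupp.linearCombination Γ(X, V.1) (genEval hM' s' (V := V)) b =
        Finsupp.linearCombination Γ(X, V.1) (genEval hM' s' (V := V)) (a V t) := fun V t b hb => by
    have : b - a V t ∈ genKer hM s V := by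
      rw [genKer, LinearMap.mem_ker, map_sub, hb, ha, sub_self]
    rw [h, genKer, LinearMap.mem_ker, map_sub, sub_eq_zero] at this
    exact this
  let α : ∀ V : X.affineOpens, Γ((genSub hM s).toModules, V.1) →ₗ[Γ(X, V.1)] Γ(M', V.1) := fun V =>
    { toFun := fun t => Finsupp.linearCombination Γ(X, V.1) (genEval hM' s' (V := V)) (a V t)
      map_add' := fun t t' => by
        rw [← map_add]
        exact (hwd V _ _ (by rw [map_add, map_add, ha, ha])).symm
      map_smul' := fun r t => by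
        rw [RingHom.id_apply, ← map_smul]
        exact (hwd V _ _ (by rw [map_smul, Scheme.Modules.Hom.app_smul, ha])).symm }
  obtain ⟨φ, hφ⟩ := exists_hom_of_affines α fun V W e t => by
    let b : GenIdx X V₀ W →₀ Γ(X, W.1) :=
      (a V t).sum fun g r => Finsupp.single (GenIdx.res e g) (rf X e r)
    have key : ∀ (P : X.Modules) (hP : Coh.IsQCoh P) (p : Γ(P, V₀.1)),
        Finsupp.linearCombination Γ(X, W.1) (genEval hP p (V := W)) b =
          rs P e (Finsupp.linearCombination Γ(X, V.1) (genEval hP p (V := V)) (a V t)) := by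
      intro P hP p
      simp only [b, map_finsuppSum, Finsupp.linearCombination_single, Finsupp.linearCombination_apply,
        rs, map_finsuppSum]
      refine Finsupp.sum_congr fun g _ => ?_
      rw [Finsupp.sum_single_index]
      · exact (QCoh.rs_smul _ _ _).symm
      · exact zero_smul _ _
    change Finsupp.linearCombination Γ(X, W.1) (genEval hM' s' (V := W)) (a W _) =
      rs M' e (Finsupp.linearCombination Γ(X, V.1) (genEval hM' s' (V := V)) (a V t))
    rw [← key M' hM' s']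
    refine (hwd W _ _ ?_).symm
    rw [key M hM s, ha]
    exact (QCoh.map_app_comm _ _ _).symm
  obtain ⟨t, ht⟩ := (genSub hM s).exists_app_eq (U := V₀.1) (s := s) (by
    rw [genSub_mem_affine hM s V₀]; exact Submodule.subset_span ⟨.seed, rfl⟩)
  refine ⟨φ, t, (hφ V₀ t).trans ?_⟩
  refine ((hwd V₀ t (Finsupp.single .seed 1) ?_).symm).trans ?_
  · rw [Finsupp.linearCombination_single, one_smul, ht]
    rfl
  · rw [Finsupp.linearCombination_single, one_smul]
    rfl

variable (X)

/-- Quasi-coherent modules on any scheme form a category with a separator. -/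
theorem hasSeparator_qcoh : HasSeparator (QCohCat.QCoh X) := by
  let D := Σ V₀ : X.affineOpens, ∀ V : X.affineOpens,
    Submodule Γ(X, V.1) (GenIdx X V₀ V →₀ Γ(X, V.1))
  let P : D → Prop := fun d => ∃ (M : X.Modules) (hM : Coh.IsQCoh M) (s : Γ(M, d.1.1)),
    ∀ V, genKer hM s V = d.2 V
  choose N hN t ht using fun d : {d // P d} => d.2
  let G : QCohCat.QCoh X := ∐ fun d : {d // P d} =>
    (⟨(genSub (hN d) (t d)).toModules, isQCoh_genSub (hN d) (t d)⟩ : QCohCat.QCoh X)
  refine ⟨G, (Preadditive.isSeparator_iff _).2 fun A B f hf => ?_⟩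
  classical
  by_contra hne
  obtain ⟨V₀, x, hx⟩ : ∃ (V₀ : X.affineOpens) (x : Γ(A.obj, V₀.1)), f.hom.app V₀.1 x ≠ 0 := by
    by_contra h
    push Not at h
    exact hne (ObjectProperty.hom_ext _ (hom_ext_affines fun V x => (h V x).trans rfl))
  let d : {d // P d} :=
    ⟨⟨V₀, fun V => genKer (M := A.obj) A.property x V⟩, A.obj, A.property, x, fun _ => rfl⟩
  obtain ⟨φ, w, hw⟩ := exists_hom_of_genKer_eq (hN d) (t d) (M' := A.obj) A.property x (fun V => ht d V)
  let φ' : G ⟶ A := Sigma.desc (Function.update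
    (fun e : {d // P d} =>
      (0 : (⟨(genSub (hN e) (t e)).toModules, isQCoh_genSub (hN e) (t e)⟩ : QCohCat.QCoh X) ⟶ A))
    d (ObjectProperty.homMk φ))
  have h := Sigma.ι (fun d : {d // P d} =>
    (⟨(genSub (hN d) (t d)).toModules, isQCoh_genSub (hN d) (t d)⟩ : QCohCat.QCoh X)) d ≫= hf φ'
  rw [Sigma.ι_desc_assoc, Function.update_self, comp_zero] at h
  have h' : f.hom.app V₀.1 (φ.app V₀.1 w) = 0 :=
    congrArg (fun q => q.hom.app V₀.1 w) h
  exact hx (hw ▸ h')

instance isGrothendieckAbelian_qcoh : IsGrothendieckAbelian.{u} (QCohCat.QCoh X) where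
  ab5OfSize := qcoh_ab5 X
  hasSeparator := hasSeparator_qcoh X

theorem isLeftAdjoint_of_preservesColimits {A : Type*} [Category.{u} A]
    (F : QCohCat.QCoh X ⥤ A) [PreservesColimitsOfSize.{u, u} F] : F.IsLeftAdjoint :=
  isLeftAdjoint_of_preservesColimits_of_isSeparating (isSeparator_separator (QCohCat.QCoh X)) F

end Groth.Agent.RPSM
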