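import Groth.Agent.RPSM.SectColim
import Groth.Agent.RPSM.QCohGen
import Mathlib.CategoryTheory.Presentable.Directed

/-!
# Direct images commute with filtered colimits for quasi-compact morphisms of quasi-separated schemes
-/

universe u

set_option backward.isDefEq.respectTransparency false
set_option backward.isDefEq.respectTransparency.types false

open CategoryTheory CategoryTheory.Limits AlgebraicGeometry TopologicalSpace Opposite

namespace Groth.Agent.RPSM

variable {X Y : Scheme.{u}}

/-- A morphism of modules bijective on sections over affine opens is an isomorphism. -/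
theorem isIso_of_bijective_affines {M N : X.Modules} (φ : M ⟶ N)
    (h : ∀ V : X.affineOpens, Function.Bijective (φ.app V.1)) : IsIso φ := by
  let a : ∀ V : X.affineOpens, Γ(M, V.1) →ₗ[Γ(X, V.1)] Γ(N, V.1) := fun V =>
    { toFun := φ.app V.1, map_add' := map_add _, map_smul' := fun r s => Scheme.Modules.Hom.app_smul _ _ _ }
  let e : ∀ V : X.affineOpens, Γ(M, V.1) ≃ₗ[Γ(X, V.1)] Γ(N, V.1) := fun V =>
    LinearEquiv.ofBijective (a V) (h V)
  obtain ⟨ψ, hψ⟩ := exists_hom_of_affines (fun V => (e V).symm.toLinearMap) fun V W i t => by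
    apply (e W).injective
    refine ((e W).apply_symm_apply _).trans ?_
    refine Eq.trans ?_ (QCoh.map_app_comm φ (homOfLE i) ((e V).symm t)).symm
    exact (congrArg (QCoh.rs N i) ((e V).apply_symm_apply t)).symm
  refine ⟨ψ, hom_ext_affines fun V s => ?_, hom_ext_affines fun V s => ?_⟩
  · exact (hψ V _).trans ((e V).symm_apply_apply s)
  · exact (congrArg (φ.app V.1) (hψ V s)).trans ((e V).apply_symm_apply s)

/-- Direct image along a quasi-compact quasi-separated morphism commutes with filtered colimits. -/
theorem preservesFilteredColimits_pushforward' (f : X ⟶ Y) [QuasiCompact f]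
    [QuasiSeparated f] :
    PreservesFilteredColimitsOfSize.{u, u} (Scheme.Modules.pushforward f) := by
  refine ⟨fun I _ _ => ?_⟩
  obtain ⟨α, _, _, _, F, _⟩ := IsFiltered.exists_directed I
  haveI : IsFiltered α := isFiltered_of_directed_le_nonempty α
  suffices h : PreservesColimitsOfShape α (Scheme.Modules.pushforward f) from
    Functor.Final.preservesColimitsOfShape_of_final F _
  refine ⟨fun {D} => ⟨fun {c} hc => ?_⟩⟩
  let P := Scheme.Modules.pushforward f
  let hd := colimit.isColimit (D ⋙ P)
  let φ : colimit (D ⋙ P) ⟶ P.obj c.pt := colimit.desc (D ⋙ P) (P.mapCocone c)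
  have hι : ∀ (j : α) (V : Y.Opens) (t : Γ(P.obj (D.obj j), V)),
      φ.app V ((colimit.ι (D ⋙ P) j).app V t) = (c.ι.app j).app (f ⁻¹ᵁ V) t := fun j V t =>
    congrArg (fun q => q.app V t) (colimit.ι_desc (P.mapCocone c) j)
  haveI : IsIso φ := by
    refine isIso_of_bijective_affines φ fun V => ⟨?_, fun t => ?_⟩
    · rw [injective_iff_map_eq_zero]
      intro z hz
      obtain ⟨j, t, rfl⟩ := exists_stage' hd V.2.isCompact V.2.isQuasiSeparated z
      have h0 : (c.ι.app j).app (f ⁻¹ᵁ V.1) t = (c.ι.app j).app (f ⁻¹ᵁ V.1) 0 := by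
        rw [map_zero]
        exact (hι j V.1 t).symm.trans hz
      obtain ⟨k, hk, e⟩ := exists_eq_stage hc
        (f.isCompact_preimage V.2.isCompact) (i := j) t 0 h0
      rw [map_zero] at e
      rw [← ι_map_app (colimit.cocone (D ⋙ P)) hk V.1 t]
      exact (congrArg ((colimit.ι (D ⋙ P) k).app V.1) e).trans (map_zero _)
    · obtain ⟨j, a, ha⟩ := exists_stage' hc
        (V := f ⁻¹ᵁ V.1) (f.isCompact_preimage V.2.isCompact)
        (f.isQuasiSeparated_preimage V.2.isQuasiSeparated) t
      exact ⟨(colimit.ι (D ⋙ P) j).app V.1 a, (hι j V.1 a).trans ha⟩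
  exact ⟨@IsColimit.ofPointIso _ _ _ _ _ _ (P.mapCocone c) hd ‹IsIso φ›⟩

/-- Direct image along a quasi-compact morphism of quasi-separated schemes commutes with filtered
colimits. -/
theorem preservesFilteredColimits_pushforward (f : X ⟶ Y) [QuasiCompact f]
    [QuasiSeparatedSpace X] [QuasiSeparatedSpace Y] :
    PreservesFilteredColimitsOfSize.{u, u} (Scheme.Modules.pushforward f) :=
  haveI : QuasiSeparated f := QuasiSeparated.of_quasiSeparatedSpace f
  preservesFilteredColimits_pushforward' f

end Groth.Agent.RPSM
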