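import Groth.Agent.RPSM.FPExact
import Groth.Agent.Triage.FPColim
import Groth.Agent.CAlgUI.Coherent

/-!
# Finitely presented modules generate the category of modules

The small category `FPJ A` of standard finitely presented modules, its inclusion `fpG A` and its
equivalence `fpLift A` with the category of all finitely presented modules.
-/

universe u

open CategoryTheory CategoryTheory.Limits

namespace Groth.Agent.RPSM

variable (A : Type u) [CommRing A]

/-- Presentations of modules. -/
structure FPIdx : Type u where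
  /-- number of generators -/
  n : ℕ
  /-- number of relations -/
  m : ℕ
  /-- relations -/
  rel : Fin m → Fin n → A

/-- The module of a presentation. -/
def FPIdx.toMod {A : Type u} [CommRing A] (i : FPIdx A) : ModuleCat.{u} A :=
  ModuleCat.of A ((Fin i.n → A) ⧸ Submodule.span A (Set.range i.rel))

/-- The small category of standard finitely presented modules. -/
abbrev FPJ : Type u := InducedCategory (ModuleCat.{u} A) (FPIdx.toMod (A := A))

/-- The inclusion of `FPJ`. -/
abbrev fpG : FPJ A ⥤ ModuleCat.{u} A := inducedFunctor _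

/-- The property of being finitely presented. -/
abbrev fpProp : ObjectProperty (ModuleCat.{u} A) := fun M => Module.FinitePresentation A M

theorem fp_quot {P : Type u} [AddCommGroup P] [Module A P] [Module.FinitePresentation A P]
    (K : Submodule A P) (hK : K.FG) : Module.FinitePresentation A (P ⧸ K) :=
  Module.finitePresentation_of_surjective K.mkQ K.mkQ_surjective (by rw [Submodule.ker_mkQ]; exact hK)

instance fp_toMod (i : FPIdx A) : Module.FinitePresentation A i.toMod :=
  fp_quot A _ (Submodule.fg_span (Set.finite_range i.rel))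

instance fp_obj (j : FPJ A) : Module.FinitePresentation A ((fpG A).obj j) :=
  fp_toMod A j

/-- `FPJ` inside the finitely presented modules. -/
abbrev fpLift : FPJ A ⥤ (fpProp A).FullSubcategory :=
  ObjectProperty.lift _ (fpG A) (fun i => fp_toMod A i)

theorem exists_idx (M : ModuleCat.{u} A) [Module.FinitePresentation A M] :
    ∃ i : FPJ A, Nonempty ((fpG A).obj i ≅ M) := by
  obtain ⟨n, K, e, hK⟩ := Module.FinitePresentation.exists_fin A M
  obtain ⟨m, r, hr⟩ := Submodule.fg_iff_exists_fin_generating_family.1 hK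
  exact ⟨⟨n, m, r⟩, ⟨((Submodule.quotEquivOfEq _ _ hr).trans e.symm).toModuleIso⟩⟩

instance : (fpLift A).IsEquivalence where
  essSurj := ⟨fun M => by
    obtain ⟨i, ⟨e⟩⟩ := @exists_idx A _ M.obj M.property
    exact ⟨i, ⟨ObjectProperty.isoMk _ e⟩⟩⟩

theorem isFinitelyPresentable_of_fp (M : ModuleCat.{u} A) [Module.FinitePresentation A M] :
    IsFinitelyPresentable.{u} M := by
  rw [isFinitelyPresentable_iff_preservesFilteredColimitsOfSize]
  refine ⟨fun K _ _ => ⟨fun {N} => ?_⟩⟩
  haveI : IsIso (colimit.post N (coyoneda.obj (Opposite.op M))) :=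
    (isIso_iff_bijective _).2 (Triage.FPColim.bijective N M)
  exact preservesColimit_of_isIso_post _ _

variable {A}

/-- The arrow given by an element. -/
theorem exists_arrow_eval {X : ModuleCat.{u} A} {n : ℕ} (x : Fin n → X) :
    ∃ (g : CostructuredArrow (fpG A) X) (v : Fin n → (fpG A).obj g.left),
      ∀ k, g.hom.hom (v k) = x k := by
  obtain ⟨i, ⟨e⟩⟩ := exists_idx A (ModuleCat.of A (Fin n → A))
  refine ⟨CostructuredArrow.mk (Y := i) (e.hom ≫ ModuleCat.ofHom (Fintype.linearCombination A x)),
    fun k => e.inv.hom (Pi.single k 1), fun k => ?_⟩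
  have h : e.hom.hom (e.inv.hom (Pi.single k 1)) = Pi.single k 1 :=
    congrArg (fun φ => φ.hom (Pi.single k 1)) e.inv_hom_id
  change Fintype.linearCombination A x (e.hom.hom (e.inv.hom (Pi.single k 1))) = x k
  rw [h, Fintype.linearCombination_apply_single, one_smul]

instance isFiltered_arrow (X : ModuleCat.{u} A) : IsFiltered (CostructuredArrow (fpG A) X) where
  nonempty := by
    obtain ⟨g, -, -⟩ := exists_arrow_eval (X := X) (fun _ : Fin 0 => 0)
    exact ⟨g⟩
  cocone_objs g h := by
    haveI : Module.FinitePresentation A ((fpG A).obj g.left × (fpG A).obj h.left) :=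
      inferInstance
    obtain ⟨i, ⟨e⟩⟩ := exists_idx A (ModuleCat.of A ((fpG A).obj g.left × (fpG A).obj h.left))
    refine ⟨CostructuredArrow.mk (Y := i)
      (e.hom ≫ ModuleCat.ofHom (g.hom.hom.coprod h.hom.hom)),
      CostructuredArrow.homMk (InducedCategory.homMk
        (ModuleCat.ofHom (LinearMap.inl A _ _) ≫ e.inv)) ?_,
      CostructuredArrow.homMk (InducedCategory.homMk
        (ModuleCat.ofHom (LinearMap.inr A _ _) ≫ e.inv)) ?_, trivial⟩
    · change (_ ≫ e.inv) ≫ e.hom ≫ _ = _
      rw [Category.assoc, e.inv_hom_id_assoc]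
      exact ModuleCat.hom_ext (LinearMap.coprod_inl _ _)
    · change (_ ≫ e.inv) ≫ e.hom ≫ _ = _
      rw [Category.assoc, e.inv_hom_id_assoc]
      exact ModuleCat.hom_ext (LinearMap.coprod_inr _ _)
  cocone_maps g h φ ψ := by
    let δ : (fpG A).obj g.left →ₗ[A] (fpG A).obj h.left := φ.left.hom.hom - ψ.left.hom.hom
    haveI : Module.FinitePresentation A (ModuleCat.of A ((fpG A).obj h.left ⧸ LinearMap.range δ)) :=
      fp_quot A _ (Module.Finite.iff_fg.1 (Module.Finite.range δ))
    obtain ⟨i, ⟨e⟩⟩ := exists_idx A (ModuleCat.of A ((fpG A).obj h.left ⧸ LinearMap.range δ))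
    have hle : LinearMap.range δ ≤ LinearMap.ker h.hom.hom := by
      rintro _ ⟨x, rfl⟩
      have h1 := congrArg (fun t => t.hom x) (CostructuredArrow.w φ)
      have h2 := congrArg (fun t => t.hom x) (CostructuredArrow.w ψ)
      change h.hom.hom (φ.left.hom.hom x - ψ.left.hom.hom x) = 0
      rw [map_sub, sub_eq_zero]
      exact h1.trans h2.symm
    refine ⟨CostructuredArrow.mk (Y := i)
      (e.hom ≫ ModuleCat.ofHom ((LinearMap.range δ).liftQ h.hom.hom hle)),
      CostructuredArrow.homMk (InducedCategory.homMk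
        (ModuleCat.ofHom (LinearMap.range δ).mkQ ≫ e.inv)) ?_, ?_⟩
    · change (_ ≫ e.inv) ≫ e.hom ≫ _ = _
      rw [Category.assoc, e.inv_hom_id_assoc]
      exact ModuleCat.hom_ext (Submodule.liftQ_mkQ _ _ _)
    · ext1
      apply InducedCategory.hom_ext
      change φ.left.hom ≫ ModuleCat.ofHom (LinearMap.range δ).mkQ ≫ e.inv =
        ψ.left.hom ≫ ModuleCat.ofHom (LinearMap.range δ).mkQ ≫ e.inv
      rw [← Category.assoc, ← Category.assoc]
      congr 1
      ext x
      exact (Submodule.Quotient.eq _).2 ⟨x, rfl⟩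

theorem eval_eq {X : ModuleCat.{u} A} (s : Cocone (CostructuredArrow.proj (fpG A) X ⋙ fpG A))
    (g g' : CostructuredArrow (fpG A) X) (v : (fpG A).obj g.left) (v' : (fpG A).obj g'.left)
    (h : g.hom.hom v = g'.hom.hom v') : (s.ι.app g).hom v = (s.ι.app g').hom v' := by
  obtain ⟨i, ⟨e⟩⟩ := exists_idx A (ModuleCat.of A A)
  let a : CostructuredArrow (fpG A) X :=
    CostructuredArrow.mk (Y := i) (e.hom ≫ ModuleCat.ofHom (LinearMap.toSpanSingleton A X (g.hom.hom v)))
  have key : ∀ (f : CostructuredArrow (fpG A) X) (w : (fpG A).obj f.left),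
      f.hom.hom w = g.hom.hom v → (s.ι.app f).hom w = (s.ι.app a).hom (e.inv.hom (1 : A)) := by
    intro f w hw
    let φ : a ⟶ f := CostructuredArrow.homMk
      (InducedCategory.homMk (e.hom ≫ ModuleCat.ofHom (LinearMap.toSpanSingleton A _ w))) (by
        change (e.hom ≫ _) ≫ f.hom = e.hom ≫ _
        rw [Category.assoc]
        congr 1
        apply ModuleCat.hom_ext
        apply LinearMap.ext_ring
        change f.hom.hom ((1 : A) • w) = (1 : A) • g.hom.hom v
        rw [one_smul, one_smul, hw])
    have := congrArg (fun t => t.hom (e.inv.hom (1 : A))) (s.w φ)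
    refine Eq.trans ?_ this
    have h1 : e.hom.hom (e.inv.hom (1 : A)) = 1 := congrArg (fun t => t.hom (1 : A)) e.inv_hom_id
    change _ = (s.ι.app f).hom ((LinearMap.toSpanSingleton A _ w) (e.hom.hom (e.inv.hom (1 : A))))
    rw [h1]
    simp
  rw [key g v rfl, key g' v' h.symm]

/-- Every module is the canonical colimit of finitely presented modules. -/
theorem isColimit_canon (X : ModuleCat.{u} A)
    (s : Cocone (CostructuredArrow.proj (fpG A) X ⋙ fpG A)) :
    ∃! d : X ⟶ s.pt, ∀ g : CostructuredArrow (fpG A) X, g.hom ≫ d = s.ι.app g := by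
  choose g v hv using fun x : X => exists_arrow_eval (fun _ : Fin 1 => x)
  let d : X → s.pt := fun x => (s.ι.app (g x)).hom (v x 0)
  have hd : ∀ (f : CostructuredArrow (fpG A) X) (w : (fpG A).obj f.left),
      d (f.hom.hom w) = (s.ι.app f).hom w := fun f w => eval_eq s _ _ _ _ (hv _ 0)
  refine ⟨ModuleCat.ofHom { toFun := d, map_add' := fun x y => ?_, map_smul' := fun a x => ?_ },
    fun f => by ext w; exact hd f w, fun d' hd' => ?_⟩
  · obtain ⟨f, w, hw⟩ := exists_arrow_eval ![x, y]
    have hx : f.hom.hom (w 0) = x := hw 0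
    have hy : f.hom.hom (w 1) = y := hw 1
    rw [← hx, ← hy, ← map_add, hd, hd, hd]
    exact map_add _ _ _
  · have h1 : d (a • x) = d ((g x).hom.hom (a • v x 0)) := by rw [map_smul, hv]
    exact (h1.trans (hd (g x) (a • v x 0))).trans (map_smul (s.ι.app (g x)).hom a (v x 0))
  · ext x
    have := congrArg (fun t => t.hom (v x 0)) (hd' (g x))
    exact (congrArg d'.hom (hv x 0).symm).trans this

instance isDense_fpG : (fpG A).IsDense where
  isDenseAt X := ⟨by
    refine IsColimit.ofExistsUnique fun s => ?_
    obtain ⟨d, hd, huniq⟩ := isColimit_canon X s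
    refine ⟨d, fun g => ?_, fun d' hd' => huniq d' fun g => ?_⟩
    · refine Eq.trans ?_ (hd g)
      dsimp [Functor.LeftExtension.coconeAt]
      exact Category.id_comp (g.hom ≫ d)
    · refine Eq.trans ?_ (hd' g)
      dsimp [Functor.LeftExtension.coconeAt]
      exact (Category.id_comp (g.hom ≫ d')).symm⟩

instance isFPGen_fpG : IsFPGen (fpG A) where
  isFull := inferInstance
  isFaithful := inferInstance
  isDense := inferInstance
  isFiltered := inferInstance
  fp j := isFinitelyPresentable_of_fp A (FPIdx.toMod j)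

end Groth.Agent.RPSM
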