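import Groth.Agent.RPSM.SectColim
import Groth.Agent.RPSM.FPMod
import Groth.Agent.KFlatLib.Scheme.MayerVietoris
import Groth.Agent.QCoh.SpecFT
import Mathlib.CategoryTheory.Presentable.Adjunction
import Mathlib.CategoryTheory.Presentable.Directed
import Mathlib.CategoryTheory.Presentable.Limits

/-!
# Finitely presented quasi-coherent modules are finitely presentable objects

On a quasi-compact quasi-separated scheme a quasi-coherent module of finite presentation is a
finitely presentable object of the category of all modules.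
-/

universe u

set_option backward.isDefEq.respectTransparency false
set_option backward.isDefEq.respectTransparency.types false

open CategoryTheory CategoryTheory.Limits AlgebraicGeometry TopologicalSpace Opposite

attribute [local instance] Cardinal.fact_isRegular_aleph0

namespace Groth.Agent.RPSM

section Spec

variable {R : CommRingCat.{u}}

instance preservesFilteredColimits_moduleSpecΓ :
    PreservesFilteredColimitsOfSize.{u, u} (moduleSpecΓFunctor (R := R)) := by
  refine ⟨fun I _ _ => ?_⟩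
  obtain ⟨α, _, _, _, F, _⟩ := IsFiltered.exists_directed I
  haveI : IsFiltered α := isFiltered_of_directed_le_nonempty α
  suffices h : PreservesColimitsOfShape α (moduleSpecΓFunctor (R := R)) from
    Functor.Final.preservesColimitsOfShape_of_final F _
  refine ⟨fun {D} => ⟨fun {c} hc => ⟨isColimitOfReflects (forget (ModuleCat R)) ?_⟩⟩⟩
  refine Types.FilteredColimit.isColimitOf' _ _ (fun x => ?_) (fun i x y h => ?_)
  · obtain ⟨j, a, ha⟩ := exists_stage hc
      (show IsCompact ((⊤ : (Spec R).Opens) : Set (Spec R)) from isCompact_univ) x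
    exact ⟨j, a, ha.symm⟩
  · obtain ⟨k, hk, e⟩ := exists_eq_stage hc
      (show IsCompact ((⊤ : (Spec R).Opens) : Set (Spec R)) from isCompact_univ) (i := i) x y h
    exact ⟨k, homOfLE hk, e⟩

theorem isFinitelyPresentable_tilde (M : ModuleCat.{u} R) [Module.FinitePresentation R M] :
    IsFinitelyPresentable.{u} (tilde M) := by
  haveI : IsFinitelyPresentable.{u} M := isFinitelyPresentable_of_fp R M
  haveI : (moduleSpecΓFunctor (R := R)).IsCardinalAccessible Cardinal.aleph0.{u} :=
    Functor.IsFinitelyAccessible_iff_preservesFilteredColimitsOfSize.2 inferInstance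
  exact (tilde.adjunction (R := R)).isCardinalPresentable_leftAdjoint_obj Cardinal.aleph0.{u} M

theorem isFinitelyPresentable_spec (M : (Spec R).Modules) (hq : Coh.IsQCoh M)
    (hfp : CohB1.IsFP M) : IsFinitelyPresentable.{u} M := by
  haveI := (QCoh.isFP_iff_finitePresentation M hq).1 hfp
  haveI := isFinitelyPresentable_tilde (moduleSpecΓFunctor.obj M)
  haveI : IsIso (Scheme.Modules.fromTildeΓ M) := (isQuasicoherent_iff_isIso_fromTildeΓ _).1 hq
  exact @isCardinalPresentable_of_iso _ _ _ _ (asIso (Scheme.Modules.fromTildeΓ M)) _ _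
    (isFinitelyPresentable_tilde (moduleSpecΓFunctor.obj M))

end Spec

variable {X U : Scheme.{u}}

theorem isFinitelyPresentable_lsh (j : U ⟶ X) [IsOpenImmersion j] {M : U.Modules}
    (h : IsFinitelyPresentable.{u} M) : IsFinitelyPresentable.{u} ((KFlatLib.lsh j).obj M) := by
  haveI := h
  haveI : PreservesFilteredColimitsOfSize.{u, u} (Scheme.Modules.restrictFunctor j) :=
    ⟨fun _ _ _ => inferInstance⟩
  haveI : (Scheme.Modules.restrictFunctor j).IsCardinalAccessible Cardinal.aleph0.{u} :=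
    Functor.IsFinitelyAccessible_iff_preservesFilteredColimitsOfSize.2 inferInstance
  exact (KFlatLib.lshAdj j).isCardinalPresentable_leftAdjoint_obj Cardinal.aleph0.{u} M

theorem isFP_restrict {M : X.Modules} (h : CohB1.IsFP M) (j : U ⟶ X) [IsOpenImmersion j] :
    CohB1.IsFP (M.restrict j) := by
  refine (QCoh.isFP_iff (QCoh.isQCoh_restrict j (QCoh.isQCoh_of_isFP h))).2 fun V => ?_
  have hV := V.2.image_of_isOpenImmersion j
  haveI := QCoh.finitePresentation_of_isFP h hV
  let ψ : Γ(U, V.1) →+* Γ(X, j ''ᵁ V.1) := (j.appIso V.1).inv.hom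
  letI : Algebra Γ(U, V.1) Γ(X, j ''ᵁ V.1) := ψ.toAlgebra
  letI : Module Γ(U, V.1) Γ(M, j ''ᵁ V.1) := Module.compHom _ ψ
  haveI : IsScalarTower Γ(U, V.1) Γ(X, j ''ᵁ V.1) Γ(M, j ''ᵁ V.1) :=
    IsScalarTower.of_algebraMap_smul fun _ _ => rfl
  let ea : Γ(U, V.1) ≃ₗ[Γ(U, V.1)] Γ(X, j ''ᵁ V.1) :=
    LinearEquiv.ofBijective (Algebra.linearMap Γ(U, V.1) Γ(X, j ''ᵁ V.1))
      (ConcreteCategory.bijective_of_isIso (j.appIso V.1).inv)
  haveI : Module.FinitePresentation Γ(U, V.1) Γ(X, j ''ᵁ V.1) := Module.FinitePresentation.of_equiv ea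
  haveI := Module.FinitePresentation.trans (R := Γ(U, V.1)) (M := Γ(M, j ''ᵁ V.1)) Γ(X, j ''ᵁ V.1)
  let e : Γ(M.restrict j, V.1) ≃ₗ[Γ(U, V.1)] Γ(M, j ''ᵁ V.1) :=
    { (M.restrictAppIso j V.1).addCommGroupIsoToAddEquiv with
      map_smul' := fun r x => congr($(Scheme.Modules.smul_restrictAppIso_hom j M V.1 r) x) }
  exact Module.FinitePresentation.of_equiv e.symm

theorem isFinitelyPresentable_of_isAffine [IsAffine U] (M : U.Modules) (hq : Coh.IsQCoh M)
    (hfp : CohB1.IsFP M) : IsFinitelyPresentable.{u} M := by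
  let e := U.isoSpec.inv
  have h := isFinitelyPresentable_lsh e
    (isFinitelyPresentable_spec (M.restrict e) (QCoh.isQCoh_restrict e hq) (isFP_restrict hfp e))
  have hsurj : ∀ x : U, x ∈ Set.range e.base := fun x => ⟨U.isoSpec.hom.base x, by
    rw [← Scheme.Hom.comp_apply, U.isoSpec.hom_inv_id]; rfl⟩
  haveI : IsIso ((KFlatLib.lshAdj e).counit.app M) := KFlatLib.isIso_of_restrict_of_stalk e _
    (IsIso.of_isIso_fac_left ((KFlatLib.lshAdj e).right_triangle_components M))
    (fun x hx => absurd (hsurj x) hx) (fun x hx => absurd (hsurj x) hx)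
  exact @isCardinalPresentable_of_iso _ _ _ _ (asIso ((KFlatLib.lshAdj e).counit.app M)) _ _ h

open KFlatLib (lshRes lshTrans)

/-- The Mayer-Vietoris sequence of extensions by zero. -/
theorem shortExact_mv (U V : X.Opens) (M : X.Modules) [Fact (U ≤ U ⊔ V)] [Fact (V ≤ U ⊔ V)]
    [Fact (U ⊓ V ≤ U)] [Fact (U ⊓ V ≤ V)] :
    ∃ h : ((lshTrans (U ⊓ V) U).app M) ≫ ((lshTrans U (U ⊔ V)).app M) =
        ((lshTrans (U ⊓ V) V).app M) ≫ ((lshTrans V (U ⊔ V)).app M),
      (ShortComplex.mk (biprod.lift ((lshTrans (U ⊓ V) U).app M) (-(lshTrans (U ⊓ V) V).app M))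
        (biprod.desc ((lshTrans U (U ⊔ V)).app M) ((lshTrans V (U ⊔ V)).app M))
        (by simp [h])).ShortExact := by
  haveI : Fact (U ⊓ V ≤ U ⊔ V) := ⟨inf_le_left.trans le_sup_left⟩
  have h : ((lshTrans (U ⊓ V) U).app M) ≫ ((lshTrans U (U ⊔ V)).app M) =
      ((lshTrans (U ⊓ V) V).app M) ≫ ((lshTrans V (U ⊔ V)).app M) := by
    refine ((KFlatLib.lshAdj (U ⊓ V).ι).homEquiv _ _).injective ?_
    haveI : IsIso ((Scheme.Modules.restrictFunctor (U ⊓ V).ι).map
        ((KFlatLib.lshAdj (U ⊔ V).ι).counit.app M)) := inferInstance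
    rw [← cancel_mono ((Scheme.Modules.restrictFunctor (U ⊓ V).ι).map
        ((KFlatLib.lshAdj (U ⊔ V).ι).counit.app M))]
    erw [← (KFlatLib.lshAdj (U ⊓ V).ι).homEquiv_naturality_right,
      ← (KFlatLib.lshAdj (U ⊓ V).ι).homEquiv_naturality_right]
    rw [Category.assoc, Category.assoc, KFlatLib.lshTrans_counit, KFlatLib.lshTrans_counit,
      KFlatLib.lshTrans_counit, KFlatLib.lshTrans_counit]
  refine ⟨h, (KFlatLib.shortExact_iff_stalk _).2 fun x => ?_⟩
  let Φ := DerSch.stalkFunctor X x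
  by_cases hx : x ∈ U
  · exact KFlatLib.shortExact_map_mv Φ _ _ _ _ h
      (KFlatLib.isIso_stalk_lshTrans (U ⊓ V) V M x
        ((Classical.em (x ∈ V)).imp (fun hv => ⟨hx, hv⟩) id))
      (KFlatLib.isIso_stalk_lshTrans U (U ⊔ V) M x (Or.inl hx))
  · have h1 := KFlatLib.shortExact_map_mv Φ _ _ _ _ h.symm
      (KFlatLib.isIso_stalk_lshTrans (U ⊓ V) U M x (Or.inr hx))
      (KFlatLib.isIso_stalk_lshTrans V (U ⊔ V) M x
        ((Classical.em (x ∈ V)).imp id fun hv hs => ((Opens.mem_sup).1 hs).elim hx hv))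
    refine ShortComplex.shortExact_of_iso ?_ h1
    refine ShortComplex.isoMk (-(Iso.refl _)) (Φ.mapIso (biprod.braiding _ _)) (Iso.refl _) ?_ ?_
    · change (-(𝟙 _)) ≫ Φ.map _ = Φ.map _ ≫ Φ.map _
      refine ((Preadditive.neg_comp _ _).trans (congrArg Neg.neg (Category.id_comp _))).trans ?_
      refine Eq.trans ?_ (Φ.map_comp _ _)
      refine (Φ.map_neg).symm.trans (congrArg Φ.map ?_)
      apply biprod.hom_ext <;> simp
    · change Φ.map _ ≫ Φ.map _ = Φ.map _ ≫ 𝟙 _
      refine ((Φ.map_comp _ _).symm.trans ?_).trans (Category.comp_id _).symm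
      refine congrArg Φ.map ?_
      apply biprod.hom_ext' <;> simp

theorem epi_of_stalk {M N : X.Modules} (p : M ⟶ N)
    (h : ∀ x, Epi ((DerSch.stalkFunctor X x).map p)) : Epi p :=
  (ShortComplex.exact_iff_epi (ShortComplex.mk p (0 : N ⟶ N) comp_zero) rfl).1
    ((KFlatLib.exact_iff_stalk _).2 fun x => ((ShortComplex.mk p (0 : N ⟶ N) comp_zero).map
      (DerSch.stalkFunctor X x)).exact_iff_epi ((DerSch.stalkFunctor X x).map_zero _ _) |>.2 (h x))

theorem isFinitelyPresentable_biprod {C : Type*} [Category.{u} C] [HasZeroMorphisms C]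
    (A B : C) [HasBinaryBiproduct A B] (hA : IsFinitelyPresentable.{u} A)
    (hB : IsFinitelyPresentable.{u} B) : IsFinitelyPresentable.{u} (A ⊞ B) := by
  haveI : ∀ k, IsCardinalPresentable ((pair A B).obj k) Cardinal.aleph0.{u} := by
    rintro ⟨⟨⟩⟩ <;> assumption
  exact isCardinalPresentable_of_isColimit.{u} _ (BinaryBiproduct.isColimit A B) Cardinal.aleph0.{u}
    ((hasCardinalLT_aleph0_iff _).2 inferInstance)

theorem isFinitelyPresentable_cokernel {C : Type*} [Category.{u} C] [HasZeroMorphisms C]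
    {A B Q : C} (f : A ⟶ B) (q : B ⟶ Q) (w : f ≫ q = 0)
    (hq : IsColimit (CokernelCofork.ofπ q w)) (hA : IsFinitelyPresentable.{u} A)
    (hB : IsFinitelyPresentable.{u} B) : IsFinitelyPresentable.{u} Q := by
  haveI : ∀ k, IsCardinalPresentable ((parallelPair f 0).obj k) Cardinal.aleph0.{u} := by
    rintro ⟨⟩ <;> assumption
  exact isCardinalPresentable_of_isColimit.{u} _ hq Cardinal.aleph0.{u}
    ((hasCardinalLT_aleph0_iff _).2 inferInstance)

variable {M : X.Modules} (hq : Coh.IsQCoh M) (hfp : CohB1.IsFP M)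
include hq hfp

theorem isFinitelyPresentable_lshRes_affine {A : X.Opens} (hA : IsAffineOpen A) :
    IsFinitelyPresentable.{u} ((lshRes A).obj M) := by
  haveI : IsAffine (A : Scheme.{u}) := hA
  exact isFinitelyPresentable_lsh A.ι
    (isFinitelyPresentable_of_isAffine _ (QCoh.isQCoh_restrict A.ι hq) (isFP_restrict hfp A.ι))

theorem exists_epi_of_compact {W : X.Opens} (hW : IsCompact (W : Set X)) :
    ∃ (P : X.Modules) (p : P ⟶ (lshRes W).obj M), IsFinitelyPresentable.{u} P ∧ Epi p := by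
  classical
  obtain ⟨T, hT⟩ := hW.elim_finite_subcover
    (fun A : {A : X.affineOpens // A.1 ≤ W} => (A.1.1 : Set X)) (fun A => A.1.1.2) (fun x hx => by
      obtain ⟨_, ⟨A, hA, rfl⟩, hxA, hAW⟩ := X.isBasis_affineOpens.exists_subset_of_mem_open hx W.2
      exact Set.mem_iUnion.2 ⟨⟨⟨A, hA⟩, hAW⟩, hxA⟩)
  haveI : HasFiniteBiproducts X.Modules := HasFiniteBiproducts.of_hasFiniteProducts
  haveI : ∀ a : T, Fact (a.1.1.1 ≤ W) := fun a => ⟨a.1.2⟩
  refine ⟨⨁ fun a : T => (lshRes a.1.1.1).obj M,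
    biproduct.desc fun a : T => (lshTrans a.1.1.1 W).app M, ?_, ?_⟩
  · haveI : ∀ k, IsCardinalPresentable
        ((Discrete.functor fun a : T => (lshRes a.1.1.1).obj M).obj k) Cardinal.aleph0.{u} :=
      fun k => isFinitelyPresentable_lshRes_affine hq hfp k.as.1.1.2
    exact isCardinalPresentable_of_isColimit.{u} _ (biproduct.isColimit _) Cardinal.aleph0.{u}
      ((hasCardinalLT_aleph0_iff _).2 inferInstance)
  · refine epi_of_stalk _ fun x => ?_
    by_cases hx : x ∈ W
    · obtain ⟨a, ha, hxa⟩ := Set.mem_iUnion₂.1 (hT hx)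
      haveI := KFlatLib.isIso_stalk_lshTrans a.1.1 W M x (h := ⟨a.2⟩) (Or.inl hxa)
      haveI : Epi ((DerSch.stalkFunctor X x).map
          (biproduct.ι (fun a : T => (lshRes a.1.1.1).obj M) ⟨a, ha⟩) ≫
          (DerSch.stalkFunctor X x).map (biproduct.desc fun a : T => (lshTrans a.1.1.1 W).app M)) := by
        rw [← Functor.map_comp, biproduct.ι_desc]
        infer_instance
      exact epi_of_epi ((DerSch.stalkFunctor X x).map
        (biproduct.ι (fun a : T => (lshRes a.1.1.1).obj M) ⟨a, ha⟩)) _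
    · have hW' : x ∉ Set.range W.ι.base := fun ⟨w, hw⟩ => hx (hw ▸ w.2)
      exact ⟨fun _ _ _ => (KFlatLib.isZero_stalk_lsh W.ι x hW' _).eq_of_src _ _⟩

theorem isFinitelyPresentable_lshRes_biUnion [QuasiSeparatedSpace X] (T : Finset X.affineOpens) :
    IsFinitelyPresentable.{u} ((lshRes (T.sup fun A => A.1)).obj M) := by
  classical
  induction T using Finset.induction with
  | empty =>
    have : (Finset.sup (∅ : Finset X.affineOpens) fun A => A.1) = ⊥ := Finset.sup_empty
    rw [this]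
    exact isFinitelyPresentable_lshRes_affine hq hfp (isAffineOpen_bot X)
  | insert A T hA ih =>
    rw [Finset.sup_insert]
    generalize hV : (T.sup fun A : X.affineOpens => A.1) = V at ih
    have hVc : IsCompact (V : Set X) := by
      rw [← hV, show ((T.sup fun A : X.affineOpens => A.1 : X.Opens) : Set X) =
        ⋃ A ∈ T, (A.1 : Set X) by simp [Finset.sup_eq_iSup]]
      exact T.finite_toSet.isCompact_biUnion fun B _ => B.2.isCompact
    haveI : Fact (A.1 ≤ A.1 ⊔ V) := ⟨le_sup_left⟩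
    haveI : Fact (V ≤ A.1 ⊔ V) := ⟨le_sup_right⟩
    haveI : Fact (A.1 ⊓ V ≤ A.1) := ⟨inf_le_left⟩
    haveI : Fact (A.1 ⊓ V ≤ V) := ⟨inf_le_right⟩
    obtain ⟨h, hS⟩ := shortExact_mv A.1 V M
    obtain ⟨P, p, hP, hp⟩ := exists_epi_of_compact hq hfp (W := A.1 ⊓ V)
      (QuasiSeparatedSpace.inter_isCompact _ _ A.1.2 A.2.isCompact V.2 hVc)
    haveI := hp
    have := hS.epi_g
    have hc := hS.gIsCokernel
    exact isFinitelyPresentable_cokernel _ _ _ (isCokernelEpiComp hc p rfl) hP
      (isFinitelyPresentable_biprod _ _ (isFinitelyPresentable_lshRes_affine hq hfp A.2) ih)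

/-- On a quasi-compact quasi-separated scheme, quasi-coherent modules of finite presentation are
finitely presentable among all modules. -/
theorem isFinitelyPresentable_of_isFP [CompactSpace X] [QuasiSeparatedSpace X] :
    IsFinitelyPresentable.{u} M := by
  classical
  obtain ⟨T, hT⟩ := isCompact_univ.elim_finite_subcover (fun A : X.affineOpens => (A.1 : Set X))
    (fun A => A.1.2) (fun x _ => by
      obtain ⟨_, ⟨A, hA, rfl⟩, hxA, -⟩ :=
        X.isBasis_affineOpens.exists_subset_of_mem_open (Set.mem_univ x) isOpen_univ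
      exact Set.mem_iUnion.2 ⟨⟨A, hA⟩, hxA⟩)
  have hP := isFinitelyPresentable_lshRes_biUnion hq hfp T
  have htop : ∀ x : X, x ∈ (T.sup fun A : X.affineOpens => A.1) := fun x => by
    obtain ⟨A, hA, hxA⟩ := Set.mem_iUnion₂.1 (hT (Set.mem_univ x))
    exact Finset.le_sup (f := fun A : X.affineOpens => A.1) hA hxA
  haveI : IsIso ((KFlatLib.lshAdj (T.sup fun A : X.affineOpens => A.1).ι).counit.app M) :=
    KFlatLib.isIso_of_stalk _ fun x => KFlatLib.isIso_stalk_lsh_counit _ M x (htop x)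
  exact @isCardinalPresentable_of_iso _ _ _ _
    (asIso ((KFlatLib.lshAdj (T.sup fun A : X.affineOpens => A.1).ι).counit.app M)) _ _ hP

end Groth.Agent.RPSM
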