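import Mathlib.CategoryTheory.Functor.KanExtension.Dense
import Mathlib.CategoryTheory.Presentable.Finite
import Mathlib.CategoryTheory.Preadditive.AdditiveFunctor
import Mathlib.CategoryTheory.Limits.Constructions.Filtered

/-!
# Extending functors from a dense subcategory of finitely presentable objects

`G : J ⥤ C` is fully faithful with finitely presentable values, every object of `C` being
the canonical filtered colimit of objects coming from `J`.
-/

universe u u₁ u₂ v₂

open CategoryTheory CategoryTheory.Limits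

namespace Groth.Agent.RPSM

variable {J : Type u} [SmallCategory J] {C : Type u₁} [Category.{u} C]
  {B : Type u₂} [Category.{v₂} B]

/-- `G` exhibits `J` as a generating category of finitely presentable objects. -/
class IsFPGen (G : J ⥤ C) : Prop where
  isFull : G.Full
  isFaithful : G.Faithful
  isDense : G.IsDense
  isFiltered : ∀ X, IsFiltered (CostructuredArrow G X)
  fp : ∀ j, IsFinitelyPresentable.{u} (G.obj j)

attribute [instance] IsFPGen.isFull IsFPGen.isFaithful IsFPGen.isDense IsFPGen.isFiltered IsFPGen.fp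

variable (G : J ⥤ C) [IsFPGen G]

section Colimit

/-- The canonical cocone on an object. -/
@[simps]
def canonCocone (X : C) : Cocone (CostructuredArrow.proj G X ⋙ G) where
  pt := X
  ι :=
  { app := fun g => g.hom
    naturality := fun g₁ g₂ φ => (CostructuredArrow.w φ).trans (Category.comp_id _).symm }

/-- The canonical cocone of `X`, mapped by a functor preserving filtered colimits. -/
noncomputable def isColimitMapCanonical (F' : C ⥤ B) [PreservesFilteredColimitsOfSize.{u, u} F']
    (X : C) : IsColimit (F'.mapCocone (canonCocone G X)) :=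
  isColimitOfPreserves F'
    (IsColimit.ofIsoColimit (G.denseAt X) (Cocone.ext (Iso.refl _) fun g => by
      dsimp [canonCocone, Functor.LeftExtension.coconeAt]
      exact (Category.comp_id _).trans (Category.id_comp _)))

theorem hom_ext_of_preserves (F' : C ⥤ B) [PreservesFilteredColimitsOfSize.{u, u} F'] {X : C}
    {Z : B} (a b : F'.obj X ⟶ Z)
    (h : ∀ (j : J) (q : G.obj j ⟶ X), F'.map q ≫ a = F'.map q ≫ b) : a = b :=
  (isColimitMapCanonical G F' X).hom_ext fun g => h g.left g.hom

/-- A left extension whose unit is invertible, preserving filtered colimits, is pointwise. -/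
theorem isPointwise {F : J ⥤ B} (F' : C ⥤ B) [PreservesFilteredColimitsOfSize.{u, u} F']
    (e : F ≅ G ⋙ F') :
    Nonempty (Functor.LeftExtension.mk F' e.hom).IsPointwiseLeftKanExtension := by
  refine ⟨fun X => ?_⟩
  let i : (CostructuredArrow.proj G X ⋙ F) ≅ (CostructuredArrow.proj G X ⋙ G) ⋙ F' :=
    Functor.isoWhiskerLeft (CostructuredArrow.proj G X) e ≪≫ (Functor.associator _ _ _).symm
  refine IsColimit.ofIsoColimit
    ((IsColimit.precomposeHomEquiv i _).symm (isColimitMapCanonical G F' X))
    (Cocone.ext (Iso.refl _) fun g => ?_)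
  have hc := Category.comp_id (e.hom.app g.left ≫ F'.map g.hom)
  refine Eq.trans ?_ hc
  simp [i, canonCocone, Functor.LeftExtension.coconeAt]
  exact congrArg (fun z => e.hom.app g.left ≫ z) (Category.comp_id (F'.map g.hom))

theorem iso_of_restrict_iso (F₁ F₂ : C ⥤ B) [PreservesFilteredColimitsOfSize.{u, u} F₁]
    [PreservesFilteredColimitsOfSize.{u, u} F₂] (e : G ⋙ F₁ ≅ G ⋙ F₂) : Nonempty (F₁ ≅ F₂) := by
  have : F₁.IsLeftKanExtension (Iso.refl (G ⋙ F₁)).hom :=
    (isPointwise G F₁ (Iso.refl _)).some.isLeftKanExtension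
  have : F₂.IsLeftKanExtension e.hom := (isPointwise G F₂ e).some.isLeftKanExtension
  exact ⟨Functor.leftKanExtensionUnique F₁ (Iso.refl (G ⋙ F₁)).hom F₂ e.hom⟩

variable {G}

theorem preservesFiltered_of_pointwise {F : J ⥤ B} (E : C ⥤ B) (η : F ⟶ G ⋙ E)
    (h : (Functor.LeftExtension.mk E η).IsPointwiseLeftKanExtension) :
    PreservesFilteredColimitsOfSize.{u, u} E := by
  refine ⟨fun K _ _ => ⟨fun {D} => ⟨fun {c} hc => ?_⟩⟩⟩
  have ext' : ∀ {X : C} {Z : B} (a b : E.obj X ⟶ Z), (∀ (j : J) (q : G.obj j ⟶ X),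
      η.app j ≫ E.map q ≫ a = η.app j ≫ E.map q ≫ b) → a = b := fun {X Z} a b hab =>
    (h X).hom_ext fun g => (Category.assoc (η.app g.left) (E.map g.hom) a).trans
      ((hab g.left g.hom).trans (Category.assoc (η.app g.left) (E.map g.hom) b).symm)
  have indep : ∀ (s : Cocone (D ⋙ E)) (j : J) (k k' : K) (f : G.obj j ⟶ D.obj k)
      (f' : G.obj j ⟶ D.obj k'), f ≫ c.ι.app k = f' ≫ c.ι.app k' →
      η.app j ≫ E.map f ≫ s.ι.app k = η.app j ≫ E.map f' ≫ s.ι.app k' := by
    intro s j k k' f f' hff
    obtain ⟨l, a, b, hab⟩ := IsFinitelyPresentable.exists_eq_of_isColimit hc f f' hff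
    have ha : E.map (D.map a) ≫ s.ι.app l = s.ι.app k := s.w a
    have hb : E.map (D.map b) ≫ s.ι.app l = s.ι.app k' := s.w b
    rw [← ha, ← hb, ← Functor.map_comp_assoc, ← Functor.map_comp_assoc, hab]
  have fact : ∀ g : CostructuredArrow G c.pt,
      ∃ (k : K) (p : G.obj g.left ⟶ D.obj k), p ≫ c.ι.app k = g.hom := fun g =>
    IsFinitelyPresentable.exists_hom_of_isColimit hc g.hom
  choose k p hp using fact
  let t : ∀ s : Cocone (D ⋙ E), Cocone (CostructuredArrow.proj G c.pt ⋙ F) := fun s =>
    { pt := s.pt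
      ι :=
      { app := fun g => η.app g.left ≫ E.map (p g) ≫ s.ι.app (k g)
        naturality := fun g₁ g₂ φ => by
          change F.map φ.left ≫ η.app g₂.left ≫ E.map (p g₂) ≫ s.ι.app (k g₂) =
            (η.app g₁.left ≫ E.map (p g₁) ≫ s.ι.app (k g₁)) ≫ 𝟙 s.pt
          refine Eq.trans ?_ (Category.comp_id _).symm
          rw [η.naturality_assoc, Functor.comp_map, ← E.map_comp_assoc]
          refine indep s g₁.left _ _ (G.map φ.left ≫ p g₂) (p g₁) ?_
          rw [Category.assoc, hp, hp]
          exact CostructuredArrow.w φ } }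
  let d : ∀ s : Cocone (D ⋙ E), E.obj c.pt ⟶ s.pt := fun s => (h c.pt).desc (t s)
  have fac : ∀ (s : Cocone (D ⋙ E)) (g : CostructuredArrow G c.pt),
      η.app g.left ≫ E.map g.hom ≫ d s = η.app g.left ≫ E.map (p g) ≫ s.ι.app (k g) :=
    fun s g => (Category.assoc (η.app g.left) (E.map g.hom) (d s)).symm.trans ((h c.pt).fac (t s) g)
  refine ⟨⟨d, fun s i => ext' _ _ fun j q => ?_, fun s m hm => ext' _ _ fun j q => ?_⟩⟩
  · have h1 := fac s (CostructuredArrow.mk (q ≫ c.ι.app i))
    refine Eq.trans ?_ (h1.trans (indep s j _ _ _ _ (hp _)))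
    change η.app j ≫ E.map q ≫ E.map (c.ι.app i) ≫ d s = η.app j ≫ E.map (q ≫ c.ι.app i) ≫ d s
    rw [E.map_comp_assoc]
  · refine Eq.trans ?_ (fac s (CostructuredArrow.mk q)).symm
    have hm' : ∀ i, E.map (c.ι.app i) ≫ m = s.ι.app i := hm
    change _ = η.app j ≫ E.map (p (CostructuredArrow.mk q)) ≫ s.ι.app (k (CostructuredArrow.mk q))
    rw [← hm', ← E.map_comp_assoc, hp]
    rfl

variable (G)

theorem exists_ext [HasFilteredColimitsOfSize.{u, u} B] (F : J ⥤ B) :
    ∃ F' : C ⥤ B, PreservesFilteredColimitsOfSize.{u, u} F' ∧ Nonempty (G ⋙ F' ≅ F) := by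
  haveI : ∀ X, HasColimitsOfShape (CostructuredArrow G X) B := fun X =>
    HasFilteredColimitsOfSize.HasColimitsOfShape _
  haveI : G.HasPointwiseLeftKanExtension F := fun X => inferInstance
  let h := Functor.pointwiseLeftKanExtensionIsPointwiseLeftKanExtension G F
  haveI : IsIso (Functor.pointwiseLeftKanExtensionUnit G F) := h.isIso_hom
  exact ⟨_, preservesFiltered_of_pointwise _ _ h,
    ⟨(asIso (Functor.pointwiseLeftKanExtensionUnit G F)).symm⟩⟩

end Colimit

section Additive

variable [Preadditive J] [Preadditive C] [G.Additive] [Preadditive B]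

theorem additive_of_restrict (F' : C ⥤ B) [PreservesFilteredColimitsOfSize.{u, u} F']
    [(G ⋙ F').Additive] : F'.Additive where
  map_add {X Y f g} := by
    apply hom_ext_of_preserves G F'
    intro j q
    let a : CostructuredArrow G Y := CostructuredArrow.mk (q ≫ f)
    let b : CostructuredArrow G Y := CostructuredArrow.mk (q ≫ g)
    let m := IsFiltered.max a b
    let α : j ⟶ m.left := (IsFiltered.leftToMax a b).left
    let β : j ⟶ m.left := (IsFiltered.rightToMax a b).left
    have hα : G.map α ≫ m.hom = q ≫ f := CostructuredArrow.w (IsFiltered.leftToMax a b)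
    have hβ : G.map β ≫ m.hom = q ≫ g := CostructuredArrow.w (IsFiltered.rightToMax a b)
    have hsum : F'.map (G.map (α + β)) = F'.map (G.map α) + F'.map (G.map β) :=
      (G ⋙ F').map_add
    rw [Preadditive.comp_add, ← F'.map_comp, ← F'.map_comp, ← F'.map_comp, Preadditive.comp_add,
      ← hα, ← hβ, ← Preadditive.add_comp, ← G.map_add, F'.map_comp, hsum, Preadditive.add_comp,
      F'.map_comp, F'.map_comp]

end Additive

/-- An additive functor commuting with filtered colimits commutes with direct sums. -/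
theorem preservesCoproducts_of_filtered {C : Type u₁} [Category.{u} C] [Preadditive C]
    [HasFiniteBiproducts C] [HasColimitsOfSize.{u, u} C] [Preadditive B]
    (F' : C ⥤ B) [F'.Additive] [PreservesFilteredColimitsOfSize.{u, u} F'] (α : Type u) :
    PreservesColimitsOfShape (Discrete α) F' := by
  classical
  refine ⟨fun {D} => ?_⟩
  suffices h : ∀ f : α → C, PreservesColimit (Discrete.functor f) F' by
    haveI := h (fun a => D.obj ⟨a⟩)
    exact preservesColimit_of_iso_diagram F' Discrete.natIsoFunctor.symm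
  intro f
  refine preservesColimit_of_preserves_colimit_cocone (coproductIsCoproduct f) ?_
  let hcol := isColimitOfPreserves F'
    (CoproductsFromFiniteFiltered.isColimitFiniteSubproductsCocone f)
  let hfin : ∀ S : Finset (Discrete α),
      IsColimit (Cofan.mk (F'.obj (∐ fun x : S => f x.1.as))
        (fun x => F'.map (Sigma.ι (fun x : S => f x.1.as) x))) := fun S =>
    isColimitCofanMkObjOfIsColimit F' (fun x : S => f x.1.as) (Sigma.ι _) (coproductIsCoproduct _)
  let t : ∀ s : Cocone (Discrete.functor f ⋙ F'),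
      Cocone (CoproductsFromFiniteFiltered.liftToFinsetObj (Discrete.functor f) ⋙ F') := fun s =>
    { pt := s.pt
      ι :=
      { app := fun S => (hfin S).desc (Cofan.mk s.pt fun x => s.ι.app x.1)
        naturality := fun S T i => by
          apply (hfin S).hom_ext
          rintro ⟨x⟩
          change F'.map (Sigma.ι (fun y : S => f y.1.as) x) ≫
              F'.map (Sigma.desc fun y : S =>
                Sigma.ι (fun z : T => f z.1.as) ⟨y.1, i.down.down y.2⟩) ≫
                (hfin T).desc (Cofan.mk s.pt fun x => s.ι.app x.1) =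
            F'.map (Sigma.ι (fun y : S => f y.1.as) x) ≫
              (hfin S).desc (Cofan.mk s.pt fun x => s.ι.app x.1) ≫ 𝟙 s.pt
          refine Eq.trans ?_ (congrArg (F'.map (Sigma.ι (fun y : S => f y.1.as) x) ≫ ·)
            (Category.comp_id _)).symm
          rw [← Functor.map_comp_assoc, Sigma.ι_desc]
          exact ((hfin T).fac (Cofan.mk s.pt fun x => s.ι.app x.1) ⟨⟨x.1, i.down.down x.2⟩⟩).trans
            ((hfin S).fac (Cofan.mk s.pt fun x => s.ι.app x.1) ⟨x⟩).symm } }
  let d : ∀ s : Cocone (Discrete.functor f ⋙ F'), F'.obj (∐ f) ⟶ s.pt := fun s => hcol.desc (t s)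
  have hfac : ∀ (s : Cocone (Discrete.functor f ⋙ F')) (S : Finset (Discrete α)) (x : S),
      F'.map (Sigma.ι f x.1.as) ≫ d s = s.ι.app x.1 := fun s S x => by
    have h1 : F'.map (Sigma.desc fun y : S => Sigma.ι f y.1.as) ≫ d s =
        (hfin S).desc (Cofan.mk s.pt fun y => s.ι.app y.1) := hcol.fac (t s) S
    have h2 : F'.map (Sigma.ι (fun y : S => f y.1.as) x) ≫
        (hfin S).desc (Cofan.mk s.pt fun y => s.ι.app y.1) = s.ι.app x.1 :=
      (hfin S).fac (Cofan.mk s.pt fun y => s.ι.app y.1) ⟨x⟩
    rw [← h2, ← h1, ← F'.map_comp_assoc, Sigma.ι_desc]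
  refine ⟨d, fun s a => ?_, fun s m hm => ?_⟩
  · exact hfac s {a} ⟨a, Finset.mem_singleton_self a⟩
  · refine hcol.hom_ext fun S => (hfin S).hom_ext fun x => ?_
    obtain ⟨x⟩ := x
    have hm' : ∀ a : Discrete α, F'.map (Sigma.ι f a.as) ≫ m = s.ι.app a := hm
    change F'.map (Sigma.ι (fun y : S => f y.1.as) x) ≫
        F'.map (Sigma.desc fun y : S => Sigma.ι f y.1.as) ≫ m =
      F'.map (Sigma.ι (fun y : S => f y.1.as) x) ≫
        F'.map (Sigma.desc fun y : S => Sigma.ι f y.1.as) ≫ d s
    rw [← F'.map_comp_assoc, ← F'.map_comp_assoc, Sigma.ι_desc, hm', hfac]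

end Groth.Agent.RPSM
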