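import Groth.Agent.RPSM.SerreClass
import Groth.Agent.RPSM.PushColim
import Groth.Agent.RPSM.FPExt
import Groth.Agent.RPSM.Compact
import Groth.Agent.RPSM.QCohCat
import Groth.Agent.QCoh.SpecFT
import Groth.Agent.QCoh.Support
import Groth.Agent.QCoh.Extension
import Groth.Agent.QCoh.Tilde
import Groth.Agent.KFlatLib.Scheme.Grothendieck
import Groth.Agent.KFlatLib.Scheme.Tilde

/-!
# Serre classes of quasi-coherent modules generated by a finitely presented module
-/

universe u

set_option linter.style.haveILetI false
set_option backward.isDefEq.respectTransparency false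
set_option backward.isDefEq.respectTransparency.types false
set_option synthInstance.maxHeartbeats 200000

open CategoryTheory CategoryTheory.Limits AlgebraicGeometry TopologicalSpace Opposite
open scoped DirectSum

namespace Groth.Agent.RPSM

variable {X W : Scheme.{u}}

instance preservesHomology_stalkFunctor (x : X) : (DerSch.stalkFunctor X x).PreservesHomology :=
  Functor.preservesHomology_of_map_exact _ fun _ hT => (KFlatLib.exact_iff_stalk _).1 hT x

theorem notMem_support_iff_isZero (M : X.Modules) (x : X) :
    x ∉ CohB1.support M ↔ IsZero ((DerSch.stalkFunctor X x).obj M) := by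
  constructor
  · intro h
    haveI : Subsingleton ((DerSch.stalkFunctor X x).obj M : Type u) := not_not.1 h
    exact ModuleCat.isZero_of_subsingleton _
  · exact fun h hx => hx (ModuleCat.subsingleton_of_isZero h)

theorem support_of_iso {M N : X.Modules} (e : M ≅ N) : CohB1.support M = CohB1.support N := by
  ext x
  rw [← not_iff_not, notMem_support_iff_isZero, notMem_support_iff_isZero]
  exact ⟨fun h => h.of_iso ((DerSch.stalkFunctor X x).mapIso e).symm,
    fun h => h.of_iso ((DerSch.stalkFunctor X x).mapIso e)⟩

theorem support_subset_of_mono {M N : X.Modules} (f : M ⟶ N) [Mono f] :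
    CohB1.support M ⊆ CohB1.support N := fun x hx => by
  by_contra h
  rw [notMem_support_iff_isZero] at h
  exact ((notMem_support_iff_isZero M x).2 (IsZero.of_mono ((DerSch.stalkFunctor X x).map f) h)) hx

theorem support_subset_of_epi {M N : X.Modules} (f : M ⟶ N) [Epi f] :
    CohB1.support N ⊆ CohB1.support M := fun x hx => by
  by_contra h
  rw [notMem_support_iff_isZero] at h
  exact ((notMem_support_iff_isZero N x).2 (IsZero.of_epi ((DerSch.stalkFunctor X x).map f) h)) hx

/-- The support of a direct image lies in every closed set containing the image of the support. -/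
theorem support_push_subset (j : W ⟶ X) (K : W.Modules) {T : Set X} (hT : IsClosed T)
    (h : CohB1.support K ⊆ j.base ⁻¹' T) :
    CohB1.support ((Scheme.Modules.pushforward j).obj K) ⊆ T := fun y hy => by
  by_contra hyT
  refine hy (subsingleton_of_forall_eq 0 fun t => ?_)
  obtain ⟨V, hyV, m, rfl⟩ := ((Scheme.Modules.pushforward j).obj K).presheaf.exists_germ_eq t
  let O : X.Opens := V ⊓ ⟨Tᶜ, hT.isOpen_compl⟩
  have hm : ((Scheme.Modules.pushforward j).obj K).presheaf.map
      (homOfLE (inf_le_left : O ≤ V)).op m = 0 := by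
    refine TopCat.Presheaf.section_ext
      ⟨K.presheaf, ((SheafOfModules.toSheaf W.ringCatSheaf).obj K).property⟩ (j ⁻¹ᵁ O) _ _
      fun w hw => ?_
    haveI : Subsingleton (K.presheaf.stalk w) := not_not.1 fun hs => hw.2 (h hs)
    exact Subsingleton.elim (α := K.presheaf.stalk w) _ _
  rw [← TopCat.Presheaf.germ_res_apply _ (homOfLE (inf_le_left : O ≤ V)) y ⟨hyV, hyT⟩ m, hm]
  exact map_zero _

/-- The stalks of a direct image along an open immersion, in the open. -/
theorem mem_support_push_iff (j : W ⟶ X) [IsOpenImmersion j] (K : W.Modules) (w : W) :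
    j.base w ∈ CohB1.support ((Scheme.Modules.pushforward j).obj K) ↔ w ∈ CohB1.support K := by
  have e : (Scheme.Modules.restrictFunctor j).obj ((Scheme.Modules.pushforward j).obj K) ≅ K :=
    asIso ((Scheme.Modules.restrictAdjunction j).counit.app K)
  rw [← support_of_iso e]
  exact not_congr (Equiv.subsingleton_congr
    ((Scheme.Modules.restrictStalkNatIso j w).app ((Scheme.Modules.pushforward j).obj K)).symm.addCommGroupIsoToAddEquiv.toEquiv)

theorem mem_support_restrict_iff (j : W ⟶ X) [IsOpenImmersion j] (M : X.Modules) (w : W) :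
    w ∈ CohB1.support ((Scheme.Modules.restrictFunctor j).obj M) ↔ j.base w ∈ CohB1.support M :=
  not_congr (Equiv.subsingleton_congr
    ((Scheme.Modules.restrictStalkNatIso j w).app M).addCommGroupIsoToAddEquiv.toEquiv)

theorem mem_support_tilde_iff {R : CommRingCat.{u}} (N : ModuleCat.{u} R) (p : Spec R) :
    p ∈ CohB1.support ((tilde.functor R).obj N) ↔ p ∈ Module.support R N := by
  rw [Module.mem_support_iff, ← not_subsingleton_iff_nontrivial]
  exact not_congr (Equiv.subsingleton_congr
    (IsLocalizedModule.iso p.asIdeal.primeCompl (tilde.toStalk N p).hom).symm.toEquiv)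

/-- Reduction modulo an ideal. -/
noncomputable abbrev modMap {A : CommRingCat.{u}} (N : ModuleCat.{u} A) (J : Ideal A) :
    N ⟶ ModuleCat.of A ((N : Type u) ⧸ (J • ⊤ : Submodule A N)) :=
  ModuleCat.ofHom (Submodule.mkQ _)

theorem epi_modMap {A : CommRingCat.{u}} (N : ModuleCat.{u} A) (J : Ideal A) : Epi (modMap N J) :=
  (ModuleCat.epi_iff_surjective _).2 (Submodule.mkQ_surjective _)

section Class

variable [CompactSpace X] [QuasiSeparatedSpace X] (P : ObjectProperty X.Modules)
  (hSerre : ∀ S : ShortComplex X.Modules, S.ShortExact → Coh.IsQCoh S.X₁ → Coh.IsQCoh S.X₂ →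
    Coh.IsQCoh S.X₃ → (P S.X₂ ↔ P S.X₁ ∧ P S.X₃))
include hSerre

omit [CompactSpace X] [QuasiSeparatedSpace X] in
theorem class_zero {F : X.Modules} (hFq : Coh.IsQCoh F) (hF : P F) {Z : X.Modules} (hZ : IsZero Z) :
    P Z := by
  have hZq : Coh.IsQCoh Z :=
    (QCoh.isQCoh_iff_iso (IsZero.iso (isZero_cokernel_of_epi (𝟙 F)) hZ)).1 (QCoh.isQCoh_cokernel hFq hFq _)
  let S := ShortComplex.mk (0 : Z ⟶ F) (𝟙 F) zero_comp
  haveI : Mono S.f := ⟨fun a b _ => hZ.eq_of_tgt a b⟩
  have hS : S.ShortExact :=
    { exact := (S.exact_iff_mono rfl).2 (inferInstanceAs (Mono (𝟙 F)))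
      epi_g := inferInstanceAs (Epi (𝟙 F)) }
  exact ((hSerre S hS hZq hFq hFq).1 hF).1

omit [CompactSpace X] [QuasiSeparatedSpace X] in
theorem class_iso {M N : X.Modules} (e : M ≅ N) (hM : Coh.IsQCoh M) (h : P M) : P N := by
  have hN := (QCoh.isQCoh_iff_iso e).1 hM
  let S := ShortComplex.mk e.hom (0 : N ⟶ cokernel e.hom) comp_zero
  have hZ : IsZero S.X₃ := isZero_cokernel_of_epi e.hom
  haveI : Epi S.g := ⟨fun a b _ => hZ.eq_of_src a b⟩
  have hS : S.ShortExact :=
    { exact := (S.exact_iff_epi rfl).2 inferInstance
      mono_f := inferInstanceAs (Mono e.hom) }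
  exact (hSerre S hS hM hN (QCoh.isQCoh_cokernel hM hN _)).2 ⟨h, class_zero P hSerre hM h hZ⟩

omit [CompactSpace X] [QuasiSeparatedSpace X] in
theorem class_kernel {M N : X.Modules} (f : M ⟶ N) (hM : Coh.IsQCoh M) (hN : Coh.IsQCoh N)
    (h : P M) : P (kernel f) ∧ P (Abelian.coimage f) := by
  let S := ShortComplex.mk (kernel.ι f) (Abelian.coimage.π f) (cokernel.condition _)
  have hS : S.ShortExact :=
    { exact := ShortComplex.exact_cokernel _, mono_f := inferInstance,
      epi_g := inferInstanceAs (Epi (cokernel.π _)) }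
  exact (hSerre S hS (QCoh.isQCoh_kernel hM hN f) hM
    (QCoh.isQCoh_cokernel (QCoh.isQCoh_kernel hM hN f) hM _)).1 h

omit [CompactSpace X] [QuasiSeparatedSpace X] in
theorem class_of_kernel {M N : X.Modules} (f : M ⟶ N) (hM : Coh.IsQCoh M) (hN : Coh.IsQCoh N)
    (h₁ : P (kernel f)) (h₂ : P (Abelian.coimage f)) : P M := by
  let S := ShortComplex.mk (kernel.ι f) (Abelian.coimage.π f) (cokernel.condition _)
  have hS : S.ShortExact :=
    { exact := ShortComplex.exact_cokernel _, mono_f := inferInstance,
      epi_g := inferInstanceAs (Epi (cokernel.π _)) }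
  exact (hSerre S hS (QCoh.isQCoh_kernel hM hN f) hM
    (QCoh.isQCoh_cokernel (QCoh.isQCoh_kernel hM hN f) hM _)).2 ⟨h₁, h₂⟩

omit [CompactSpace X] [QuasiSeparatedSpace X] in
theorem class_of_coimage {M N : X.Modules} (f : M ⟶ N) (hM : Coh.IsQCoh M) (hN : Coh.IsQCoh N)
    (h₁ : P (Abelian.coimage f)) (h₂ : P (cokernel f)) : P N := by
  let S := ShortComplex.mk (Abelian.image.ι f) (cokernel.π f) (kernel.condition _)
  have hS : S.ShortExact :=
    { exact := ShortComplex.exact_kernel _, mono_f := inferInstanceAs (Mono (kernel.ι _)),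
      epi_g := inferInstance }
  have hc : Coh.IsQCoh (Abelian.coimage f) :=
    QCoh.isQCoh_cokernel (QCoh.isQCoh_kernel hM hN f) hM _
  let e : Abelian.coimage f ≅ Abelian.image f := Abelian.coimageIsoImage f
  exact (hSerre S hS ((QCoh.isQCoh_iff_iso e).1 hc) hN (QCoh.isQCoh_cokernel hM hN f)).2
    ⟨class_iso P hSerre e hc h₁, h₂⟩

/-- **Serre classes of quasi-coherent modules closed under direct sums are determined by
supports.** -/
theorem mem_of_support_subset {F : X.Modules} (hFq : Coh.IsQCoh F) (hF : CohB1.IsFP F) (hPF : P F)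
    (hsum : ∀ (ι : Type u) (M : ι → X.Modules), (∀ i, Coh.IsQCoh (M i)) → (∀ i, P (M i)) →
      P (∐ M))
    {E : X.Modules} (hE : Coh.IsQCoh E) (hsupp : CohB1.support E ⊆ CohB1.support F) : P E := by
  classical
  obtain ⟨c, hc⟩ := isCompact_univ.elim_finite_subcover (fun U : X.affineOpens => (U.1 : Set X))
    (fun U => U.1.isOpen) fun x _ => by
      obtain ⟨_, ⟨U, hU, rfl⟩, hx, -⟩ :=
        X.isBasis_affineOpens.exists_subset_of_mem_open (Set.mem_univ x) isOpen_univ
      exact Set.mem_iUnion.2 ⟨⟨U, hU⟩, hx⟩
  suffices h : ∀ s : Finset X.affineOpens, ∀ E : X.Modules, Coh.IsQCoh E →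
      CohB1.support E ⊆ CohB1.support F \ ⋃ U ∈ c \ s, (U.1 : Set X) → P E by
    exact h c E hE fun x hx => ⟨hsupp hx, by simp⟩
  intro s
  induction s using Finset.induction_on with
  | empty =>
    intro E hE hsE
    refine class_zero P hSerre hFq hPF (KFlatLib.isZero_of_stalk _ fun x => ?_)
    refine (notMem_support_iff_isZero E x).1 fun hx => (hsE hx).2 ?_
    simpa using hc (Set.mem_univ x)
  | @insert U s _ ih =>
    intro E hE hsE
    let O : X.Opens := ⨆ V ∈ c \ insert U s, (V : X.affineOpens).1
    have hO : (O : Set X) = ⋃ V ∈ c \ insert U s, (V.1 : Set X) := by simp [O]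
    have hOc : IsCompact (O : Set X) := hO ▸ (c \ insert U s).finite_toSet.isCompact_biUnion
      fun V _ => V.2.isCompact
    let T : Set X := CohB1.support F \ (O : Set X)
    have hTc : IsClosed T :=
      (QCoh.isClosed_support_of_isFT hFq (QCoh.isFT_of_isFP hF)).inter O.isOpen.isClosed_compl
    have hsE' : CohB1.support E ⊆ T := by
      show CohB1.support E ⊆ CohB1.support F \ (O : Set X)
      rw [hO]
      exact hsE
    have key : ∀ {M : X.Modules}, Coh.IsQCoh M → CohB1.support M ⊆ T →
        (∀ x ∈ (U.1 : Set X), x ∉ CohB1.support M) → P M := fun {M} hM hMT hMU => by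
      refine ih M hM fun x hx => ⟨(hMT hx).1, ?_⟩
      simp only [Set.mem_iUnion, not_exists]
      intro V hV hxV
      obtain ⟨hVc, hVs⟩ := Finset.mem_sdiff.1 hV
      by_cases hVU : V = U
      · exact hMU x (hVU ▸ hxV) hx
      · refine (hMT hx).2 ?_
        rw [hO]
        exact Set.mem_biUnion (Finset.mem_sdiff.2 ⟨hVc, by simp [hVU, hVs]⟩) hxV
    let A : CommRingCat.{u} := Γ(X, U.1)
    let j : Spec A ⟶ X := U.2.fromSpec
    have hrange : Set.range j.base = (U.1 : Set X) := U.2.range_fromSpec
    have hsurj : ∀ {M N : X.Modules} (f : M ⟶ N), Coh.IsQCoh M → Coh.IsQCoh N →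
        CohB1.support N ⊆ T → (∀ w, Epi ((DerSch.stalkFunctor X (j.base w)).map f)) → P M → P N := by
      intro M N f hM hN hNT he hP
      refine class_of_coimage P hSerre f hM hN (class_kernel P hSerre f hM hN hP).2
        (key (QCoh.isQCoh_cokernel hM hN f) ((support_subset_of_epi (cokernel.π f)).trans hNT) fun x hx => ?_)
      rw [← hrange] at hx
      obtain ⟨w, rfl⟩ := hx
      haveI := he w
      exact (notMem_support_iff_isZero _ _).2
        ((isZero_cokernel_of_epi _).of_iso (PreservesCokernel.iso (DerSch.stalkFunctor X (j.base w)) f))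
    let G : ModuleCat.{u} A ⥤ X.Modules := tilde.functor A ⋙ Scheme.Modules.pushforward j
    haveI hjc : QuasiCompact j := QuasiCompact.of_comp j (terminal.from X)
    have hGq : ∀ N, Coh.IsQCoh (G.obj N) := fun N =>
      QCoh.isQCoh_pushforward j (QCoh.isQCoh_spec_iff.2 ((tilde.functor A).obj_mem_essImage N))
    have hGs : ∀ N : ModuleCat.{u} A, Module.support A N ⊆ j.base ⁻¹' T → CohB1.support (G.obj N) ⊆ T :=
      fun N hN => support_push_subset j _ hTc fun w hw => hN ((mem_support_tilde_iff N w).1 hw)
    have hGepi : ∀ {M N : ModuleCat.{u} A} (l : M ⟶ N) [Epi l] (w : Spec A),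
        Epi ((DerSch.stalkFunctor X (j.base w)).map (G.map l)) := fun {M N} l _ w => by
      haveI : (tilde.functor A).PreservesEpimorphisms :=
        Functor.preservesEpimorphisms_of_adjunction tilde.adjunction
      haveI : IsIso ((Scheme.Modules.restrictAdjunction j).counit) := inferInstance
      let e : G ⋙ Scheme.Modules.restrictFunctor j ≅ tilde.functor A :=
        Functor.associator _ _ _ ≪≫
          Functor.isoWhiskerLeft _ (asIso (Scheme.Modules.restrictAdjunction j).counit) ≪≫
          Functor.rightUnitor _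
      haveI : Epi ((Scheme.Modules.restrictFunctor j).map (G.map l)) :=
        ((MorphismProperty.epimorphisms _).arrow_mk_iso_iff
          (Arrow.isoMk (e.app M) (e.app N) (e.hom.naturality l).symm)).2
          (inferInstanceAs (Epi ((tilde.functor A).map l)))
      have h1 : Epi ((DerSch.stalkFunctor (Spec A) w).map
          ((Scheme.Modules.restrictFunctor j).map (G.map l))) := inferInstance
      rw [ModuleCat.epi_iff_surjective] at h1 ⊢
      intro y
      let r := Scheme.Modules.restrictStalkNatIso j w
      obtain ⟨z, hz⟩ := h1 ((r.app (G.obj N)).inv y)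
      refine ⟨(r.app (G.obj M)).hom z, ?_⟩
      have := congrArg (fun q => q z) (r.hom.naturality (G.map l))
      refine Eq.trans this.symm ?_
      refine (congrArg (r.app (G.obj N)).hom hz).trans ?_
      exact (r.app (G.obj N)).addCommGroupIsoToAddEquiv.apply_symm_apply y
    let Q : ModuleCat.{u} A → Prop := fun N => Module.support A N ⊆ j.base ⁻¹' T ∧ P (G.obj N)
    haveI : PreservesFilteredColimitsOfSize.{u, u} G := by
      haveI := preservesFilteredColimits_pushforward' j
      exact ⟨fun I _ _ => inferInstanceAs (PreservesColimitsOfShape I (tilde.functor A ⋙ _))⟩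
    haveI : (tilde.functor A).Additive := inferInstance
    haveI : PreservesFiniteLimits G := comp_preservesFiniteLimits _ _
    haveI : G.Additive := Functor.additive_of_preserves_binary_products _
    have hQ : SerreClass.IsClass Q := by
      refine ⟨fun {M N} l hl h => ?_, fun {M N} l hl h => ?_, fun {M₁ M₂ M₃} f g hf hfg hg h₁ h₃ => ?_,
        fun {ι} M h => ?_⟩
      · have hs := (Module.support_subset_of_surjective l hl).trans h.1
        haveI : Epi (ModuleCat.ofHom l) := (ModuleCat.epi_iff_surjective _).2 hl
        exact ⟨hs, hsurj (G.map (ModuleCat.ofHom l)) (hGq M) (hGq N) (hGs N hs)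
          (fun w => hGepi (ModuleCat.ofHom l) w) h.2⟩
      · have hs := (Module.support_subset_of_injective l hl).trans h.1
        haveI : Mono (ModuleCat.ofHom l) := (ModuleCat.mono_iff_injective _).2 hl
        haveI : Mono (G.map (ModuleCat.ofHom l)) := inferInstance
        refine ⟨hs, ?_⟩
        let S := ShortComplex.mk (G.map (ModuleCat.ofHom l)) (cokernel.π _) (cokernel.condition _)
        have hS : S.ShortExact :=
          { exact := ShortComplex.exact_cokernel _, mono_f := inferInstance, epi_g := inferInstance }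
        exact ((hSerre S hS (hGq M) (hGq N) (QCoh.isQCoh_cokernel (hGq M) (hGq N) _)).1 h.2).1
      · have hs : Module.support A M₂ ⊆ j.base ⁻¹' T := by
          rw [Module.support_of_exact hfg hf hg]
          exact Set.union_subset h₁.1 h₃.1
        refine ⟨hs, ?_⟩
        let S := ShortComplex.mk (ModuleCat.ofHom f) (ModuleCat.ofHom g)
          (ModuleCat.hom_ext hfg.linearMap_comp_eq_zero)
        haveI : Mono S.f := (ModuleCat.mono_iff_injective _).2 hf
        have hex : S.Exact := (ShortComplex.ShortExact.moduleCat_exact_iff_function_exact S).2 hfg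
        have hk : IsLimit (KernelFork.ofι (G.map S.f) (by rw [← G.map_comp, S.zero, G.map_zero])) :=
          isLimitForkMapOfIsLimit' G S.zero hex.fIsKernel
        let ek : G.obj M₁ ≅ kernel (G.map S.g) :=
          IsLimit.conePointUniqueUpToIso hk (limit.isLimit _)
        refine class_of_kernel P hSerre (G.map S.g) (hGq M₂) (hGq M₃)
          (class_iso P hSerre ek (hGq M₁) h₁.2) ?_
        let S' := ShortComplex.mk (Abelian.image.ι (G.map S.g)) (cokernel.π (G.map S.g))
          (kernel.condition _)
        have hS' : S'.ShortExact :=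
          { exact := ShortComplex.exact_kernel _, mono_f := inferInstanceAs (Mono (kernel.ι _)),
            epi_g := inferInstance }
        have hc' : Coh.IsQCoh (Abelian.image (G.map S.g)) :=
          QCoh.isQCoh_kernel (hGq M₃) (QCoh.isQCoh_cokernel (hGq M₂) (hGq M₃) _) _
        exact class_iso P hSerre (Abelian.coimageIsoImage (G.map S.g)).symm hc'
          ((hSerre S' hS' hc' (hGq M₃) (QCoh.isQCoh_cokernel (hGq M₂) (hGq M₃) _)).1 h₃.2).1
      · have hs : Module.support A (⨁ i, M i) ⊆ j.base ⁻¹' T := fun p hp => by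
          obtain ⟨x, hx⟩ := Module.mem_support_iff'.1 hp
          by_contra hpT
          have hz : ∀ y : (⨁ i, M i), ∃ r : A, r ∉ p.asIdeal ∧ r • y = 0 := fun y => by
            induction y using DirectSum.induction_on with
            | zero => exact ⟨1, p.isPrime.one_notMem, smul_zero _⟩
            | of i m =>
              obtain ⟨r, hr, hrm⟩ := Module.notMem_support_iff'.1 (fun hm => hpT ((h i).1 hm)) m
              exact ⟨r, hr, by rw [← DirectSum.lof_eq_of A, ← map_smul, hrm, map_zero]⟩
            | add y z hy hz =>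
              obtain ⟨r, hr, hry⟩ := hy
              obtain ⟨r', hr', hrz⟩ := hz
              exact ⟨r * r', p.isPrime.mul_notMem hr hr', by
                rw [smul_add, mul_comm r r', mul_smul, hry, smul_zero, mul_comm r' r, mul_smul, hrz,
                  smul_zero, add_zero]⟩
          obtain ⟨r, hr, hrx⟩ := hz x
          exact hx r hr hrx
        refine ⟨hs, ?_⟩
        haveI : HasFiniteBiproducts (ModuleCat.{u} A) := HasFiniteBiproducts.of_hasFiniteProducts
        haveI := preservesCoproducts_of_filtered G ι
        exact class_iso P hSerre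
          ((PreservesCoproduct.iso G M).symm ≪≫ G.mapIso (ModuleCat.coprodIsoDirectSum M))
          (isQCoh_sigma X _ fun i => hGq (M i)) (hsum ι _ (fun i => hGq (M i)) fun i => (h i).2)
    -- the restriction of `F`, cut down to `T`
    have hFr : Coh.IsQCoh ((Scheme.Modules.restrictFunctor j).obj F) := QCoh.isQCoh_restrict j hFq
    let F₀ : ModuleCat.{u} A := (moduleSpecΓFunctor (R := A)).obj ((Scheme.Modules.restrictFunctor j).obj F)
    haveI := (isQuasicoherent_iff_isIso_fromTildeΓ ((Scheme.Modules.restrictFunctor j).obj F)).1 hFr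
    haveI : Module.FinitePresentation A F₀ :=
      (QCoh.isFP_iff_finitePresentation _ hFr).1 (isFP_restrict hF j)
    let eF : (tilde.functor A).obj F₀ ≅ (Scheme.Modules.restrictFunctor j).obj F :=
      asIso (Scheme.Modules.fromTildeΓ ((Scheme.Modules.restrictFunctor j).obj F))
    obtain ⟨J, hJ, hJO⟩ := PrimeSpectrum.isCompact_isOpen_iff_ideal.1
      (show IsCompact (j.base ⁻¹' (O : Set X)) ∧ IsOpen (j.base ⁻¹' (O : Set X)) from
        ⟨QuasiCompact.isCompact_preimage (f := j) _ O.isOpen hOc, O.isOpen.preimage j.continuous⟩)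
    let M₀ : ModuleCat.{u} A := ModuleCat.of A ((F₀ : Type u) ⧸ (J • ⊤ : Submodule A F₀))
    haveI : Module.FinitePresentation A M₀ :=
      Module.finitePresentation_of_surjective _ (Submodule.mkQ_surjective _)
        (by rw [Submodule.ker_mkQ]; exact Submodule.FG.smul hJ Module.Finite.fg_top)
    have hM₀ : Module.support A M₀ = j.base ⁻¹' T := by
      rw [Module.support_quotient]
      ext p
      have hp : p ∈ Module.support A F₀ ↔ j.base p ∈ CohB1.support F := by
        rw [← mem_support_tilde_iff, support_of_iso eF, mem_support_restrict_iff]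
        exact Iff.rfl
      have hp' : p ∈ PrimeSpectrum.zeroLocus (J : Set A) ↔ j.base p ∉ (O : Set X) := by
        rw [← Set.notMem_compl_iff, hJO]
        rfl
      exact and_congr hp hp'
    let adj := Scheme.Modules.restrictAdjunction j
    let eF' : (Scheme.Modules.pushforward j).obj ((Scheme.Modules.restrictFunctor j).obj F) ≅ G.obj F₀ :=
      (Scheme.Modules.pushforward j).mapIso eF.symm
    let q : F₀ ⟶ M₀ := modMap F₀ J
    haveI : Epi q := epi_modMap F₀ J
    have hQM : Q M₀ := by
      refine ⟨hM₀.le, hsurj (adj.unit.app F ≫ eF'.hom ≫ G.map q) hFq (hGq M₀) (hGs M₀ hM₀.le)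
        (fun w => ?_) hPF⟩
      haveI : IsIso ((DerSch.stalkFunctor X (j.base w)).map (adj.unit.app F)) := by
        have hr : IsIso ((Scheme.Modules.restrictFunctor j).map (adj.unit.app F)) :=
          IsIso.of_isIso_fac_right (adj.left_triangle_components F)
        have h1 : IsIso ((TopCat.Presheaf.stalkFunctor Ab.{u} (j.base w)).map
            ((Scheme.Modules.toPresheaf X).map (adj.unit.app F))) := by
          refine (NatIso.isIso_map_iff (Scheme.Modules.restrictStalkNatIso j w) _).mp ?_
          change IsIso ((TopCat.Presheaf.stalkFunctor Ab.{u} _).map ((Scheme.Modules.toPresheaf _).map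
            ((Scheme.Modules.restrictFunctor j).map (adj.unit.app F))))
          infer_instance
        rw [ConcreteCategory.isIso_iff_bijective] at h1 ⊢
        exact h1
      haveI := hGepi q w
      rw [Functor.map_comp, Functor.map_comp]
      infer_instance
    -- the module to be classified
    have hEr : Coh.IsQCoh ((Scheme.Modules.restrictFunctor j).obj E) := QCoh.isQCoh_restrict j hE
    let E₀ : ModuleCat.{u} A := (moduleSpecΓFunctor (R := A)).obj ((Scheme.Modules.restrictFunctor j).obj E)
    haveI := (isQuasicoherent_iff_isIso_fromTildeΓ ((Scheme.Modules.restrictFunctor j).obj E)).1 hEr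
    let eE : (tilde.functor A).obj E₀ ≅ (Scheme.Modules.restrictFunctor j).obj E :=
      asIso (Scheme.Modules.fromTildeΓ ((Scheme.Modules.restrictFunctor j).obj E))
    have hE₀ : Q E₀ := hQ.mem_of_support hQM E₀ fun p hp => by
      rw [hM₀]
      rw [← mem_support_tilde_iff, support_of_iso eE, mem_support_restrict_iff] at hp
      exact hsE' hp
    let η : E ⟶ G.obj E₀ := adj.unit.app E ≫ (Scheme.Modules.pushforward j).map eE.inv
    have hηU : ∀ w : Spec A, IsIso ((DerSch.stalkFunctor X (j.base w)).map η) := fun w => by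
      have hr : IsIso ((Scheme.Modules.restrictFunctor j).map (adj.unit.app E)) :=
        IsIso.of_isIso_fac_right (adj.left_triangle_components E)
      haveI : IsIso ((DerSch.stalkFunctor X (j.base w)).map (adj.unit.app E)) := by
        have h1 : IsIso ((TopCat.Presheaf.stalkFunctor Ab.{u} (j.base w)).map
            ((Scheme.Modules.toPresheaf X).map (adj.unit.app E))) := by
          refine (NatIso.isIso_map_iff (Scheme.Modules.restrictStalkNatIso j w) _).mp ?_
          change IsIso ((TopCat.Presheaf.stalkFunctor Ab.{u} _).map ((Scheme.Modules.toPresheaf _).map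
            ((Scheme.Modules.restrictFunctor j).map (adj.unit.app E))))
          infer_instance
        rw [ConcreteCategory.isIso_iff_bijective] at h1 ⊢
        exact h1
      rw [Functor.map_comp]
      infer_instance
    have hker : P (kernel η) := key (QCoh.isQCoh_kernel hE (hGq E₀) η)
      ((support_subset_of_mono (kernel.ι η)).trans hsE') fun x hx => by
        rw [← hrange] at hx
        obtain ⟨w, rfl⟩ := hx
        haveI := hηU w
        exact (notMem_support_iff_isZero _ _).2
          ((isZero_kernel_of_mono _).of_iso (PreservesKernel.iso (DerSch.stalkFunctor X (j.base w)) η))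
    refine class_of_kernel P hSerre η hE (hGq E₀) hker ?_
    let S' := ShortComplex.mk (Abelian.image.ι η) (cokernel.π η) (kernel.condition _)
    have hS' : S'.ShortExact :=
      { exact := ShortComplex.exact_kernel _, mono_f := inferInstanceAs (Mono (kernel.ι _)),
        epi_g := inferInstance }
    have hc' : Coh.IsQCoh (Abelian.image η) :=
      QCoh.isQCoh_kernel (hGq E₀) (QCoh.isQCoh_cokernel hE (hGq E₀) _) _
    exact class_iso P hSerre (Abelian.coimageIsoImage η).symm hc'
      ((hSerre S' hS' hc' (hGq E₀) (QCoh.isQCoh_cokernel hE (hGq E₀) _)).1 hE₀.2).1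

end Class

end Groth.Agent.RPSM
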