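import Groth.Agent.RPSM.QuotCat
import Groth.Agent.QCoh.AffineCohom
import Groth.Agent.QCoh.HHExact
import Groth.Agent.QCoh.Serre
import Groth.Agent.QCoh.OpenSub
import Groth.Agent.KZ.Localization

/-!
# Cohomology and modifications along a closed subset
-/

universe u

set_option backward.isDefEq.respectTransparency false
set_option backward.isDefEq.respectTransparency.types false

open CategoryTheory CategoryTheory.Limits AlgebraicGeometry TopologicalSpace Opposite
open CategoryTheory.Abelian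
open scoped ZeroObject

namespace Groth.Agent.RPSM

variable {X : Scheme.{u}}

theorem HH_equiv_of_left {S : ShortComplex X.Modules} (hS : S.ShortExact) (n : ℕ)
    (h₀ : Subsingleton (Coh.HH X S.X₁ n)) (h₁ : Subsingleton (Coh.HH X S.X₁ (n + 1))) :
    Nonempty (Coh.HH X S.X₂ n ≃+ Coh.HH X S.X₃ n) := by
  let T := S.map (QCoh.toAbFunctor X)
  have hT : T.ShortExact := QCoh.toAb_shortExact hS
  refine ⟨AddEquiv.ofBijective (Sheaf.H.map T.g n) ⟨(injective_iff_map_eq_zero _).2 fun x hx => ?_, fun y => ?_⟩⟩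
  · obtain ⟨z, rfl⟩ := Ext.covariant_sequence_exact₂ _ hT x hx
    rw [h₀.elim z 0]
    exact Ext.zero_comp _ _ _ _ _
  · exact Ext.covariant_sequence_exact₃ _ hT y rfl (h₁.elim _ _)

theorem HH_equiv_of_right {S : ShortComplex X.Modules} (hS : S.ShortExact) (n : ℕ)
    (h₀ : Subsingleton (Coh.HH X S.X₃ n)) (h₁ : Subsingleton (Coh.HH X S.X₃ (n + 1))) :
    Nonempty (Coh.HH X S.X₁ (n + 1) ≃+ Coh.HH X S.X₂ (n + 1)) := by
  let T := S.map (QCoh.toAbFunctor X)
  have hT : T.ShortExact := QCoh.toAb_shortExact hS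
  refine ⟨AddEquiv.ofBijective (Sheaf.H.map T.f (n + 1))
    ⟨(injective_iff_map_eq_zero _).2 fun x hx => ?_, fun y => ?_⟩⟩
  · obtain ⟨z, rfl⟩ := Ext.covariant_sequence_exact₁ _ hT x hx (n₀ := n) rfl
    rw [h₀.elim z 0]
    exact Ext.zero_comp _ _ _ _ _
  · exact Ext.covariant_sequence_exact₂ _ hT y (h₁.elim _ _)

theorem subsingleton_HH_of_isZero {M : X.Modules} (h : IsZero M) (n : ℕ) :
    Subsingleton (Coh.HH X M n) :=
  Sheaf.subsingleton_H_of_isZero ((QCoh.toAbFunctor X).map_isZero h) n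

variable {Z : Scheme.{u}} (ι : Z ⟶ X) [IsClosedImmersion ι] [IsNoetherian X]

/-- Cohomology of coherent modules supported on a closed subscheme vanishes above its cohomological
dimension. -/
theorem subsingleton_HH_of_support {k : ℕ}
    (hcd : ∀ G : Z.Modules, Coh.IsQCoh G → ∀ i : ℕ, k + 1 ≤ i → Subsingleton (Coh.HH Z G i))
    {M : X.Modules} (hM : Coh.IsCoh M) (hs : CohB1.support M ⊆ Set.range ι) {i : ℕ} (hi : k + 1 ≤ i) :
    Subsingleton (Coh.HH X M i) := by
  induction QCoh.filt_of_isCoh hM with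
  | zero h => exact subsingleton_HH_of_isZero h i
  | @step N M' φ _ _ hNc hMc hex ih =>
    obtain ⟨Y, j, hj, hY, I, κ, hκ, hI, hI0, ⟨e⟩⟩ := hex
    haveI := hj; haveI := hY; haveI := hκ
    have hcok := QCoh.isCoh_cokernel hNc.1 hMc φ
    have hsub : CohB1.support N ⊆ CohB1.support M' := QCoh.mem_support_of_mono hNc.1 hMc.1 φ
    have hp : CohB1.support ((Coh.push j).obj I) ⊆ CohB1.support M' := by
      rw [← QCoh.support_iso e hcok.1]
      exact QCoh.support_of_epi hMc.1 hcok.1 (cokernel.π φ)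
    have hj' : Set.range j ⊆ Set.range ι := by
      rw [QCoh.range_eq_closure j, ← QCoh.support_push_ideal j κ hI hI0]
      exact hp.trans hs
    have hk : KZ.ClosedDev.Killed ι (cokernel φ) :=
      (KZ.ClosedDev.killed_push_reduced ι j hj' I).of_mono ι e.hom
    haveI := (QCoh.isIso_unit_closed_iff ι hcok.1).2 hk
    let G := (Scheme.Modules.pullback ι).obj (cokernel φ)
    have hG : Coh.IsQCoh G := QCoh.isQCoh_pullback ι hcok.1
    obtain ⟨a⟩ := QCoh.HH_push_of_isAffineHom ι hG i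
    have h₃ : Subsingleton (Coh.HH X (cokernel φ) i) :=
      QCoh.subsingleton_HH_of_iso (asIso ((Scheme.Modules.pullbackPushforwardAdjunction ι).unit.app (cokernel φ))).symm i
        (haveI := hcd G hG i hi; a.symm.toEquiv.subsingleton)
    exact QCoh.subsingleton_HH_X₂
      (S := ShortComplex.mk φ (cokernel.π φ) (cokernel.condition φ))
      { exact := ShortComplex.exact_of_g_is_cokernel _ (cokernelIsCokernel φ) } i (ih hNc (hsub.trans hs)) h₃

/-- A morphism invertible outside `Z` induces isomorphisms in high degrees. -/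
theorem HH_equiv_of_isIso_restrict {k : ℕ}
    (hcd : ∀ G : Z.Modules, Coh.IsQCoh G → ∀ i : ℕ, k + 1 ≤ i → Subsingleton (Coh.HH Z G i))
    {U : X.Opens} (hU : (U : Set X) = (Set.range ι.base)ᶜ) {P F : X.Modules} (hP : Coh.IsCoh P)
    (hF : Coh.IsCoh F) (p : P ⟶ F) (hp : IsIso ((Scheme.Modules.restrictFunctor U.ι).map p))
    {i : ℕ} (hi : k + 2 ≤ i) : Nonempty (Coh.HH X P i ≃+ Coh.HH X F i) := by
  have hsupp := (isIso_restrict_iff U p).1 hp
  simp only [hU, compl_compl] at hsupp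
  have hK : Coh.IsCoh (kernel p) := QCoh.isCoh_kernel hP hF p
  have hC : Coh.IsCoh (cokernel p) := QCoh.isCoh_cokernel hP.1 hF p
  have hI : Coh.IsCoh (cokernel (kernel.ι p)) := QCoh.isCoh_cokernel hK.1 hP _
  let c : cokernel (kernel.ι p) ⟶ F := cokernel.desc _ p (kernel.condition p)
  haveI : Mono c := inferInstanceAs (Mono (Abelian.factorThruCoimage p))
  let S₁ : ShortComplex X.Modules := ShortComplex.mk (kernel.ι p) (cokernel.π _) (cokernel.condition _)
  let S₂ : ShortComplex X.Modules := ShortComplex.mk c (cokernel.π c) (cokernel.condition c)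
  have hS₁ : S₁.ShortExact := { exact := ShortComplex.exact_of_g_is_cokernel _ (cokernelIsCokernel _) }
  have hS₂ : S₂.ShortExact := { exact := ShortComplex.exact_of_g_is_cokernel _ (cokernelIsCokernel _) }
  let ec : cokernel p ≅ cokernel c :=
    cokernelIsoOfEq (cokernel.π_desc (kernel.ι p) p (kernel.condition p)).symm ≪≫ cokernelEpiComp _ _
  have hC' : ∀ n, k + 1 ≤ n → Subsingleton (Coh.HH X (cokernel c) n) := fun n hn =>
    QCoh.subsingleton_HH_of_iso ec n (subsingleton_HH_of_support ι hcd hC hsupp.2 hn)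
  obtain ⟨n, rfl⟩ : ∃ n, i = n + 1 := ⟨i - 1, by omega⟩
  obtain ⟨e₁⟩ := HH_equiv_of_left hS₁ (n + 1) (subsingleton_HH_of_support ι hcd hK hsupp.1 (by omega))
    (subsingleton_HH_of_support ι hcd hK hsupp.1 (by omega))
  obtain ⟨e₂⟩ := HH_equiv_of_right hS₂ n (hC' n (by omega)) (hC' (n + 1) (by omega))
  exact ⟨e₁.trans e₂⟩

/-- The kernel of `F ⊞ F' ⟶ M` given by two isomorphisms projects isomorphically. -/
theorem isIso_kernel_desc_fst {C : Type*} [Category C] [Abelian C] {A B M : C} (a : A ⟶ M) (b : B ⟶ M)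
    [IsIso a] [IsIso b] : IsIso (kernel.ι (biprod.desc a b) ≫ biprod.fst) ∧
      IsIso (kernel.ι (biprod.desc a b) ≫ biprod.snd) := by
  have hc : kernel.ι (biprod.desc a b) ≫ biprod.fst ≫ a + kernel.ι (biprod.desc a b) ≫ biprod.snd ≫ b = 0 := by
    rw [← Preadditive.comp_add, ← biprod.desc_eq]
    exact kernel.condition _
  refine ⟨⟨kernel.lift _ (biprod.lift (𝟙 A) (-(a ≫ inv b))) (by simp [biprod.lift_desc]), ?_, by simp⟩,
    ⟨kernel.lift _ (biprod.lift (-(b ≫ inv a)) (𝟙 B)) (by simp [biprod.lift_desc]), ?_, by simp⟩⟩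
  · refine (cancel_mono (kernel.ι _)).1 ?_
    apply biprod.hom_ext
    · simp
    · rw [← cancel_mono b]
      simpa [neg_eq_iff_add_eq_zero] using hc
  · refine (cancel_mono (kernel.ι _)).1 ?_
    apply biprod.hom_ext
    · rw [← cancel_mono a]
      simpa [neg_eq_iff_add_eq_zero, add_comm] using hc
    · simp

theorem nonempty_HH_equiv_of_restrict_iso {k : ℕ}
    (hcd : ∀ G : Z.Modules, Coh.IsQCoh G → ∀ i : ℕ, k + 1 ≤ i → Subsingleton (Coh.HH Z G i))
    {U : X.Opens} (hU : (U : Set X) = (Set.range ι.base)ᶜ) {F F' : X.Modules} (hF : Coh.IsCoh F)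
    (hF' : Coh.IsCoh F') (θ : (Scheme.Modules.restrictFunctor U.ι).obj F ≅ (Scheme.Modules.restrictFunctor U.ι).obj F')
    {i : ℕ} (hi : k + 2 ≤ i) : Nonempty (Coh.HH X F i ≃+ Coh.HH X F' i) := by
  let R := Scheme.Modules.restrictFunctor U.ι
  let adj := Scheme.Modules.restrictAdjunction U.ι
  let a : F ⟶ (Scheme.Modules.pushforward U.ι).obj (R.obj F') := adj.homEquiv _ _ θ.hom
  let b : F' ⟶ (Scheme.Modules.pushforward U.ι).obj (R.obj F') := adj.unit.app F'
  haveI : R.PreservesZeroMorphisms := Functor.preservesZeroMorphisms_of_preserves_initial_object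
  haveI : IsIso (R.map a) := by
    have h : R.map a ≫ adj.counit.app _ = θ.hom :=
      (adj.homEquiv_counit _ _ a).symm.trans (Equiv.symm_apply_apply _ _)
    have : IsIso (R.map a ≫ adj.counit.app (R.obj F')) := by rw [h]; infer_instance
    exact IsIso.of_isIso_comp_right _ (adj.counit.app (R.obj F'))
  haveI : IsIso (R.map b) := inferInstanceAs (IsIso (R.map (adj.unit.app F')))
  let d := biprod.desc a b
  have hsum : Coh.IsCoh (F ⊞ F') := KZ.isCoh_biprod hF hF'
  have hP : Coh.IsCoh (kernel d) := QCoh.isCoh_of_mono (kernel.ι d) hsum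
    (QCoh.isQCoh_kernel hsum.1 (QCoh.isQCoh_pushforward U.ι
      (@Scheme.Modules.isQuasicoherent_restrictFunctor (U : Scheme.{u}) X U.ι inferInstance F' hF'.1)) d)
  haveI : PreservesBinaryBiproducts R := preservesBinaryBiproducts_of_preservesBinaryProducts _
  obtain ⟨h₁, h₂⟩ := isIso_kernel_desc_fst (R.map a) (R.map b)
  let e₀ : R.obj (F ⊞ F') ≅ R.obj F ⊞ R.obj F' := R.mapBiprod F F'
  have hd : R.map d = e₀.hom ≫ biprod.desc (R.map a) (R.map b) := by
    simp [e₀, d, biprod.desc_eq, Functor.map_add, Preadditive.comp_add]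
  let ek : R.obj (kernel d) ≅ kernel (biprod.desc (R.map a) (R.map b)) :=
    PreservesKernel.iso R d ≪≫ kernel.mapIso (R.map d) (biprod.desc (R.map a) (R.map b)) e₀ (Iso.refl _)
      ((Category.comp_id _).trans hd)
  have key : ∀ {T : X.Modules} (q : F ⊞ F' ⟶ T) (q' : R.obj F ⊞ R.obj F' ⟶ R.obj T),
      R.map q = e₀.hom ≫ q' → R.map (kernel.ι d ≫ q) = ek.hom ≫ kernel.ι _ ≫ q' := fun q q' hq => by
    simp [ek, hq, PreservesKernel.iso_hom]
  have i₁ : IsIso (R.map (kernel.ι d ≫ biprod.fst)) := by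
    rw [key biprod.fst biprod.fst (by simp [e₀])]; infer_instance
  have i₂ : IsIso (R.map (kernel.ι d ≫ biprod.snd)) := by
    rw [key biprod.snd biprod.snd (by simp [e₀])]; infer_instance
  obtain ⟨e₁⟩ := HH_equiv_of_isIso_restrict ι hcd hU hP hF _ i₁ hi
  obtain ⟨e₂⟩ := HH_equiv_of_isIso_restrict ι hcd hU hP hF' _ i₂ hi
  exact ⟨e₁.symm.trans e₂⟩

end Groth.Agent.RPSM
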