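import Groth.Agent.RPSM.Compact
import Groth.Agent.RPSM.PushColim

/-!
# Finitely presentable objects of the category of quasi-coherent modules
-/

universe u

set_option backward.isDefEq.respectTransparency false
set_option backward.isDefEq.respectTransparency.types false

open CategoryTheory CategoryTheory.Limits AlgebraicGeometry TopologicalSpace Opposite

attribute [local instance] Cardinal.fact_isRegular_aleph0

namespace Groth.Agent.RPSM

/-- An object whose image under a fully faithful functor preserving filtered colimits is finitely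
presentable is finitely presentable. -/
theorem isFinitelyPresentable_of_fullyFaithful {C D : Type (u + 1)} [Category.{u} C] [Category.{u} D]
    (F : C ⥤ D) (hF : F.FullyFaithful) [PreservesFilteredColimitsOfSize.{u, u} F] (X : C)
    (h : IsFinitelyPresentable.{u} (F.obj X)) : IsFinitelyPresentable.{u} X := by
  haveI := h
  rw [isFinitelyPresentable_iff_preservesFilteredColimitsOfSize]
  let e : F ⋙ coyoneda.obj (op (F.obj X)) ≅ coyoneda.obj (op X) :=
    NatIso.ofComponents (fun Y => hF.homEquiv.symm.toIso) fun {Y Y'} g => by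
      ext φ
      exact hF.map_injective (by
        change F.map (hF.preimage (φ ≫ F.map g)) = F.map (hF.preimage φ ≫ g)
        rw [hF.map_preimage, F.map_comp, hF.map_preimage])
  exact ⟨fun J _ _ => preservesColimitsOfShape_of_natIso e⟩

/-- A finitely presentable module is finitely presented. -/
theorem finitePresentation_of_isFinitelyPresentable {A : Type u} [CommRing A] (M : ModuleCat.{u} A)
    (h : IsFinitelyPresentable.{u} M) : Module.FinitePresentation A M := by
  haveI := h
  obtain ⟨g, p, hp⟩ := IsFinitelyPresentable.exists_hom_of_isColimit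
    (isColimitOfIsColimitMapCoconeId _ (isColimitMapCanonical (fpG A) (𝟭 _) M)) (𝟙 M)
  change M ⟶ (fpG A).obj g.left at p
  change p ≫ g.hom = 𝟙 M at hp
  have hsec : ∀ m, g.hom.hom (p.hom m) = m := fun m => congrArg (fun t => t.hom m) hp
  refine Module.finitePresentation_of_surjective g.hom.hom (fun m => ⟨p.hom m, hsec m⟩) ?_
  have hk : LinearMap.ker g.hom.hom = LinearMap.range (LinearMap.id - p.hom.comp g.hom.hom) := by
    refine le_antisymm ?_ ?_
    · intro x hx
      refine ⟨x, ?_⟩
      rw [LinearMap.mem_ker] at hx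
      change x - p.hom (g.hom.hom x) = x
      rw [show p.hom (g.hom.hom x) = 0 from (congrArg p.hom hx).trans (map_zero _)]
      exact sub_zero x
    · rintro _ ⟨x, rfl⟩
      change g.hom.hom (x - p.hom (g.hom.hom x)) = 0
      exact (map_sub g.hom.hom _ _).trans (sub_eq_zero.2 (hsec _).symm)
  rw [hk]
  exact Module.Finite.iff_fg.1 inferInstance

variable {X : Scheme.{u}}

instance preservesFilteredColimits_qcoh_ι :
    PreservesFilteredColimitsOfSize.{u, u} (QCohCat.isQCoh X).ι :=
  ⟨fun _ _ _ => inferInstance⟩

theorem isFinitelyPresentable_qcoh [CompactSpace X] [QuasiSeparatedSpace X] (F : QCohCat.QCoh X)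
    (h : CohB1.IsFP F.obj) : IsFinitelyPresentable.{u} F :=
  isFinitelyPresentable_of_fullyFaithful _ (ObjectProperty.fullyFaithfulι _) F
    (isFinitelyPresentable_of_isFP F.property h)

theorem isFP_of_isFinitelyPresentable [QuasiSeparatedSpace X] (F : QCohCat.QCoh X)
    (h : IsFinitelyPresentable.{u} F) : CohB1.IsFP F.obj := by
  refine QCoh.isFP_of_finitePresentation F.property (fun V : X.affineOpens => V.1)
    (iSup_affineOpens_eq_top X) (fun V => V.2) fun V => ?_
  let j := V.2.fromSpec
  let Q := Spec Γ(X, V.1)
  let L : QCohCat.QCoh X ⥤ QCohCat.QCoh Q :=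
    ObjectProperty.lift _ ((QCohCat.isQCoh X).ι ⋙ Scheme.Modules.restrictFunctor j)
      (fun M => QCoh.isQCoh_restrict j M.property)
  haveI : QuasiCompact j := inferInstance
  haveI : QuasiSeparated j := inferInstance
  let Rg : QCohCat.QCoh Q ⥤ QCohCat.QCoh X :=
    ObjectProperty.lift _ ((QCohCat.isQCoh Q).ι ⋙ Scheme.Modules.pushforward j)
      (fun M => QCoh.isQCoh_pushforward j M.property)
  let adj : L ⊣ Rg := (Scheme.Modules.restrictAdjunction j).restrictFullyFaithful
    (ObjectProperty.fullyFaithfulι _) (ObjectProperty.fullyFaithfulι _) (Iso.refl _) (Iso.refl _)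
  haveI := preservesFilteredColimits_pushforward j
  haveI : PreservesFilteredColimitsOfSize.{u, u} Rg := ⟨fun I _ _ => by
    haveI : PreservesColimitsOfShape I (Rg ⋙ (QCohCat.isQCoh X).ι) :=
      inferInstanceAs (PreservesColimitsOfShape I ((QCohCat.isQCoh Q).ι ⋙ Scheme.Modules.pushforward j))
    exact preservesColimitsOfShape_of_reflects_of_preserves Rg (QCohCat.isQCoh X).ι⟩
  haveI : Rg.IsCardinalAccessible Cardinal.aleph0.{u} :=
    Functor.IsFinitelyAccessible_iff_preservesFilteredColimitsOfSize.2 inferInstance
  haveI := h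
  have hL : IsFinitelyPresentable.{u} (L.obj F) :=
    adj.isCardinalPresentable_leftAdjoint_obj Cardinal.aleph0.{u} F
  let T : ModuleCat.{u} Γ(X, V.1) ⥤ QCohCat.QCoh Q :=
    ObjectProperty.lift _ (tilde.functor Γ(X, V.1))
      (fun M => (inferInstance : (tilde M).IsQuasicoherent))
  haveI : PreservesFilteredColimitsOfSize.{u, u} T := ⟨fun I _ _ => by
    haveI : PreservesColimitsOfShape I (T ⋙ (QCohCat.isQCoh Q).ι) :=
      inferInstanceAs (PreservesColimitsOfShape I (tilde.functor Γ(X, V.1)))
    exact preservesColimitsOfShape_of_reflects_of_preserves T (QCohCat.isQCoh Q).ι⟩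
  haveI : (tilde.functor Γ(X, V.1)).Full := tilde.fullyFaithfulFunctor.full
  haveI : (tilde.functor Γ(X, V.1)).Faithful := tilde.fullyFaithfulFunctor.faithful
  haveI : T.Full := inferInstance
  haveI : T.Faithful := inferInstance
  let M0 := moduleSpecΓFunctor.obj (L.obj F).obj
  haveI : IsIso (Scheme.Modules.fromTildeΓ (L.obj F).obj) :=
    (isQuasicoherent_iff_isIso_fromTildeΓ _).1 (L.obj F).property
  have hT : IsFinitelyPresentable.{u} (T.obj M0) :=
    @isCardinalPresentable_of_iso _ _ _ _
      (ObjectProperty.isoMk _ (asIso (Scheme.Modules.fromTildeΓ (L.obj F).obj))).symm _ _ hL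
  haveI : Module.FinitePresentation Γ(X, V.1)
      (moduleSpecΓFunctor.obj (F.obj.restrict V.2.fromSpec)) :=
    finitePresentation_of_isFinitelyPresentable M0
      (isFinitelyPresentable_of_fullyFaithful T (Functor.FullyFaithful.ofFullyFaithful T) M0 hT)
  exact Module.FinitePresentation.of_equiv (QCoh.chartEquiv V.2 F.obj).symm

end Groth.Agent.RPSM
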