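import Groth.Agent.QCoh.RpushModel
import Groth.Agent.QCoh.DevissageSum
import Groth.Agent.QCoh.HHExact
import Groth.Agent.QCoh.RpushProper
import Groth.Agent.LocImm10.QFFinite
import Groth.Agent.InvX.GenLocus
import Groth.Agent.RPSM.SuppClass
import Groth.Prelude.Def_TwSh
import Mathlib.RingTheory.Ideal.AssociatedPrime.Finiteness

/-!
# Γ(W, ⊤) quasi-finite morphism with an acyclic coherent module of full support is finite
-/

universe u

set_option linter.style.haveILetI false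
set_option backward.isDefEq.respectTransparency false
set_option backward.isDefEq.respectTransparency.types false

open CategoryTheory CategoryTheory.Limits AlgebraicGeometry TopologicalSpace Opposite
open scoped Pointwise

namespace Groth.Agent.RPSM

open QCoh (rs rf)

theorem subsingleton_H_X₃ {Y : TopCat.{u}} {T : ShortComplex (CohTop.Ab Y)} (hT : T.ShortExact)
    (n : ℕ) (h₂ : Subsingleton (CohTop.H T.X₂ n)) (h₁ : Subsingleton (CohTop.H T.X₁ (n + 1))) :
    Subsingleton (CohTop.H T.X₃ n) := by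
  refine subsingleton_of_forall_eq 0 fun x => ?_
  obtain ⟨y, rfl⟩ := Abelian.Ext.covariant_sequence_exact₃ _ hT x rfl (h₁.elim _ _)
  rw [h₂.elim y 0]
  exact Abelian.Ext.zero_comp _ _ _ _ _

theorem subsingleton_HH_X₃ {X : Scheme.{u}} {S : ShortComplex X.Modules} (hS : S.ShortExact) (n : ℕ)
    (h₂ : Subsingleton (Coh.HH X S.X₂ n)) (h₁ : Subsingleton (Coh.HH X S.X₁ (n + 1))) :
    Subsingleton (Coh.HH X S.X₃ n) :=
  subsingleton_H_X₃ (Y := X.toPresheafedSpace.carrier) (T := S.map (QCoh.toAbFunctor X))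
    (QCoh.toAb_shortExact hS) n h₂ h₁

variable {V W : Scheme.{u}} [IsNoetherian V] [IsNoetherian W] [IsAffine W] (j : V ⟶ W) [IsOpenImmersion j]

/-- Global sections of an acyclic coherent module on an open of an affine scheme with finitely many
generators are supported on the open. -/
theorem support_sections_subset (K : V.Modules) (hK : Coh.IsCoh K)
    (hfin : Module.Finite Γ(W, ⊤) Γ((Scheme.Modules.pushforward j).obj K, ⊤))
    (hvan : ∀ q : ℕ, 0 < q → Subsingleton (Coh.HH V K q)) :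
    ∀ p ∈ Module.support Γ(W, ⊤) Γ((Scheme.Modules.pushforward j).obj K, ⊤), ∀ x : W,
      (isAffineOpen_top W).primeIdealOf ⟨x, trivial⟩ = p → x ∈ Set.range j.base := by
  haveI : QuasiCompact j := quasiCompact_of_noetherianSpace_source j
  have hW : IsAffineOpen (⊤ : W.Opens) := isAffineOpen_top W
  haveI : IsNoetherianRing Γ(W, ⊤) := IsLocallyNoetherian.component_noetherian ⟨⊤, hW⟩
  generalize hZ : (⟨Module.support Γ(W, ⊤) Γ((Scheme.Modules.pushforward j).obj K, ⊤),
    Module.isClosed_support⟩ : Closeds (PrimeSpectrum Γ(W, ⊤))) = Z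
  induction Z using WellFoundedLT.induction generalizing K with
  | _ Z ih =>
  subst hZ
  intro p hp x hx
  by_contra hxr
  let G : W.Modules := (Scheme.Modules.pushforward j).obj K
  have hG : Coh.IsQCoh G := QCoh.isQCoh_pushforward j hK.1
  let M := Γ(G, (⊤ : W.Opens))
  have cover : ∀ v : V, ∃ h : Γ(W, ⊤), j.base v ∈ W.basicOpen h ∧
      (W.basicOpen h : Set W) ⊆ Set.range j.base := fun v => by
    obtain ⟨h, hle, hv⟩ := hW.exists_basicOpen_le (V := j.opensRange) ⟨j.base v, ⟨v, rfl⟩⟩ trivial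
    exact ⟨h, hv, hle⟩
  choose h hv hsub using cover
  -- associated primes are points of the open
  have hass : ∀ q ∈ associatedPrimes Γ(W, ⊤) M, ∀ y : W, (hW.primeIdealOf ⟨y, trivial⟩).asIdeal = q →
      y ∈ Set.range j.base := by
    intro q hq y hy
    by_contra hyr
    obtain ⟨hqp, m, hm⟩ := isAssociatedPrime_iff.1 (AssociatedPrimes.mem_iff.1 hq)
    have hmem : ∀ a : Γ(W, ⊤), a ∈ q ↔ a • m = 0 := fun a => by rw [hm]; simp
    refine hqp.ne_top ((Ideal.eq_top_iff_one _).2 ((hmem 1).2 ?_))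
    rw [one_smul]
    refine QCoh.eq_zero_of_locally (M := K) (j ⁻¹ᵁ (⊤ : W.Opens)) m fun v _ =>
      ⟨j ⁻¹ᵁ W.basicOpen (h v), homOfLE (fun _ _ => trivial), hv v, ?_⟩
    show rs G (W.basicOpen_le (h v)) m = 0
    have h1 : h v • m = 0 := (hmem _).1 (by
      rw [← hy]
      by_contra hn
      exact hyr (hsub v ((QCoh.mem_basicOpen_iff_notMem hW trivial _).2 hn)))
    have h2 := congrArg (rs G (W.basicOpen_le (h v))) h1
    rw [QCoh.rs_smul] at h2
    exact (QCoh.isUnit_rf_basicOpen (h v)).smul_eq_zero.1 (h2.trans (map_zero _))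
  -- a function at `x` without zero divisors
  have hne : ∀ q ∈ associatedPrimes Γ(W, ⊤) M, ¬ p.asIdeal ≤ q := by
    intro q hq hle
    haveI := (AssociatedPrimes.mem_iff.1 hq).isPrime
    obtain ⟨y, hyW, hy⟩ := QCoh.exists_point hW ⟨q, inferInstance⟩
    obtain ⟨v, rfl⟩ := hass q hq y (congrArg PrimeSpectrum.asIdeal hy)
    refine hxr (hsub v ((QCoh.mem_basicOpen_iff_notMem hW trivial _).2 ?_))
    rw [hx]
    exact fun h' => (QCoh.mem_basicOpen_iff_notMem hW trivial _).1 (hv v)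
      (by rw [congrArg PrimeSpectrum.asIdeal hy]; exact hle h')
  obtain ⟨a, hap, haq⟩ : ∃ a ∈ p.asIdeal, ∀ q ∈ associatedPrimes Γ(W, ⊤) M, a ∉ q := by
    let s := (associatedPrimes.finite Γ(W, ⊤) M).toFinset
    have h1 : ¬ (p.asIdeal : Set Γ(W, ⊤)) ⊆ ⋃ q ∈ (s : Set (Ideal Γ(W, ⊤))), (q : Set Γ(W, ⊤)) := fun hs => by
      obtain ⟨q, hq, hle⟩ := (Ideal.subset_union_prime (s := s) (f := id) ⊥ ⊥
        (fun q hq _ _ => (AssociatedPrimes.mem_iff.1 ((associatedPrimes.finite Γ(W, ⊤) M).mem_toFinset.1 hq)).isPrime)).1 hs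
      exact hne q ((associatedPrimes.finite Γ(W, ⊤) M).mem_toFinset.1 hq) hle
    obtain ⟨a, ha, hn⟩ := Set.not_subset.1 h1
    exact ⟨a, ha, fun q hq hmem => hn (Set.mem_iUnion₂.2 ⟨q, by simpa [s] using hq, hmem⟩)⟩
  have hreg : ∀ m : M, a • m = 0 → m = 0 := fun m hm => by
    by_contra hne'
    obtain ⟨q, hq, haq'⟩ := Set.mem_iUnion₂.1
      ((biUnion_associatedPrimes_eq_zero_divisors Γ(W, ⊤) M).ge ⟨m, hne', hm⟩)
    exact haq q hq haq'
  -- multiplication by it
  let φ : K ⟶ K := TwSh.scalarEnd K (j.appTop a)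
  have hφ : ∀ (O : W.Opens) (z : Γ(G, O)),
      φ.app (j ⁻¹ᵁ O) z = rf W (le_top : O ≤ ⊤) a • z := fun O z => by
    refine (TwSh.scalarEnd_app_apply _ _ _ _).trans ?_
    show _ = j.app O (rf W (le_top : O ≤ ⊤) a) • (show Γ(K, j ⁻¹ᵁ O) from z)
    congr 1
    exact (ConcreteCategory.congr_hom (j.naturality (homOfLE (le_top : O ≤ ⊤)).op) a).symm
  have hφtop : ∀ z : M, φ.app ⊤ z = a • z := fun z => (hφ ⊤ z).trans (by
    rw [show rf W (le_top : (⊤ : W.Opens) ≤ ⊤) a = a from QCoh.rs_self (G := Coh.structureModule W) _ a])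
  haveI : Mono φ := Preadditive.mono_of_isZero_kernel _ (QCoh.isZero_of_cover
    (QCoh.isQCoh_kernel hK.1 hK.1 φ) (fun v => j ⁻¹ᵁ W.basicOpen (h v))
    (fun v => (hW.basicOpen (h v)).preimage_of_isOpenImmersion j (hsub v)) (fun v => ⟨v, hv v⟩)
    fun v => subsingleton_of_forall_eq 0 fun w => by
      refine QCoh.app_injective (kernel.ι φ) _ ?_
      rw [map_zero]
      generalize hz : (kernel.ι φ).app (j ⁻¹ᵁ W.basicOpen (h v)) w = z
      have h0 : rf W (W.basicOpen_le (h v)) a • (show Γ(G, W.basicOpen (h v)) from z) = 0 :=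
        (hφ _ z).symm.trans (hz ▸ congr(($(kernel.condition φ)).app _ w))
      obtain ⟨n, t, ht⟩ := QCoh.exists_pow_smul_eq_map hG hW (h v) (show Γ(G, W.basicOpen (h v)) from z)
      have h1 : rs G (W.basicOpen_le (h v)) (a • t) = 0 := by
        rw [QCoh.rs_smul]
        exact (congrArg (rf W (W.basicOpen_le (h v)) a • ·) ht).trans (by rw [smul_comm, h0, smul_zero])
      obtain ⟨k, hk⟩ := QCoh.exists_pow_smul_eq_zero hG hW (h v) _ h1
      rw [smul_comm] at hk
      have h2 := congrArg (rs G (W.basicOpen_le (h v))) (hreg _ hk)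
      rw [QCoh.rs_smul] at h2
      change _ • rs G _ t = rs G _ 0 at h2
      rw [show rs G (W.basicOpen_le (h v)) (0 : M) = 0 from map_zero _] at h2
      have hu : ∀ l : ℕ, IsUnit (rf W (W.basicOpen_le (h v)) (h v) ^ l) :=
        fun l => (QCoh.isUnit_rf_basicOpen (h v)).pow l
      rw [rf, map_pow] at h2
      exact (IsUnit.smul_eq_zero (x := (show Γ(G, W.basicOpen (h v)) from z)) (hu n)).1
        (ht.symm.trans ((hu k).smul_eq_zero.1 h2)))
  let S := ShortComplex.mk φ (cokernel.π φ) (cokernel.condition φ)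
  have hS : S.ShortExact :=
    .mk' (ShortComplex.exact_of_g_is_cokernel _ (cokernelIsCokernel φ)) ‹_› inferInstance
  have hC : Coh.IsCoh (cokernel φ) := QCoh.isCoh_of_epi (cokernel.π φ) hK (QCoh.isQCoh_cokernel hK.1 hK.1 φ)
  let G' : W.Modules := (Scheme.Modules.pushforward j).obj (cokernel φ)
  let l : M →ₗ[Γ(W, ⊤)] Γ(G', (⊤ : W.Opens)) :=
    QCoh.appLin ((Scheme.Modules.pushforward j).map (cokernel.π φ)) ⊤
  have hl : Function.Surjective l := QCoh.app_top_surjective_of_HH_one hS (hvan 1 one_pos)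
  have hker : LinearMap.ker l = (Ideal.span {a} : Ideal Γ(W, ⊤)) • (⊤ : Submodule Γ(W, ⊤) M) := by
    ext m
    rw [Submodule.ideal_span_singleton_smul, LinearMap.mem_ker,
      Submodule.mem_smul_pointwise_iff_exists]
    constructor
    · intro hm
      obtain ⟨y, hy⟩ := QCoh.exists_app_f_eq hS ⊤ m hm
      exact ⟨y, trivial, (hφtop y).symm.trans hy⟩
    · rintro ⟨y, -, rfl⟩
      show (cokernel.π φ).app ⊤ (a • y : M) = 0
      rw [← hφtop]
      exact congr(($(cokernel.condition φ)).app ⊤ y)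
  have hsupp : Module.support Γ(W, ⊤) Γ(G', (⊤ : W.Opens)) =
      Module.support Γ(W, ⊤) M ∩ PrimeSpectrum.zeroLocus ({a} : Set Γ(W, ⊤)) := by
    rw [← ((Submodule.quotEquivOfEq _ _ hker.symm).trans (l.quotKerEquivOfSurjective hl)).support_eq,
      Module.support_quotient, PrimeSpectrum.zeroLocus_span]
  haveI : Module.Finite Γ(W, ⊤) Γ(G', (⊤ : W.Opens)) := Module.Finite.of_surjective l hl
  have hlt : (⟨Module.support Γ(W, ⊤) Γ(G', (⊤ : W.Opens)), Module.isClosed_support⟩ :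
      Closeds (PrimeSpectrum Γ(W, ⊤))) <
      ⟨Module.support Γ(W, ⊤) M, Module.isClosed_support⟩ := by
    refine lt_of_le_of_ne (fun q hq => (hsupp.le hq).1) fun heq => ?_
    haveI : Nontrivial M := Module.nonempty_support_iff.1 ⟨p, hp⟩
    obtain ⟨q, hq⟩ := associatedPrimes.nonempty Γ(W, ⊤) M
    haveI := (AssociatedPrimes.mem_iff.1 hq).isPrime
    obtain ⟨hqp, m, hm⟩ := isAssociatedPrime_iff.1 (AssociatedPrimes.mem_iff.1 hq)
    have hqs : (⟨q, hqp⟩ : PrimeSpectrum Γ(W, ⊤)) ∈ Module.support Γ(W, ⊤) M := by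
      refine Module.mem_support_iff_exists_annihilator.2 ⟨m, fun b hb => ?_⟩
      have : b • m = 0 := (Submodule.mem_annihilator_span_singleton m b).1 hb
      show b ∈ q
      rw [hm]
      simp [this]
    have := hsupp.le (heq.ge hqs)
    exact haq q hq (by simpa using this.2)
  refine hxr (ih _ hlt (cokernel φ) hC (Module.Finite.of_surjective l hl)
    (fun q hq => subsingleton_HH_X₃ hS q (hvan q hq) (hvan (q + 1) (by omega))) rfl p ?_ x hx)
  rw [hsupp]
  exact ⟨hp, by simpa using hap⟩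

/-- An open of an affine scheme carrying an acyclic coherent module of full support with finitely
generated sections is closed. -/
theorem isClosed_range_of_acyclic (K : V.Modules) (hK : Coh.IsCoh K) (hsupp : CohB1.support K = Set.univ)
    (hfin : Module.Finite Γ(W, ⊤) Γ((Scheme.Modules.pushforward j).obj K, ⊤))
    (hvan : ∀ q : ℕ, 0 < q → Subsingleton (Coh.HH V K q)) : IsClosed (Set.range j.base) := by
  haveI : QuasiCompact j := quasiCompact_of_noetherianSpace_source j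
  have hW : IsAffineOpen (⊤ : W.Opens) := isAffineOpen_top W
  let G : W.Modules := (Scheme.Modules.pushforward j).obj K
  have hG : Coh.IsQCoh G := QCoh.isQCoh_pushforward j hK.1
  have heq : Set.range j.base = (fun y : W => hW.primeIdealOf ⟨y, trivial⟩) ⁻¹'
      Module.support Γ(W, ⊤) Γ(G, (⊤ : W.Opens)) := by
    refine Set.Subset.antisymm ?_ fun y hy => support_sections_subset j K hK hfin hvan _ hy y rfl
    rintro _ ⟨v, rfl⟩
    by_contra hn
    obtain ⟨b, hbM, hbp⟩ : ∃ b ∈ Module.annihilator Γ(W, ⊤) Γ(G, (⊤ : W.Opens)),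
        b ∉ (hW.primeIdealOf ⟨j.base v, trivial⟩).asIdeal := by
      rw [Set.mem_preimage, Module.support_eq_zeroLocus, PrimeSpectrum.mem_zeroLocus] at hn
      exact Set.not_subset.1 hn
    obtain ⟨h, hle, hv⟩ := hW.exists_basicOpen_le (V := j.opensRange ⊓ W.basicOpen b)
      ⟨j.base v, ⟨v, rfl⟩, (QCoh.mem_basicOpen_iff_notMem hW trivial _).2 hbp⟩ trivial
    have hU : IsAffineOpen (j ⁻¹ᵁ W.basicOpen h) :=
      (hW.basicOpen h).preimage_of_isOpenImmersion j (hle.trans inf_le_left)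
    have hv' : v ∈ j ⁻¹ᵁ W.basicOpen h := hv
    obtain ⟨z, hz⟩ := (QCoh.mem_support_iff hK.1 hU hv').1 (hsupp.ge (Set.mem_univ v))
    obtain ⟨n, t, ht⟩ := QCoh.exists_pow_smul_eq_map hG hW h (show Γ(G, W.basicOpen h) from z)
    have h1 : rf W (W.basicOpen_le h) b • rs G (W.basicOpen_le h) t = 0 := by
      rw [← QCoh.rs_smul, Module.mem_annihilator.1 hbM t]
      exact map_zero _
    have hub : IsUnit (rf W (W.basicOpen_le h) b) := by
      have := (QCoh.isUnit_rf_basicOpen b).map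
        (W.presheaf.map (homOfLE (hle.trans inf_le_right : W.basicOpen h ≤ W.basicOpen b)).op).hom
      rwa [show (W.presheaf.map (homOfLE _).op).hom (rf W (W.basicOpen_le b) b) = rf W (W.basicOpen_le h) b from
        QCoh.rs_rs (G := Coh.structureModule W) _ _ b] at this
    have hz0 : (show Γ(G, W.basicOpen h) from z) = 0 :=
      ((QCoh.isUnit_rf_basicOpen h).pow n).smul_eq_zero.1 (ht.symm.trans (hub.smul_eq_zero.1 h1))
    have hz0' : z = 0 := hz0
    exact hz 1 (by rw [Scheme.basicOpen_of_isUnit _ isUnit_one]; exact hv') (by rw [one_smul, hz0'])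
  rw [heq]
  refine Module.isClosed_support.preimage ?_
  exact hW.isoSpec.hom.continuous.comp (continuous_id.subtype_mk _)

theorem restrict_ring_compat {V Z X : Scheme.{u}} (i : V ⟶ Z) (g : Z ⟶ X) (O : X.Opens)
    (h : (i ⁻¹ᵁ g ⁻¹ᵁ O).ι ''ᵁ ((i ∣_ (g ⁻¹ᵁ O)) ⁻¹ᵁ ⊤) ≤ (i ≫ g) ⁻¹ᵁ O) :
    ((i ≫ g).app O ≫ V.presheaf.map (homOfLE h).op) ≫ ((i ⁻¹ᵁ g ⁻¹ᵁ O).ι.appIso _).hom =
      (((g ⁻¹ᵁ O).ι ≫ g).appLE O ⊤ (fun y _ => y.2) ≫ (i ∣_ (g ⁻¹ᵁ O)).app ⊤ ≫
        ((i ⁻¹ᵁ g ⁻¹ᵁ O).ι.appIso _).inv) ≫ ((i ⁻¹ᵁ g ⁻¹ᵁ O).ι.appIso _).hom := by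
  set T := (i ∣_ (g ⁻¹ᵁ O)) ⁻¹ᵁ ⊤ with hT
  have h1 : ((i ≫ g).app O ≫ V.presheaf.map (homOfLE h).op) ≫ ((i ⁻¹ᵁ g ⁻¹ᵁ O).ι.appIso T).hom =
      ((i ⁻¹ᵁ g ⁻¹ᵁ O).ι ≫ i ≫ g).appLE O T (fun y _ => y.2) := by
    rw [Category.assoc, Scheme.Hom.appIso_hom', Scheme.Hom.map_appLE, ← Scheme.Hom.comp_appLE]
  refine h1.trans ?_
  simp only [Category.assoc, Iso.inv_hom_id, Category.comp_id, hT]
  rw [Scheme.Hom.app_eq_appLE, Scheme.Hom.appLE_comp_appLE]
  simp only [morphismRestrict_ι_assoc]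
  rfl

/-- **A quasi-finite separated morphism with an acyclic coherent module of full support is finite.** -/
theorem isFinite_of_acyclic {V X : Scheme.{u}} [IsNoetherian V] [IsNoetherian X] (f : V ⟶ X)
    [LocallyQuasiFinite f] [LocallyOfFiniteType f] [QuasiCompact f] [IsSeparated f]
    [HasInjectiveResolutions V.Modules] (K : V.Modules) (hK : Coh.IsCoh K)
    (hsupp : CohB1.support K = Set.univ) (hpush : Coh.IsCoh ((Coh.push f).obj K))
    (hvan : ∀ q : ℕ, 0 < q → IsZero ((Coh.Rpush f q).obj K)) : IsFinite f := by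
  obtain ⟨Z, i, g, hi, hg, rfl⟩ := LocImm10.exists_finite_factor f
  haveI : IsLocallyNoetherian Z := LocallyOfFiniteType.isLocallyNoetherian g
  haveI : CompactSpace Z := QuasiCompact.compactSpace_of_compactSpace g
  haveI : IsNoetherian Z := ⟨⟩
  suffices hcl : IsClosed (Set.range i.base) by
    haveI : IsClosedImmersion i := IsClosedImmersion.of_isPreimmersion i hcl
    infer_instance
  choose O hO hxO using fun x : X => QCoh.exists_affine_mem x
  have hcov : IsOpenCover (fun x => g ⁻¹ᵁ O x) :=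
    IsOpenCover.mk (top_le_iff.1 fun z _ => Opens.mem_iSup.2 ⟨g.base z, hxO (g.base z)⟩)
  refine hcov.isClosed_iff_coe_preimage.2 fun x => ?_
  let W' : Z.Opens := g ⁻¹ᵁ O x
  let V' : V.Opens := i ⁻¹ᵁ W'
  haveI : IsAffine (W' : Scheme.{u}) := (hO x).preimage g
  haveI : IsNoetherian (W' : Scheme.{u}) :=
    { toCompactSpace := inferInstance }
  haveI : IsNoetherian (V' : Scheme.{u}) :=
    { toCompactSpace := isCompact_iff_compactSpace.1 (NoetherianSpace.isCompact (V' : Set V)) }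
  have hK' : Coh.IsCoh (K.restrict V'.ι) := QCoh.isCoh_restrict_open hK
  have hs : CohB1.support (K.restrict V'.ι) = Set.univ :=
    Set.eq_univ_of_forall fun y => (mem_support_restrict_iff V'.ι K y).2 (hsupp.ge (Set.mem_univ _))
  have hh : ∀ q : ℕ, 0 < q → Subsingleton (Coh.HH V' (K.restrict V'.ι) q) := fun q hq => by
    let := QCoh.modHH (QCoh.rhoV (i ≫ g) (O x)) (K.restrict ((i ≫ g) ⁻¹ᵁ O x).ι) q
    obtain ⟨e⟩ := QCoh.nonempty_sections_HH (f := i ≫ g) hK.1 (hO x) q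
    haveI : Subsingleton Γ((Coh.Rpush (i ≫ g) q).obj K, O x) := subsingleton_of_forall_eq 0 fun z =>
      (congr(($((IsZero.iff_id_eq_zero _).1 (hvan q hq))).app (O x) z) :)
    exact e.symm.toEquiv.subsingleton
  have hfin : Module.Finite Γ((W' : Scheme.{u}), ⊤)
      Γ((Scheme.Modules.pushforward (i ∣_ W')).obj (K.restrict V'.ι), ⊤) := by
    haveI := QCoh.finite_sections hpush (hO x)
    obtain ⟨m, s, hs'⟩ := Module.Finite.exists_fin (R := Γ(X, O x)) (M := Γ((Coh.push (i ≫ g)).obj K, O x))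
    have hle : V'.ι ''ᵁ ((i ∣_ W') ⁻¹ᵁ ⊤) = V' := V'.ι_image_top
    let τ : Γ((Coh.push (i ≫ g)).obj K, O x) →+
        Γ((Scheme.Modules.pushforward (i ∣_ W')).obj (K.restrict V'.ι), (⊤ : (W' : Scheme.{u}).Opens)) :=
      (K.presheaf.map (homOfLE hle.le).op).hom
    have hτ : Function.Surjective τ := (QCoh.bijective_rs_of_eq K hle.symm hle.le).2
    refine ⟨⟨(Set.finite_range (τ ∘ s)).toFinset, ?_⟩⟩
    rw [Set.Finite.coe_toFinset, eq_top_iff]
    intro z _
    obtain ⟨z, rfl⟩ := hτ z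
    refine Submodule.span_induction (p := fun z _ => τ z ∈ Submodule.span _ (Set.range (τ ∘ s))) ?_
      (by rw [map_zero]; exact zero_mem _) (fun a b _ _ ha hb => by rw [map_add]; exact add_mem ha hb) ?_
      (hs'.ge (Submodule.mem_top (x := z)))
    · rintro _ ⟨k, rfl⟩
      exact Submodule.subset_span ⟨k, rfl⟩
    · intro a z _ hz
      have := Submodule.smul_mem _ ((W'.ι ≫ g).appLE (O x) ⊤ (fun y _ => y.2) a) hz
      convert this using 1
      refine (QCoh.rs_smul (G := K) hle.le ((i ≫ g).app (O x) a) z).trans ?_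
      show _ = (V'.ι.appIso _).inv ((i ∣_ W').app ⊤ ((W'.ι ≫ g).appLE (O x) ⊤ (fun y _ => y.2) a)) • rs K hle.le z
      have hring : (i ≫ g).app (O x) ≫ V.presheaf.map (homOfLE hle.le).op =
          (W'.ι ≫ g).appLE (O x) ⊤ (fun y _ => y.2) ≫ (i ∣_ W').app ⊤ ≫ (V'.ι.appIso _).inv :=
        (cancel_mono (V'.ι.appIso ((i ∣_ W') ⁻¹ᵁ ⊤)).hom).1 (restrict_ring_compat i g (O x) hle.le)
      exact congrArg (· • rs K hle.le z) (ConcreteCategory.congr_hom hring a)
  have key := isClosed_range_of_acyclic (i ∣_ W') (K.restrict V'.ι) hK' hs hfin hh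
  have hr : Set.range (i ∣_ W').base = (Subtype.val : W' → Z) ⁻¹' Set.range i.base := by
    refine Set.ext fun y => ⟨?_, ?_⟩
    · rintro ⟨v, rfl⟩
      exact ⟨v.1, (morphismRestrict_base_coe i W' v).symm⟩
    · rintro ⟨v, hv⟩
      exact ⟨⟨v, show i.base v ∈ W' by rw [hv]; exact y.2⟩, Subtype.ext ((morphismRestrict_base_coe i W' _).trans hv)⟩
  rw [hr] at key
  exact key

end Groth.Agent.RPSM
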