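import Mathlib

/-!
# Basic elements

A finite module over a Noetherian ring, free of rank `r` at all primes of height at most `k`,
contains `r - k` elements which extend to a basis at every such prime.
-/

universe u

namespace Groth.Agent.RPSM.BasicElt

variable {A : Type u} [CommRing A] {M : Type u} [AddCommGroup M] [Module A M]

/-- `M` is free of rank `r` at `p`. -/
def FreeAt (M : Type u) [AddCommGroup M] [Module A M] (r : ℕ) (p : PrimeSpectrum A) : Prop :=
  Nonempty (LocalizedModule p.asIdeal.primeCompl M ≃ₗ[Localization.AtPrime p.asIdeal]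
    (Fin r → Localization.AtPrime p.asIdeal))

/-- Near `p`, `v` and `j` further elements generate `M`. -/
def Gen {m : ℕ} (v : Fin m → M) (p : PrimeSpectrum A) (j : ℕ) : Prop :=
  ∃ w : Fin j → M, ∀ x : M, ∃ s : A, s ∉ p.asIdeal ∧
    s • x ∈ Submodule.span A (Set.range v ∪ Set.range w)

theorem Gen.mono {m : ℕ} {v : Fin m → M} {p : PrimeSpectrum A} {j j' : ℕ} (h : Gen v p j)
    (hj : j ≤ j') : Gen v p j' := by
  obtain ⟨w, hw⟩ := h
  refine ⟨fun i => if hi : i.1 < j then w ⟨i.1, hi⟩ else 0, fun x => ?_⟩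
  obtain ⟨s, hs, hx⟩ := hw x
  refine ⟨s, hs, Submodule.span_mono (Set.union_subset_union_right _ ?_) hx⟩
  rintro _ ⟨i, rfl⟩
  exact ⟨Fin.castLE hj i, by simp⟩

theorem isOpen_gen [Module.Finite A M] {m : ℕ} (v : Fin m → M) (j : ℕ) :
    IsOpen {p : PrimeSpectrum A | Gen v p j} := by
  rw [isOpen_iff_forall_mem_open]
  rintro p ⟨w, hw⟩
  obtain ⟨n, g, hg⟩ := Module.Finite.exists_fin (R := A) (M := M)
  choose s hs hsx using fun i => hw (g i)
  refine ⟨(PrimeSpectrum.basicOpen (∏ i, s i) : TopologicalSpace.Opens (PrimeSpectrum A)),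
    fun q hq => ⟨w, fun x => ⟨∏ i, s i, hq, ?_⟩⟩, (PrimeSpectrum.basicOpen _).isOpen, ?_⟩
  · have hx : x ∈ Submodule.span A (Set.range g) := hg ▸ Submodule.mem_top
    induction hx using Submodule.span_induction with
    | mem y hy =>
      obtain ⟨i, rfl⟩ := hy
      rw [← Finset.prod_erase_mul _ _ (Finset.mem_univ i), mul_smul]
      exact Submodule.smul_mem _ _ (hsx i)
    | zero => rw [smul_zero]; exact Submodule.zero_mem _
    | add y z _ _ hy hz => rw [smul_add]; exact Submodule.add_mem _ hy hz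
    | smul a y _ hy => rw [smul_comm]; exact Submodule.smul_mem _ _ hy
  · exact fun h => by
      obtain ⟨i, -, hi⟩ := (p.isPrime.prod_mem_iff).1 h
      exact hs i hi

theorem finite_minimal_of_isClosed [IsNoetherianRing A] {Z : Set (PrimeSpectrum A)}
    (hZ : IsClosed Z) : {p | p ∈ Z ∧ ∀ q, q < p → q ∉ Z}.Finite := by
  obtain ⟨I, rfl⟩ := (PrimeSpectrum.isClosed_iff_zeroLocus_ideal Z).1 hZ
  refine (I.finite_minimalPrimes_of_isNoetherianRing A).preimage
    (f := PrimeSpectrum.asIdeal) (fun a _ b _ h => PrimeSpectrum.ext h) |>.subset ?_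
  rintro p ⟨hp, hmin⟩
  refine ⟨⟨p.isPrime, hp⟩, fun q hq hqp => ?_⟩
  by_contra hne
  exact hmin ⟨q, hq.1⟩ (lt_of_le_not_ge hqp hne) hq.2

section Local

variable {p : PrimeSpectrum A} {r : ℕ} {ι : Type*} [Fintype ι]

/-- The coordinates at `p` of generators. -/
theorem exists_coord (hf : FreeAt M r p) (g : ι → M)
    (hg : ∀ x : M, ∃ s : A, s ∉ p.asIdeal ∧ s • x ∈ Submodule.span A (Set.range g)) :
    ∃ f : (ι → Localization.AtPrime p.asIdeal) →ₗ[Localization.AtPrime p.asIdeal]
        (Fin r → Localization.AtPrime p.asIdeal),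
      Function.Surjective f ∧ ∀ a : ι → A,
        (f (fun i => algebraMap A _ (a i)) = 0 ↔ ∃ s : A, s ∉ p.asIdeal ∧ s • ∑ i, a i • g i = 0) := by
  classical
  obtain ⟨e⟩ := hf
  let R := Localization.AtPrime p.asIdeal
  let mk := LocalizedModule.mkLinearMap p.asIdeal.primeCompl M
  let f : (ι → R) →ₗ[R] (Fin r → R) := e.toLinearMap ∘ₗ Fintype.linearCombination R (fun i => mk (g i))
  have hfa : ∀ a : ι → A, f (fun i => algebraMap A R (a i)) = e (mk (∑ i, a i • g i)) := fun a => by
    simp only [f, LinearMap.comp_apply, LinearEquiv.coe_coe, Fintype.linearCombination_apply,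
      algebraMap_smul, map_sum, map_smul]
  refine ⟨f, fun y => ?_, fun a => ?_⟩
  · obtain ⟨⟨x, t⟩, hxt⟩ := IsLocalizedModule.surj p.asIdeal.primeCompl mk (e.symm y)
    obtain ⟨s, hs, hsx⟩ := hg x
    obtain ⟨c, hc⟩ := (Submodule.mem_span_range_iff_exists_fun A).1 hsx
    have hu : IsUnit (algebraMap A R (s * t.1)) :=
      IsLocalization.map_units R (⟨s * t.1, p.asIdeal.primeCompl.mul_mem hs t.2⟩ : p.asIdeal.primeCompl)
    refine ⟨(↑hu.unit⁻¹ : R) • (fun i => algebraMap A R (c i)), ?_⟩
    rw [map_smul, hfa, hc, ← e.symm.injective.eq_iff, map_smul, e.symm_apply_apply, map_smul]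
    rw [show s • mk x = algebraMap A R (s * t.1) • e.symm y by
      rw [algebraMap_smul, mul_smul]
      exact congrArg (s • ·) hxt.symm]
    rw [smul_smul, IsUnit.val_inv_mul, one_smul]
  · rw [hfa, e.map_eq_zero_iff, IsLocalizedModule.eq_zero_iff p.asIdeal.primeCompl mk]
    exact ⟨fun ⟨s, hs⟩ => ⟨s.1, s.2, hs⟩, fun ⟨s, hs, h⟩ => ⟨⟨s, hs⟩, h⟩⟩

theorem exists_relation (hf : FreeAt M r p) (g : ι → M)
    (hg : ∀ x : M, ∃ s : A, s ∉ p.asIdeal ∧ s • x ∈ Submodule.span A (Set.range g))
    (hcard : r < Fintype.card ι) :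
    ∃ c : ι → A, ∑ i, c i • g i = 0 ∧ ∃ i, c i ∉ p.asIdeal := by
  classical
  obtain ⟨f, hsurj, hf0⟩ := exists_coord hf g hg
  let R := Localization.AtPrime p.asIdeal
  let K := IsLocalRing.ResidueField R
  let res : R →+* K := IsLocalRing.residue R
  let fbar : (ι → K) →ₗ[K] (Fin r → K) :=
    Fintype.linearCombination K (fun i => res ∘ f (Pi.single i 1))
  have hbar : ∀ (x : ι → R) (j : Fin r), fbar (res ∘ x) j = res (f x j) := fun x j => by
    conv_rhs => rw [pi_eq_sum_univ' x, map_sum]
    simp [fbar, Fintype.linearCombination_apply, Finset.sum_apply, map_sum, map_smul]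
  obtain ⟨xb, hxb, hxb0⟩ := Submodule.exists_mem_ne_zero_of_ne_bot
    (LinearMap.ker_ne_bot_of_finrank_lt (f := fbar) (by simpa using hcard))
  choose x hx using fun i => IsLocalRing.residue_surjective (xb i)
  obtain ⟨i, hi⟩ : ∃ i, xb i ≠ 0 := Function.ne_iff.1 hxb0
  choose z hz using fun j : Fin r => hsurj (Pi.single j 1)
  let y : ι → R := x - ∑ j, f x j • z j
  have hy : f y = 0 := by
    simp only [y, map_sub, map_sum, map_smul, hz]
    rw [← pi_eq_sum_univ', sub_self]
  have hxm : ∀ j, res (f x j) = 0 := fun j => by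
    rw [← hbar, show res ∘ x = xb from funext hx]
    exact congrFun (LinearMap.mem_ker.1 hxb) j
  have hyi : res (y i) ≠ 0 := by
    simp only [y, Pi.sub_apply, Finset.sum_apply, Pi.smul_apply, smul_eq_mul, map_sub, map_sum,
      map_mul, hxm, zero_mul, Finset.sum_const_zero, sub_zero]
    exact (hx i).symm ▸ hi
  obtain ⟨b, hb⟩ := IsLocalization.exist_integer_multiples_of_finite p.asIdeal.primeCompl y
  choose a ha using hb
  have ha' : (fun i => algebraMap A R (a i)) = b.1 • y := funext fun i => ha i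
  obtain ⟨s, hs, hsum⟩ := (hf0 a).1 (by rw [ha', LinearMap.map_smul_of_tower, hy, smul_zero])
  refine ⟨fun i => s * a i, ?_, i, fun hmem => ?_⟩
  · simpa [mul_smul, Finset.smul_sum] using hsum
  · have hai : a i ∈ p.asIdeal := (p.isPrime.mem_or_mem hmem).resolve_left hs
    have h1 : algebraMap A R (a i) ∈ IsLocalRing.maximalIdeal R :=
      (IsLocalization.AtPrime.to_map_mem_maximal_iff R p.asIdeal (a i)).2 hai
    rw [ha i, Algebra.smul_def] at h1
    refine hyi ((IsLocalRing.residue_eq_zero_iff _).2 ?_)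
    exact (Ideal.unit_mul_mem_iff_mem _ (IsLocalization.map_units R b)).1 h1

theorem independent (hf : FreeAt M r p) (g : ι → M)
    (hg : ∀ x : M, ∃ s : A, s ∉ p.asIdeal ∧ s • x ∈ Submodule.span A (Set.range g))
    (hcard : Fintype.card ι = r) (c : ι → A) {s : A} (hs : s ∉ p.asIdeal)
    (hc : s • ∑ i, c i • g i = 0) (i : ι) : ∃ t : A, t ∉ p.asIdeal ∧ t * c i = 0 := by
  obtain ⟨f, hsurj, hf0⟩ := exists_coord hf g hg
  let R := Localization.AtPrime p.asIdeal
  let e : (Fin r → R) ≃ₗ[R] (ι → R) :=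
    LinearEquiv.funCongrLeft R R (Fintype.equivFinOfCardEq hcard)
  have hinj : Function.Injective f := fun a b hab =>
    OrzechProperty.injective_of_surjective_endomorphism (e.toLinearMap ∘ₗ f)
      (e.surjective.comp hsurj) (congrArg e hab)
  have h0 := hinj (((hf0 c).2 ⟨s, hs, hc⟩).trans f.map_zero.symm)
  obtain ⟨⟨t, ht⟩, h⟩ := (IsLocalization.map_eq_zero_iff p.asIdeal.primeCompl R (c i)).1 (congrFun h0 i)
  exact ⟨t, ht, h⟩

end Local

/-- Avoiding finitely many affine conditions modulo primes. -/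
theorem exists_avoid {m : ℕ} (T : Finset (PrimeSpectrum A)) (c : PrimeSpectrum A → Fin m → A)
    (c₀ : PrimeSpectrum A → A) (h : ∀ p ∈ T, c₀ p ∉ p.asIdeal ∨ ∃ i, c p i ∉ p.asIdeal) :
    ∃ a : Fin m → A, ∀ p ∈ T, c₀ p - ∑ i, a i * c p i ∉ p.asIdeal := by
  classical
  induction T using Finset.strongInduction with
  | _ T ih =>
    rcases T.eq_empty_or_nonempty with rfl | hne
    · exact ⟨0, by simp⟩
    obtain ⟨p, hp⟩ := T.exists_minimal hne
    obtain ⟨a, ha⟩ := ih (T.erase p) (Finset.erase_ssubset hp.1)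
      fun q hq => h q (Finset.mem_of_mem_erase hq)
    by_cases hgood : c₀ p - ∑ i, a i * c p i ∈ p.asIdeal
    · obtain ⟨i, hi⟩ : ∃ i, c p i ∉ p.asIdeal := by
        by_contra hall
        push Not at hall
        refine (h p hp.1).elim (fun h0 => h0 ?_) (fun ⟨i, hi⟩ => hi (hall i))
        have := p.asIdeal.add_mem hgood
          (p.asIdeal.sum_mem fun i (_ : i ∈ Finset.univ) => p.asIdeal.mul_mem_left (a i) (hall i))
        rwa [sub_add_cancel] at this
      obtain ⟨x, hxT, hxp⟩ : ∃ x, x ∈ (T.erase p).inf PrimeSpectrum.asIdeal ∧ x ∉ p.asIdeal := by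
        by_contra hall
        push Not at hall
        obtain ⟨q, hq, hqp⟩ := (p.isPrime.inf_le').1 hall
        exact (Finset.ne_of_mem_erase hq) (le_antisymm hqp (hp.2 (Finset.mem_of_mem_erase hq) hqp))
      have key : ∀ q, c₀ q - ∑ l, (a + Pi.single i x : Fin m → A) l * c q l =
          (c₀ q - ∑ l, a l * c q l) - x * c q i := fun q => by
        simp [add_mul, Finset.sum_add_distrib, Pi.single_apply, ite_mul, Finset.sum_ite_eq']
        ring
      refine ⟨a + Pi.single i x, fun q hq => ?_⟩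
      rw [key]
      by_cases hqp : q = p
      · subst hqp
        intro h'
        exact (q.isPrime.mem_or_mem ((Submodule.sub_mem_iff_right _ hgood).1 h')).elim hxp hi
      · have hx : x ∈ q.asIdeal :=
          Finset.inf_le (f := PrimeSpectrum.asIdeal) (Finset.mem_erase.2 ⟨hqp, hq⟩) hxT
        exact fun h' => ha q (Finset.mem_erase.2 ⟨hqp, hq⟩)
          ((Submodule.sub_mem_iff_left _ (q.asIdeal.mul_mem_right _ hx)).1 h')
    · refine ⟨a, fun q hq => ?_⟩
      by_cases hqp : q = p
      · exact hqp ▸ hgood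
      · exact ha q (Finset.mem_erase.2 ⟨hqp, hq⟩)

variable [IsNoetherianRing A] [Module.Finite A M]

theorem height_eq_toNat {p : PrimeSpectrum A} {k : ℕ} (hp : p.asIdeal.height ≤ k) :
    p.asIdeal.height = (p.asIdeal.height.toNat : ℕ∞) :=
  (ENat.coe_toNat (ne_top_of_le_ne_top (ENat.natCast_ne_top k) hp)).symm

/-- One generator can be dropped. -/
theorem step {k r m : ℕ} (hm : r ≤ m + k)
    (hM : ∀ p : PrimeSpectrum A, p.asIdeal.height ≤ k → FreeAt M r p) (v : Fin (m + 1) → M)
    (hv : ∀ p : PrimeSpectrum A, p.asIdeal.height ≤ k →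
      Gen v p (max (r - (m + 1)) p.asIdeal.height.toNat)) :
    ∃ v' : Fin m → M, ∀ p : PrimeSpectrum A, p.asIdeal.height ≤ k →
      Gen v' p (max (r - m) p.asIdeal.height.toNat) := by
  classical
  let v₀ := v (Fin.last m)
  let bad : Set (PrimeSpectrum A) := {p | p.asIdeal.height ≤ k ∧
    r - m ≤ p.asIdeal.height.toNat ∧ (p.asIdeal.height.toNat = 0 ∨ ¬ Gen v p (p.asIdeal.height.toNat - 1))}
  have hbad : bad.Finite := by
    let Z : ℕ → Set (PrimeSpectrum A) := fun h =>
      if h = 0 then Set.univ else {p | ¬ Gen v p (h - 1)}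
    have hZ : ∀ h, IsClosed (Z h) := fun h => by
      by_cases h0 : h = 0
      · simp [Z, h0]
      · simp only [Z, if_neg h0]
        exact (isOpen_gen v _).isClosed_compl
    refine ((Finset.range (k + 1)).finite_toSet.biUnion
      fun h _ => finite_minimal_of_isClosed (hZ h)).subset ?_
    rintro p ⟨hp, hle, hor⟩
    have hh : p.asIdeal.height.toNat ≤ k := ENat.toNat_le_of_le_coe hp
    refine Set.mem_biUnion (Finset.mem_range.2 (Nat.lt_succ_of_le hh)) ⟨?_, fun q hq hqZ => ?_⟩
    · rcases hor with h0 | h0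
      · simp [Z, h0]
      · by_cases h : p.asIdeal.height.toNat = 0
        · simp [Z, h]
        · simp [Z, h, h0]
    · have hlt : q.asIdeal.height < p.asIdeal.height :=
        Ideal.height_strict_mono_of_isPrime_of_isPrime hq
      have hqk : q.asIdeal.height ≤ k := hlt.le.trans hp
      rw [height_eq_toNat hp, height_eq_toNat hqk, Nat.cast_lt] at hlt
      have hg := (hv q hqk).mono (j' := p.asIdeal.height.toNat - 1) (max_le (by omega) (by omega))
      simp only [Z, if_neg (by omega : p.asIdeal.height.toNat ≠ 0)] at hqZ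
      exact hqZ hg
  -- relations at the bad primes
  have hrel : ∀ p ∈ bad, ∃ (w : Fin p.asIdeal.height.toNat → M) (c : Fin (m + 1) → A)
      (d : Fin p.asIdeal.height.toNat → A),
      (∀ x : M, ∃ s : A, s ∉ p.asIdeal ∧ s • x ∈ Submodule.span A (Set.range v ∪ Set.range w)) ∧
      (∑ i, c i • v i) + (∑ j, d j • w j) = 0 ∧ ∃ i, c i ∉ p.asIdeal := by
    rintro p ⟨hp, hle, hor⟩
    obtain ⟨w, hw⟩ := (hv p hp).mono (j' := p.asIdeal.height.toNat) (max_le (by omega) le_rfl)
    obtain ⟨c, hc, hne⟩ := exists_relation (hM p hp) (Sum.elim v w)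
      (by simpa [Set.Sum.elim_range] using hw) (by simp; omega)
    rw [Fintype.sum_sum_type] at hc
    refine ⟨w, c ∘ Sum.inl, c ∘ Sum.inr, hw, hc, ?_⟩
    obtain ⟨i | j, hi⟩ := hne
    · exact ⟨i, hi⟩
    by_contra hall
    push Not at hall
    have hpos : 0 < p.asIdeal.height.toNat := (Nat.zero_le j.1).trans_lt j.2
    refine (hor.resolve_left hpos.ne') ?_
    obtain ⟨h', hh'⟩ : ∃ h', p.asIdeal.height.toNat = h' + 1 := ⟨_, (Nat.succ_pred_eq_of_pos hpos).symm⟩
    let j' : Fin (h' + 1) := Fin.cast hh' j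
    let w' : Fin (h' + 1) → M := w ∘ Fin.cast hh'.symm
    rw [hh', Nat.add_sub_cancel]
    refine ⟨w' ∘ j'.succAbove, fun x => ?_⟩
    obtain ⟨s, hs, hx⟩ := hw x
    refine ⟨c (Sum.inr j) * s, p.isPrime.mul_notMem hi hs, ?_⟩
    rw [mul_smul]
    let S := Submodule.span A (Set.range v ∪ Set.range (w' ∘ j'.succAbove))
    have hwj : ∀ l, c (Sum.inr j) • w l ∈ S := fun l => by
      rcases Fin.eq_self_or_eq_succAbove j' (Fin.cast hh' l) with hl | ⟨n, hn⟩
      · obtain rfl : l = j := Fin.cast_injective hh' hl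
        have : c (Sum.inr l) • w l =
            -((∑ i, c (Sum.inl i) • v i) + ∑ n ∈ Finset.univ.erase l, c (Sum.inr n) • w n) := by
          rw [eq_neg_iff_add_eq_zero, ← add_assoc, add_comm (_ • w l), add_assoc,
            Finset.add_sum_erase _ (fun n => c (Sum.inr n) • w n) (Finset.mem_univ l)]
          exact hc
        rw [this]
        refine S.neg_mem (S.add_mem (S.sum_mem fun i _ => S.smul_mem _
          (Submodule.subset_span (Or.inl ⟨i, rfl⟩))) (S.sum_mem fun n hn => S.smul_mem _ ?_))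
        rcases Fin.eq_self_or_eq_succAbove (Fin.cast hh' l) (Fin.cast hh' n) with hl' | ⟨n', hn'⟩
        · exact absurd (Fin.cast_injective hh' hl') (Finset.ne_of_mem_erase hn)
        · exact Submodule.subset_span (Or.inr ⟨n', by simp [w', j', ← hn']⟩)
      · exact S.smul_mem _ (Submodule.subset_span (Or.inr ⟨n, by simp [w', ← hn]⟩))
    refine Submodule.span_le (p := S.comap (LinearMap.lsmul A M (c (Sum.inr j)))) |>.2 ?_ hx
    rintro _ (⟨i, rfl⟩ | ⟨l, rfl⟩)
    · exact S.smul_mem _ (Submodule.subset_span (Or.inl ⟨i, rfl⟩))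
    · exact hwj l
  choose! w c d hw hsum hne using hrel
  obtain ⟨a, ha⟩ := exists_avoid hbad.toFinset (fun p i => c p i.castSucc) (fun p => c p (Fin.last m))
    fun p hp => by
      obtain ⟨i, hi⟩ := hne p (hbad.mem_toFinset.1 hp)
      induction i using Fin.lastCases with
      | last => exact Or.inl hi
      | cast i => exact Or.inr ⟨i, hi⟩
  refine ⟨fun i => v i.castSucc + a i • v₀, fun p hp => ?_⟩
  let V' := Set.range fun i : Fin m => v i.castSucc + a i • v₀
  -- adding the dropped generator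
  have hadd : ∀ {j : ℕ} (S : Set M), v₀ ∈ Submodule.span A (V' ∪ S) →
      ∀ {x : M}, x ∈ Submodule.span A (Set.range v ∪ S) → x ∈ Submodule.span A (V' ∪ S) := by
    intro _ S h0 x hx
    refine Submodule.span_le.2 ?_ hx
    rintro _ (⟨i, rfl⟩ | hs)
    · induction i using Fin.lastCases with
      | last => exact h0
      | cast i =>
        have := Submodule.sub_mem _ (Submodule.subset_span (R := A) (s := V' ∪ S) (Or.inl ⟨i, rfl⟩))
          (Submodule.smul_mem _ (a i) h0)
        simpa using this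
    · exact Submodule.subset_span (Or.inr hs)
  by_cases hb : p ∈ bad
  · refine Gen.mono ⟨w p, fun x => ?_⟩ (le_max_right _ _)
    obtain ⟨s, hs, hx⟩ := hw p hb x
    let u := c p (Fin.last m) - ∑ i, a i * c p i.castSucc
    refine ⟨u * s, p.isPrime.mul_notMem (ha p (hbad.mem_toFinset.2 hb)) hs, ?_⟩
    rw [mul_smul]
    let S := Submodule.span A (V' ∪ Set.range (w p))
    have hu0 : u • v₀ ∈ S := by
      have h := hsum p hb
      rw [Fin.sum_univ_castSucc] at h
      have e : u • v₀ = -((∑ i, c p i.castSucc • (v i.castSucc + a i • v₀)) + ∑ j, d p j • w p j) := by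
        rw [eq_neg_iff_add_eq_zero, ← h]
        simp only [u, v₀, sub_smul, Finset.sum_smul, smul_add, Finset.sum_add_distrib, smul_smul,
          mul_comm (a _)]
        abel
      rw [e]
      exact S.neg_mem (S.add_mem (S.sum_mem fun i _ => S.smul_mem _ (Submodule.subset_span (Or.inl ⟨i, rfl⟩)))
        (S.sum_mem fun j _ => S.smul_mem _ (Submodule.subset_span (Or.inr ⟨j, rfl⟩))))
    refine Submodule.span_le (p := S.comap (LinearMap.lsmul A M u)) |>.2 ?_ hx
    rintro _ (⟨i, rfl⟩ | hl)
    · induction i using Fin.lastCases with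
      | last => exact hu0
      | cast i =>
        have := S.sub_mem (S.smul_mem u (Submodule.subset_span (Or.inl ⟨i, rfl⟩))) (S.smul_mem (a i) hu0)
        show u • v i.castSucc ∈ S
        simpa [smul_add, smul_comm (a i) u] using this
    · exact S.smul_mem u (Submodule.subset_span (Or.inr hl))
  · -- otherwise one further element suffices
    have key : ∀ j, Gen v p j →
        Gen (fun i : Fin m => v i.castSucc + a i • v₀) p (j + 1) := by
      rintro j ⟨w, hw⟩
      refine ⟨Fin.cons v₀ w, fun x => ?_⟩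
      obtain ⟨s, hs, hx⟩ := hw x
      refine ⟨s, hs, hadd (j := j) (Set.range (Fin.cons v₀ w : Fin (j + 1) → M)) (Submodule.subset_span (Or.inr ⟨0, Fin.cons_zero _ _⟩))
        (Submodule.span_mono (Set.union_subset_union_right _ ?_) hx)⟩
      rintro _ ⟨l, rfl⟩
      exact ⟨l.succ, by simp⟩
    by_cases hlt : p.asIdeal.height.toNat < r - m
    · exact (key _ (hv p hp)).mono (by omega)
    · have h0 : p.asIdeal.height.toNat ≠ 0 ∧ Gen v p (p.asIdeal.height.toNat - 1) := by
        by_contra hc'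
        exact hb ⟨hp, not_lt.1 hlt, or_iff_not_imp_left.2 fun h1 h2 => hc' ⟨h1, h2⟩⟩
      exact (key _ h0.2).mono (by omega)

/-- `r - k` elements which extend to a generating system by `k` elements at low primes. -/
theorem exists_elts {k r : ℕ}
    (hM : ∀ p : PrimeSpectrum A, p.asIdeal.height ≤ k → FreeAt M r p) :
    ∃ v : Fin (r - k) → M, ∀ p : PrimeSpectrum A, p.asIdeal.height ≤ k → Gen v p k := by
  classical
  obtain ⟨n, g, hg⟩ := Module.Finite.exists_fin (R := A) (M := M)
  have h : ∀ t, t ≤ n → ∃ v : Fin ((r - k) + (n - t)) → M, ∀ p : PrimeSpectrum A,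
      p.asIdeal.height ≤ k → Gen v p (max (r - ((r - k) + (n - t))) p.asIdeal.height.toNat) := by
    intro t
    induction t with
    | zero =>
      refine fun _ => ⟨Fin.append 0 g, fun p _ => Gen.mono ⟨Fin.elim0, fun x =>
        ⟨1, p.asIdeal.primeCompl.one_mem, ?_⟩⟩ (Nat.zero_le _)⟩
      refine Submodule.span_mono ?_ (show (1 : A) • x ∈ Submodule.span A (Set.range g) from hg ▸ Submodule.mem_top)
      rintro _ ⟨i, rfl⟩
      exact Or.inl ⟨Fin.natAdd _ i, Fin.append_right _ _ i⟩
    | succ t ih =>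
      intro ht
      have hh : (r - k) + (n - t) = (r - k) + (n - (t + 1)) + 1 := by omega
      have h' := ih (by omega)
      rw [hh] at h'
      obtain ⟨v, hv⟩ := h'
      exact step (by omega) hM v hv
  have h' := h n le_rfl
  rw [Nat.sub_self, Nat.add_zero] at h'
  obtain ⟨v, hv⟩ := h'
  exact ⟨v, fun p hp => (hv p hp).mono (max_le (by omega) (ENat.toNat_le_of_le_coe hp))⟩

/-- A free submodule with quotient free of rank `k` at the primes of height at most `k`. -/
theorem exists_free_submodule {k r : ℕ} (hkr : k ≤ r)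
    (hAss : ∀ p ∈ associatedPrimes A A, p.height ≤ k)
    (hM : ∀ p : PrimeSpectrum A, p.asIdeal.height ≤ k → FreeAt M r p) :
    ∃ N : Submodule A M, Nonempty (N ≃ₗ[A] (Fin (r - k) → A)) ∧
      ∀ p : PrimeSpectrum A, p.asIdeal.height ≤ k → FreeAt (M ⧸ N) k p := by
  classical
  obtain ⟨v, hv⟩ := exists_elts hM
  choose! w hw using hv
  have hind : ∀ (p : PrimeSpectrum A) (hp : p.asIdeal.height ≤ k) (c : Fin (r - k) ⊕ Fin k → A) (s : A),
      s ∉ p.asIdeal → s • ((∑ i, c (Sum.inl i) • v i) + ∑ j, c (Sum.inr j) • w p j) = 0 →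
      ∀ i, ∃ t : A, t ∉ p.asIdeal ∧ t * c i = 0 := fun p hp c s hs h =>
    independent (hM p hp) (Sum.elim v (w p)) (by simpa [Set.Sum.elim_range] using hw p hp)
      (by simp; omega) c hs (by simpa [Fintype.sum_sum_type] using h)
  let f : (Fin (r - k) → A) →ₗ[A] M := Fintype.linearCombination A v
  have hf : Function.Injective f := by
    rw [injective_iff_map_eq_zero]
    intro x hx
    ext i
    by_contra hi
    obtain ⟨P, hP, hle⟩ := exists_le_isAssociatedPrime_of_isNoetherianRing A (x i) hi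
    obtain ⟨t, ht, ht0⟩ := hind ⟨P, hP.isPrime⟩ (hAss P hP) (Sum.elim x 0) 1
      (fun h1 => hP.isPrime.ne_top ((Ideal.eq_top_iff_one _).2 h1))
      (by simpa [f, Fintype.linearCombination_apply] using hx) (Sum.inl i)
    exact ht (hle (by simpa using ht0))
  refine ⟨LinearMap.range f, ⟨(LinearEquiv.ofInjective f hf).symm⟩, fun p hp => ?_⟩
  let R := Localization.AtPrime p.asIdeal
  let mk := LocalizedModule.mkLinearMap p.asIdeal.primeCompl (M ⧸ LinearMap.range f)
  let q : Fin k → LocalizedModule p.asIdeal.primeCompl (M ⧸ LinearMap.range f) := fun j =>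
    mk (Submodule.Quotient.mk (w p j))
  let φ := Fintype.linearCombination R q
  have hφa : ∀ a : Fin k → A, φ (fun j => algebraMap A R (a j)) =
      mk (Submodule.Quotient.mk (∑ j, a j • w p j)) := fun a => by
    simp only [φ, Fintype.linearCombination_apply, algebraMap_smul, q]
    rw [← Submodule.mkQ_apply (LinearMap.range f), map_sum, map_sum]
    simp
  refine ⟨(LinearEquiv.ofBijective φ ⟨?_, ?_⟩).symm⟩
  · rw [injective_iff_map_eq_zero]
    intro y hy
    obtain ⟨b, hb⟩ := IsLocalization.exist_integer_multiples_of_finite p.asIdeal.primeCompl y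
    choose a ha using hb
    have ha' : (fun i => algebraMap A R (a i)) = b.1 • y := funext fun i => ha i
    have h0 : φ (fun i => algebraMap A R (a i)) = 0 := by
      rw [ha', LinearMap.map_smul_of_tower, hy, smul_zero]
    rw [hφa, IsLocalizedModule.eq_zero_iff p.asIdeal.primeCompl mk] at h0
    obtain ⟨s, hs⟩ := h0
    rw [Submonoid.smul_def, ← Submodule.Quotient.mk_smul, Submodule.Quotient.mk_eq_zero] at hs
    obtain ⟨x, hx⟩ := hs
    ext j
    obtain ⟨t, ht, ht0⟩ := hind p hp (Sum.elim (-x) (fun j => s.1 * a j)) 1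
      (fun h1 => p.isPrime.ne_top ((Ideal.eq_top_iff_one _).2 h1))
      (by
        simp only [f, Fintype.linearCombination_apply] at hx
        simp [mul_smul, ← Finset.smul_sum, hx])
      (Sum.inr j)
    have hz : algebraMap A R (a j) = 0 :=
      (IsLocalization.map_eq_zero_iff p.asIdeal.primeCompl R (a j)).2
        ⟨⟨t * s.1, p.asIdeal.primeCompl.mul_mem ht s.2⟩, by simpa [mul_assoc] using ht0⟩
    rw [ha j, Algebra.smul_def] at hz
    exact ((IsLocalization.map_units R b).mul_right_eq_zero).1 hz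
  · intro z
    obtain ⟨⟨x, t⟩, hxt⟩ := IsLocalizedModule.surj p.asIdeal.primeCompl mk z
    induction x using Submodule.Quotient.induction_on with
    | _ x =>
    obtain ⟨s, hs, hsx⟩ := hw p hp x
    have hu : IsUnit (algebraMap A R (s * t.1)) :=
      IsLocalization.map_units R (⟨s * t.1, p.asIdeal.primeCompl.mul_mem hs t.2⟩ : p.asIdeal.primeCompl)
    obtain ⟨c, hc⟩ : ∃ c : Fin k → A,
        Submodule.Quotient.mk (p := LinearMap.range f) (s • x) =
          Submodule.Quotient.mk (∑ j, c j • w p j) := by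
      rw [Submodule.span_union, Submodule.mem_sup] at hsx
      obtain ⟨y₁, h₁, y₂, h₂, he⟩ := hsx
      obtain ⟨c, rfl⟩ := (Submodule.mem_span_range_iff_exists_fun A).1 h₂
      refine ⟨c, (Submodule.Quotient.eq _).2 ?_⟩
      rw [← he, add_sub_cancel_right, Fintype.range_linearCombination]
      exact h₁
    refine ⟨(↑hu.unit⁻¹ : R) • (fun j => algebraMap A R (c j)), ?_⟩
    rw [map_smul, hφa, ← hc, Submodule.Quotient.mk_smul, map_smul,
      show s • mk (Submodule.Quotient.mk x) = algebraMap A R (s * t.1) • z by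
        rw [algebraMap_smul, mul_smul]
        exact congrArg (s • ·) hxt.symm,
      smul_smul, IsUnit.val_inv_mul, one_smul]

end Groth.Agent.RPSM.BasicElt
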