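import Groth.Agent.RPSM.QCohCat
import Groth.Agent.QCoh.ExtendFT
import Groth.Agent.QCoh.Support
import Groth.Agent.KZ.CohClass
import Groth.Agent.KZ.OpenExt
import Groth.Agent.SheafHomX.Coherent
import Mathlib.CategoryTheory.Subobject.NoetherianObject
import Mathlib.AlgebraicGeometry.Noetherian

/-!
# Noetherian objects among quasi-coherent modules
-/

universe u

set_option backward.isDefEq.respectTransparency false
set_option backward.isDefEq.respectTransparency.types false

open CategoryTheory CategoryTheory.Limits AlgebraicGeometry TopologicalSpace Opposite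

namespace Groth.Agent.RPSM

variable {X : Scheme.{u}} {M : QCohCat.QCoh X}

theorem mono_hom {A : QCohCat.QCoh X} (a : A ⟶ M) [Mono a] : Mono a.hom :=
  inferInstanceAs (Mono ((QCohCat.isQCoh X).ι.map a))

/-- Sections of a subobject on an open. -/
noncomputable def subSec (P : Subobject M) (U : X.Opens) : Submodule Γ(X, U) Γ(M.obj, U) :=
  LinearMap.range (QCoh.appLin P.arrow.hom U)

theorem subSec_mono {P Q : Subobject M} (h : P ≤ Q) (U : X.Opens) : subSec P U ≤ subSec Q U := by
  rw [subSec, ← Subobject.ofLE_arrow h]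
  exact LinearMap.range_comp_le_range (QCoh.appLin (Subobject.ofLE P Q h).hom U) (QCoh.appLin Q.arrow.hom U)

theorem le_of_subSec {P Q : Subobject M} {κ : Type*} (U : κ → X.Opens)
    (haff : ∀ k, IsAffineOpen (U k)) (hU : ∀ x : X, ∃ k, x ∈ U k)
    (h : ∀ k, subSec P (U k) ≤ subSec Q (U k)) : P ≤ Q := by
  haveI := mono_hom P.arrow
  haveI := mono_hom Q.arrow
  have hle := QCoh.subobject_le_of_cover (P : QCohCat.QCoh X).property (Q : QCohCat.QCoh X).property
    M.property P.arrow.hom Q.arrow.hom U haff hU h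
  exact Subobject.le_of_comm (ObjectProperty.homMk (Subobject.ofMkLEMk _ _ hle))
    (ObjectProperty.hom_ext _ (Subobject.ofMkLEMk_comp hle))

theorem exists_finite_affine_cover [CompactSpace X] :
    ∃ T : Finset X.affineOpens, ∀ x : X, ∃ A ∈ T, x ∈ A.1 := by
  obtain ⟨T, hT⟩ := isCompact_univ.elim_finite_subcover (fun A : X.affineOpens => (A.1 : Set X))
    (fun A => A.1.2) (fun x _ => by
      obtain ⟨_, ⟨A, hA, rfl⟩, hxA, -⟩ :=
        X.isBasis_affineOpens.exists_subset_of_mem_open (Set.mem_univ x) isOpen_univ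
      exact Set.mem_iUnion.2 ⟨⟨A, hA⟩, hxA⟩)
  exact ⟨T, fun x => by simpa using hT (Set.mem_univ x)⟩

variable [IsNoetherian X]

theorem isNoetherianObject_of_isCoh (h : Coh.IsCoh M.obj) : IsNoetherianObject M := by
  obtain ⟨T, hT⟩ := exists_finite_affine_cover (X := X)
  have hmod : ∀ A : T, IsNoetherian Γ(X, A.1.1) Γ(M.obj, A.1.1) := fun A => by
    haveI := QCoh.noetherian_sections A.1
    haveI := QCoh.finite_sections h A.1.2
    exact isNoetherian_of_isNoetherianRing_of_finite _ _
  rw [isNoetherianObject_iff_monotone_chain_condition]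
  intro f
  choose n hn using fun A : T => (monotone_stabilizes_iff_noetherian.2 (hmod A))
    ⟨fun k => subSec (f k) A.1.1, fun a b hab => subSec_mono (f.monotone hab) _⟩
  refine ⟨Finset.univ.sup n, fun m hm => (f.monotone hm).antisymm ?_⟩
  refine le_of_subSec (fun A : T => A.1.1) (fun A => A.1.2)
    (fun x => let ⟨A, hA, hxA⟩ := hT x; ⟨⟨A, hA⟩, hxA⟩) fun A => ?_
  have hA : n A ≤ Finset.univ.sup n := Finset.le_sup (Finset.mem_univ A)
  exact ((hn A m (hA.trans hm)).symm.trans (hn A _ hA)).le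

theorem isCoh_of_isNoetherianObject (h : IsNoetherianObject M) : Coh.IsCoh M.obj := by
  haveI := h
  have hX : ∀ x : X, ∃ U : X.Opens, x ∈ U ∧ NoetherianSpace (U : Set X) := fun x =>
    ⟨⊤, trivial, inferInstance⟩
  let S : Set (Subobject M) := {P | Coh.IsCoh (P : QCohCat.QCoh X).obj}
  have hS : S.Nonempty := by
    refine ⟨⊥, ?_⟩
    have hz : IsZero ((⊥ : Subobject M) : QCohCat.QCoh X).obj :=
      (QCohCat.isQCoh X).ι.map_isZero (IsZero.of_iso (isZero_zero _) Subobject.botCoeIsoZero)
    exact SheafHomX.isCoh_of_iso (IsZero.iso (isZero_zero _) hz) KZ.isCoh_zero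
  obtain ⟨P, hP, hmax⟩ := (wellFounded_gt (α := Subobject M)).has_min S hS
  have hgen : ∀ (V : X.affineOpens) (t : Γ(M.obj, V.1)), t ∈ subSec P V.1 := by
    intro V t
    obtain ⟨N, hN, htN⟩ := QCoh.exists_ftOn_contains M.property V.2
      (QCoh.extStep_noetherian hX V.1) {t} (Set.finite_singleton t)
    let Nc : QCohCat.QCoh X := ⟨N.toModules, QCoh.isQCoh_of_ftOn M.property hN⟩
    have hNc : Coh.IsCoh Nc.obj := ⟨Nc.property, QCoh.isFT_of_ftOn M.property hN⟩
    let d : (P : QCohCat.QCoh X) ⊞ Nc ⟶ M := biprod.desc P.arrow (ObjectProperty.homMk N.ι)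
    haveI : PreservesBinaryBiproducts (QCohCat.isQCoh X).ι :=
      preservesBinaryBiproducts_of_preservesBinaryProducts _
    have hP' : Coh.IsCoh ((P : QCohCat.QCoh X) ⊞ Nc).obj :=
      SheafHomX.isCoh_of_iso ((QCohCat.isQCoh X).ι.mapBiprod _ _).symm (KZ.isCoh_biprod hP hNc)
    haveI := mono_hom (Limits.image.ι d)
    haveI : Epi (factorThruImage d).hom :=
      inferInstanceAs (Epi ((QCohCat.isQCoh X).ι.map (factorThruImage d)))
    let e := Subobject.underlyingIso (Limits.image.ι d)
    have hQ : Subobject.mk (Limits.image.ι d) ∈ S :=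
      SheafHomX.isCoh_of_iso ((QCohCat.isQCoh X).ι.mapIso e.symm)
        (QCoh.isCoh_of_epi (factorThruImage d).hom hP' (Limits.image d).property)
    have hle : P ≤ Subobject.mk (Limits.image.ι d) :=
      Subobject.le_mk_of_comm (biprod.inl ≫ factorThruImage d) (by simp [d])
    have heq : P = Subobject.mk (Limits.image.ι d) :=
      hle.eq_or_lt.resolve_right fun hlt => hmax _ hQ hlt
    obtain ⟨t', ht'⟩ := N.exists_app_eq (htN rfl)
    rw [heq]
    let w : Nc ⟶ (Subobject.mk (Limits.image.ι d) : QCohCat.QCoh X) :=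
      biprod.inr ≫ factorThruImage d ≫ e.inv
    have hw : w ≫ (Subobject.mk (Limits.image.ι d)).arrow = ObjectProperty.homMk N.ι := by
      simp [w, e, d]
    refine ⟨w.hom.app V.1 t', ?_⟩
    rw [← ht']
    exact congrArg (fun q => q.hom.app V.1 t') hw
  have htop : P = ⊤ := top_unique (le_of_subSec (fun A : X.affineOpens => A.1) (fun A => A.2)
    (fun x => by
      obtain ⟨_, ⟨A, hA, rfl⟩, hxA, -⟩ :=
        X.isBasis_affineOpens.exists_subset_of_mem_open (Set.mem_univ x) isOpen_univ
      exact ⟨⟨A, hA⟩, hxA⟩)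
    fun A t _ => hgen A t)
  subst htop
  exact SheafHomX.isCoh_of_iso ((QCohCat.isQCoh X).ι.mapIso (asIso (⊤ : Subobject M).arrow)) hP

end Groth.Agent.RPSM
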