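import Groth.Agent.RPSM.FPExact
import Groth.Agent.RPSM.Noeth
import Groth.Agent.RPSM.QCohGen
import Groth.Agent.RPSM.CompactQCoh

/-!
# Coherent modules generate the quasi-coherent modules on a Noetherian scheme

The small category `CohJ X` of coherent modules, its inclusion `cohG X` in `QCohCat.QCoh X` and its
equivalence `cohLift X` with the category of all coherent modules.
-/

universe u

set_option backward.isDefEq.respectTransparency false
set_option backward.isDefEq.respectTransparency.types false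

open CategoryTheory CategoryTheory.Limits AlgebraicGeometry TopologicalSpace Opposite
open scoped ZeroObject

namespace Groth.Agent.RPSM

open QCoh (rs)

variable {X : Scheme.{u}}

theorem epi_hom {A B : QCohCat.QCoh X} (f : A ⟶ B) [Epi f] : Epi f.hom :=
  inferInstanceAs (Epi ((QCohCat.isQCoh X).ι.map f))

variable [IsNoetherian X]

theorem isCoh_qcoh_of_iso {A B : QCohCat.QCoh X} (e : A ≅ B) (h : Coh.IsCoh A.obj) : Coh.IsCoh B.obj :=
  SheafHomX.isCoh_of_iso ((QCohCat.isQCoh X).ι.mapIso e) h

theorem isCoh_qcoh_biprod {A B : QCohCat.QCoh X} (hA : Coh.IsCoh A.obj) (hB : Coh.IsCoh B.obj) :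
    Coh.IsCoh (A ⊞ B).obj := by
  haveI : PreservesBinaryBiproducts (QCohCat.isQCoh X).ι :=
    preservesBinaryBiproducts_of_preservesBinaryProducts _
  exact SheafHomX.isCoh_of_iso ((QCohCat.isQCoh X).ι.mapBiprod _ _).symm (KZ.isCoh_biprod hA hB)

theorem isCoh_qcoh_of_epi {A B : QCohCat.QCoh X} (f : A ⟶ B) [Epi f] (hA : Coh.IsCoh A.obj) :
    Coh.IsCoh B.obj :=
  haveI := epi_hom f
  QCoh.isCoh_of_epi f.hom hA B.property

theorem isCoh_qcoh_of_mono {A B : QCohCat.QCoh X} (f : A ⟶ B) [Mono f] (hB : Coh.IsCoh B.obj) :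
    Coh.IsCoh A.obj :=
  haveI := mono_hom f
  QCoh.isCoh_of_mono f.hom hB A.property

theorem isCoh_qcoh_zero {A : QCohCat.QCoh X} (hA : IsZero A) : Coh.IsCoh A.obj :=
  SheafHomX.isCoh_of_iso (IsZero.iso (isZero_zero _) ((QCohCat.isQCoh X).ι.map_isZero hA)) KZ.isCoh_zero

variable (X)

/-- Powers of the separator of `QCoh X`. -/
noncomputable def sepPow : ℕ → QCohCat.QCoh X
  | 0 => 0
  | n + 1 => sepPow n ⊞ separator (QCohCat.QCoh X)

/-- Indices of coherent modules. -/
def CohIdx : Type (u + 1) :=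
  Σ n : ULift.{u + 1} ℕ, {P : Subobject (sepPow X n.down) // Coh.IsCoh (cokernel P.arrow).obj}

instance small_cohIdx : Small.{u} (CohIdx X) := by
  unfold CohIdx
  haveI : Small.{u} (ULift.{u + 1} ℕ) := small_ulift _
  infer_instance

/-- The small category of coherent modules. -/
noncomputable abbrev CohJ : Type u :=
  InducedCategory (QCohCat.QCoh X)
    (fun i : Shrink.{u} (CohIdx X) => cokernel ((equivShrink (CohIdx X)).symm i).2.1.arrow)

/-- The inclusion of `CohJ`. -/
noncomputable abbrev cohG : CohJ X ⥤ QCohCat.QCoh X := inducedFunctor _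

theorem isCoh_cohG (j : CohJ X) : Coh.IsCoh ((cohG X).obj j).obj :=
  ((equivShrink (CohIdx X)).symm j).2.2

/-- The category of coherent modules. -/
abbrev CohC : Type (u + 1) := ObjectProperty.FullSubcategory (fun M : X.Modules => Coh.IsCoh M)

/-- `CohJ` inside the coherent modules. -/
noncomputable abbrev cohLift : CohJ X ⥤ CohC X :=
  ObjectProperty.lift _ (cohG X ⋙ (QCohCat.isQCoh X).ι) (fun j => isCoh_cohG X j)

/-- The inclusion of coherent into quasi-coherent modules. -/
noncomputable abbrev cohIncl : CohC X ⥤ QCohCat.QCoh X :=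
  ObjectProperty.ιOfLE (P := (fun M : X.Modules => Coh.IsCoh M)) (P' := QCohCat.isQCoh X)
    (fun _ h => h.1)

variable {X}

theorem exists_epi_sepPow (N : QCohCat.QCoh X) (hN : Coh.IsCoh N.obj) :
    ∃ (n : ℕ) (q : sepPow X n ⟶ N), Epi q := by
  haveI := isNoetherianObject_of_isCoh hN
  let S : Set (Subobject N) := {P | ∃ (n : ℕ) (q : sepPow X n ⟶ N), P = imageSubobject q}
  obtain ⟨P, ⟨n, q, rfl⟩, hmax⟩ := (wellFounded_gt (α := Subobject N)).has_min S ⟨_, 0, 0, rfl⟩
  refine ⟨n, q, Abelian.epi_of_cokernel_π_eq_zero q ?_⟩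
  refine (Preadditive.isSeparator_iff _).1 (isSeparator_separator (QCohCat.QCoh X)) _ fun h => ?_
  let q' : sepPow X (n + 1) ⟶ N := biprod.desc q h
  have hle : imageSubobject q ≤ imageSubobject q' := by
    rw [show q = biprod.inl ≫ q' by simp [q']]
    exact imageSubobject_comp_le _ _
  have heq : imageSubobject q = imageSubobject q' :=
    hle.eq_or_lt.resolve_right fun hlt => hmax _ ⟨n + 1, q', rfl⟩ hlt
  have hh : h = biprod.inr ≫ factorThruImageSubobject q' ≫ (imageSubobject q').arrow := by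
    simp [q']
  have hz : (imageSubobject q).arrow ≫ cokernel.π q = 0 := by
    rw [← cancel_epi (factorThruImageSubobject q), imageSubobject_arrow_comp_assoc, comp_zero]
    exact cokernel.condition q
  rw [hh, Category.assoc, Category.assoc, ← Subobject.ofLE_arrow heq.ge, Category.assoc, hz]
  simp

theorem exists_cohIdx (N : QCohCat.QCoh X) (hN : Coh.IsCoh N.obj) :
    ∃ j : CohJ X, Nonempty ((cohG X).obj j ≅ N) := by
  obtain ⟨n, q, hq⟩ := exists_epi_sepPow N hN
  let P := kernelSubobject q
  have hw : P.arrow ≫ q = 0 := kernelSubobject_arrow_comp q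
  have hc : IsColimit (CokernelCofork.ofπ q hw) :=
    isCokernelEpiComp (Abelian.epiIsCokernelOfKernel _ (kernelIsKernel q))
      (kernelSubobjectIso q).hom (kernelSubobject_arrow q).symm
  let e : cokernel P.arrow ≅ N := (cokernelIsCokernel P.arrow).coconePointUniqueUpToIso hc
  let i : CohIdx X := ⟨⟨n⟩, P, isCoh_qcoh_of_iso e.symm hN⟩
  refine ⟨equivShrink _ i, ⟨eqToIso ?_ ≪≫ e⟩⟩
  change cokernel ((equivShrink (CohIdx X)).symm (equivShrink _ i)).2.1.arrow = _
  rw [Equiv.symm_apply_apply]

instance cohLift_isEquivalence : (cohLift X).IsEquivalence where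
  faithful := inferInstance
  full := inferInstance
  essSurj := ⟨fun M => by
    obtain ⟨j, ⟨e⟩⟩ := exists_cohIdx (⟨M.obj, M.property.1⟩ : QCohCat.QCoh X) M.property
    exact ⟨j, ⟨ObjectProperty.isoMk _ ((QCohCat.isQCoh X).ι.mapIso e)⟩⟩⟩

section Arrows

variable {M : QCohCat.QCoh X}

/-- Above two coherent objects over `M` there is a coherent submodule of `M`. -/
theorem exists_mono_above (g g' : CostructuredArrow (cohG X) M) :
    ∃ (h : CostructuredArrow (cohG X) M) (_ : g ⟶ h) (_ : g' ⟶ h), Mono h.hom := by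
  let d : (cohG X).obj g.left ⊞ (cohG X).obj g'.left ⟶ M := biprod.desc g.hom g'.hom
  obtain ⟨j, ⟨e⟩⟩ := exists_cohIdx (Limits.image d)
    (isCoh_qcoh_of_epi (factorThruImage d) (isCoh_qcoh_biprod (isCoh_cohG X _) (isCoh_cohG X _)))
  refine ⟨CostructuredArrow.mk (Y := j) (e.hom ≫ Limits.image.ι d),
    CostructuredArrow.homMk (InducedCategory.homMk (biprod.inl ≫ factorThruImage d ≫ e.inv)) ?_,
    CostructuredArrow.homMk (InducedCategory.homMk (biprod.inr ≫ factorThruImage d ≫ e.inv)) ?_,
    mono_comp _ _⟩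
  · change (biprod.inl ≫ factorThruImage d ≫ e.inv) ≫ e.hom ≫ Limits.image.ι d = g.hom
    simp [d]
  · change (biprod.inr ≫ factorThruImage d ≫ e.inv) ≫ e.hom ≫ Limits.image.ι d = g'.hom
    simp [d]

theorem exists_arrow_app (V : X.affineOpens) (t : Γ(M.obj, V.1)) :
    ∃ (g : CostructuredArrow (cohG X) M) (v : Γ(((cohG X).obj g.left).obj, V.1)),
      g.hom.hom.app V.1 v = t := by
  obtain ⟨N, hN, htN⟩ := QCoh.exists_ftOn_contains M.property V.2
    (QCoh.extStep_noetherian (fun _ => ⟨⊤, trivial, inferInstance⟩) V.1) {t} (Set.finite_singleton t)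
  obtain ⟨t', ht'⟩ := N.exists_app_eq (htN rfl)
  obtain ⟨j, ⟨e⟩⟩ := exists_cohIdx (⟨N.toModules, QCoh.isQCoh_of_ftOn M.property hN⟩ : QCohCat.QCoh X)
    ⟨QCoh.isQCoh_of_ftOn M.property hN, QCoh.isFT_of_ftOn M.property hN⟩
  refine ⟨CostructuredArrow.mk (Y := j) (e.hom ≫ ObjectProperty.homMk N.ι), e.inv.hom.app V.1 t', ?_⟩
  have h := congrArg (fun q => q.hom.app V.1 t') e.inv_hom_id
  change N.ι.app V.1 (e.hom.hom.app V.1 (e.inv.hom.app V.1 t')) = t
  rw [show e.hom.hom.app V.1 (e.inv.hom.app V.1 t') = t' from h]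
  exact ht'

theorem eval_coh_eq (s : Cocone (CostructuredArrow.proj (cohG X) M ⋙ cohG X)) {U : X.Opens}
    (g g' : CostructuredArrow (cohG X) M) (v : Γ(((cohG X).obj g.left).obj, U))
    (v' : Γ(((cohG X).obj g'.left).obj, U)) (h : g.hom.hom.app U v = g'.hom.hom.app U v') :
    (s.ι.app g).hom.app U v = (s.ι.app g').hom.app U v' := by
  obtain ⟨k, φ, ψ, hk⟩ := exists_mono_above g g'
  haveI := mono_hom k.hom
  have e1 := congrArg (fun q => q.hom.app U v) (CostructuredArrow.w φ)
  have e2 := congrArg (fun q => q.hom.app U v') (CostructuredArrow.w ψ)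
  have he : φ.left.hom.hom.app U v = ψ.left.hom.hom.app U v' :=
    QCoh.app_injective k.hom.hom U ((e1.trans h).trans e2.symm)
  have s1 := congrArg (fun q => q.hom.app U v) (s.w φ)
  have s2 := congrArg (fun q => q.hom.app U v') (s.w ψ)
  exact (s1.symm.trans (congrArg ((s.ι.app k).hom.app U) he)).trans s2

instance isFiltered_cohArrow : IsFiltered (CostructuredArrow (cohG X) M) where
  nonempty := by
    obtain ⟨j, -⟩ := exists_cohIdx (0 : QCohCat.QCoh X) (isCoh_qcoh_zero (isZero_zero _))
    exact ⟨CostructuredArrow.mk (Y := j) 0⟩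
  cocone_objs g g' := let ⟨h, φ, ψ, _⟩ := exists_mono_above g g'; ⟨h, φ, ψ, trivial⟩
  cocone_maps g h φ ψ := by
    obtain ⟨k, χ, -, hk⟩ := exists_mono_above h h
    refine ⟨k, χ, CostructuredArrow.hom_ext _ _ (InducedCategory.hom_ext ?_)⟩
    refine (cancel_mono k.hom).1 ?_
    exact (CostructuredArrow.w (φ ≫ χ)).trans (CostructuredArrow.w (ψ ≫ χ)).symm

end Arrows

instance isDense_cohG : (cohG X).IsDense where
  isDenseAt M := ⟨by
    refine IsColimit.ofExistsUnique fun s => ?_
    choose g v hv using fun (V : X.affineOpens) (t : Γ(M.obj, V.1)) => exists_arrow_app (M := M) V t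
    have key : ∀ (V : X.affineOpens) (f : CostructuredArrow (cohG X) M)
        (w : Γ(((cohG X).obj f.left).obj, V.1)) (t : Γ(M.obj, V.1)), f.hom.hom.app V.1 w = t →
        (s.ι.app (g V t)).hom.app V.1 (v V t) = (s.ι.app f).hom.app V.1 w := fun V f w t h =>
      eval_coh_eq s _ _ _ _ ((hv V t).trans h.symm)
    let α : ∀ V : X.affineOpens, Γ(M.obj, V.1) →ₗ[Γ(X, V.1)] Γ(s.pt.obj, V.1) := fun V =>
      { toFun := fun t => (s.ι.app (g V t)).hom.app V.1 (v V t)
        map_add' := fun t t' => by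
          obtain ⟨k, φ, ψ, -⟩ := exists_mono_above (g V t) (g V t')
          have e1 : k.hom.hom.app V.1 (φ.left.hom.hom.app V.1 (v V t)) = t :=
            (congrArg (fun q => q.hom.app V.1 (v V t)) (CostructuredArrow.w φ)).trans (hv V t)
          have e2 : k.hom.hom.app V.1 (ψ.left.hom.hom.app V.1 (v V t')) = t' :=
            (congrArg (fun q => q.hom.app V.1 (v V t')) (CostructuredArrow.w ψ)).trans (hv V t')
          rw [key V k (φ.left.hom.hom.app V.1 (v V t) + ψ.left.hom.hom.app V.1 (v V t')) (t + t')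
            (by rw [map_add, e1, e2]), key V k _ t e1, key V k _ t' e2, map_add]
        map_smul' := fun r t => by
          rw [key V (g V t) (r • v V t) (r • t)
            (by rw [Scheme.Modules.Hom.app_smul, hv])]
          exact Scheme.Modules.Hom.app_smul _ _ _ }
    obtain ⟨d, hd⟩ := exists_hom_of_affines α fun V W i t => by
      refine (key W (g V t) (rs _ i (v V t)) _ ?_).trans (QCoh.map_app_comm _ _ _)
      exact (QCoh.map_app_comm _ _ _).trans (congrArg (rs M.obj i) (hv V t))
    refine ⟨ObjectProperty.homMk d, fun f => ?_, fun d' hd' => ?_⟩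
    · dsimp [Functor.LeftExtension.coconeAt]
      refine (congrArg (· ≫ ObjectProperty.homMk d) (Category.id_comp f.hom)).trans ?_
      refine ObjectProperty.hom_ext _ (hom_ext_affines fun V w => ?_)
      exact (hd V _).trans (key V f w _ rfl)
    · refine ObjectProperty.hom_ext _ (hom_ext_affines fun V t => ?_)
      refine Eq.trans ?_ (hd V t).symm
      have h := hd' (g V t)
      dsimp [Functor.LeftExtension.coconeAt] at h
      have h' := congrArg (fun q => q.hom.app V.1 (v V t))
        ((congrArg (· ≫ d') (Category.id_comp (g V t).hom)).symm.trans h)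
      exact (congrArg (d'.hom.app V.1) (hv V t).symm).trans h'⟩

instance isFPGen_cohG : IsFPGen (cohG X) where
  isFull := inferInstance
  isFaithful := inferInstance
  isDense := inferInstance
  isFiltered _ := inferInstance
  fp j := isFinitelyPresentable_qcoh _ (QCoh.isCoh_iff_isFP.1 (isCoh_cohG X j))

end Groth.Agent.RPSM
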