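import Groth.Agent.RPSM.FPMod
import Mathlib.CategoryTheory.Preadditive.LeftExact

/-!
# Structure of the category of finitely presented modules

Biproducts, cokernels and, over a coherent ring, kernels; what a restriction hypothesis gives
on `FPJ A`.
-/

universe u v' u'

open CategoryTheory CategoryTheory.Limits

namespace Groth.Agent.RPSM

section Gen

variable {J : Type u} [SmallCategory J] [HasZeroMorphisms J] {C : Type*} [Category* C]
  [HasZeroMorphisms C] (G : J ⥤ C) [G.Full] [G.Faithful] [G.PreservesZeroMorphisms]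

/-- A cokernel of `G.map g` in the image of `G` gives a cokernel in the source. -/
theorem cokernel_of_image {a b c : J} (g : a ⟶ b) (p : b ⟶ c) (w : g ≫ p = 0)
    (h : IsColimit ((CokernelCofork.ofπ p w).map G)) :
    HasCokernel g ∧ PreservesColimit (parallelPair g 0) G := by
  have h' := (CokernelCofork.isColimitMapCoconeEquiv (CokernelCofork.ofπ p w) G).symm h
  have hJ : IsColimit (CokernelCofork.ofπ p w) := isColimitOfReflects G h'
  exact ⟨⟨⟨⟨_, hJ⟩⟩⟩, preservesColimit_of_preserves_colimit_cocone hJ h'⟩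

/-- A kernel of `G.map g` in the image of `G` gives a kernel in the source. -/
theorem kernel_of_image {a b c : J} (g : a ⟶ b) (p : c ⟶ a) (w : p ≫ g = 0)
    (h : IsLimit ((KernelFork.ofι p w).map G)) :
    HasKernel g ∧ PreservesLimit (parallelPair g 0) G := by
  have h' := (KernelFork.isLimitMapConeEquiv (KernelFork.ofι p w) G).symm h
  have hJ : IsLimit (KernelFork.ofι p w) := isLimitOfReflects G h'
  exact ⟨⟨⟨⟨_, hJ⟩⟩⟩, preservesLimit_of_preserves_limit_cone hJ h'⟩

end Gen

variable (A : Type u) [CommRing A]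

instance hasBinaryBiproducts_FPJ : HasBinaryBiproducts (FPJ A) where
  has_binary_biproduct a b := by
    haveI : Module.FinitePresentation A (ModuleCat.of A ((fpG A).obj a × (fpG A).obj b)) :=
      inferInstanceAs (Module.FinitePresentation A ((fpG A).obj a × (fpG A).obj b))
    obtain ⟨i, ⟨e⟩⟩ := exists_idx A (ModuleCat.of A ((fpG A).obj a × (fpG A).obj b))
    let P := ModuleCat.of A ((fpG A).obj a × (fpG A).obj b)
    let pf : P ⟶ (fpG A).obj a := ModuleCat.ofHom (LinearMap.fst A ((fpG A).obj a) ((fpG A).obj b))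
    let ps : P ⟶ (fpG A).obj b := ModuleCat.ofHom (LinearMap.snd A ((fpG A).obj a) ((fpG A).obj b))
    let jl : (fpG A).obj a ⟶ P := ModuleCat.ofHom (LinearMap.inl A ((fpG A).obj a) ((fpG A).obj b))
    let jr : (fpG A).obj b ⟶ P := ModuleCat.ofHom (LinearMap.inr A ((fpG A).obj a) ((fpG A).obj b))
    have key : ∀ {S T : ModuleCat.{u} A} (x : S ⟶ P) (y : P ⟶ T), (x ≫ e.inv) ≫ e.hom ≫ y = x ≫ y :=
      fun x y => by rw [Category.assoc, e.inv_hom_id_assoc]
    let bc : BinaryBicone a b :=
      { pt := i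
        fst := InducedCategory.homMk (e.hom ≫ pf)
        snd := InducedCategory.homMk (e.hom ≫ ps)
        inl := InducedCategory.homMk (jl ≫ e.inv)
        inr := InducedCategory.homMk (jr ≫ e.inv)
        inl_fst := InducedCategory.hom_ext ((key jl pf).trans rfl)
        inl_snd := InducedCategory.hom_ext ((key jl ps).trans rfl)
        inr_fst := InducedCategory.hom_ext ((key jr pf).trans rfl)
        inr_snd := InducedCategory.hom_ext ((key jr ps).trans rfl) }
    refine HasBinaryBiproduct.mk ⟨bc, isBinaryBilimitOfTotal bc (InducedCategory.hom_ext ?_)⟩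
    have hid : pf ≫ jl + ps ≫ jr = 𝟙 P :=
      ModuleCat.hom_ext (LinearMap.ext fun x => Prod.ext (add_zero _) (zero_add _))
    calc (e.hom ≫ pf) ≫ jl ≫ e.inv + (e.hom ≫ ps) ≫ jr ≫ e.inv
        = e.hom ≫ (pf ≫ jl + ps ≫ jr) ≫ e.inv := by
          simp only [Category.assoc, Preadditive.comp_add, Preadditive.add_comp]
      _ = 𝟙 _ := by rw [hid, Category.id_comp, e.hom_inv_id]

theorem cokernel_data {a b : FPJ A} (g : a ⟶ b) :
    HasCokernel g ∧ PreservesColimit (parallelPair g 0) (fpG A) := by
  haveI : Module.FinitePresentation A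
      (ModuleCat.of A ((fpG A).obj b ⧸ LinearMap.range g.hom.hom)) :=
    fp_quot A _ (Module.Finite.iff_fg.1 (Module.Finite.range g.hom.hom))
  obtain ⟨i, ⟨e⟩⟩ := exists_idx A (ModuleCat.of A ((fpG A).obj b ⧸ LinearMap.range g.hom.hom))
  let q : b ⟶ i := InducedCategory.homMk (ModuleCat.ofHom (LinearMap.range g.hom.hom).mkQ ≫ e.inv)
  have w : g ≫ q = 0 := by
    ext1
    change g.hom ≫ (_ ≫ e.inv) = 0
    exact (Category.assoc _ _ _).symm.trans
      ((congrArg (· ≫ e.inv) (ModuleCat.cokernelCocone g.hom).condition).trans zero_comp)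
  refine cokernel_of_image (fpG A) g q w ?_
  exact IsColimit.ofIsoColimit (ModuleCat.cokernelIsColimit g.hom) (Cofork.ext e.symm rfl)

instance hasCokernels_FPJ : HasCokernels (FPJ A) where
  has_colimit g := (cokernel_data A g).1

instance preservesCokernels_fpG {a b : FPJ A} (g : a ⟶ b) :
    PreservesColimit (parallelPair g 0) (fpG A) :=
  (cokernel_data A g).2

theorem kernel_data (hcoh : ∀ I : Ideal A, I.FG → Module.FinitePresentation A I) {a b : FPJ A}
    (g : a ⟶ b) : HasKernel g ∧ PreservesLimit (parallelPair g 0) (fpG A) := by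
  haveI : Module.FinitePresentation A (ModuleCat.of A (LinearMap.ker g.hom.hom)) := by
    haveI : Module.FinitePresentation A (LinearMap.range g.hom.hom) :=
      CAlgUI.subFP_of_finitePresentation hcoh _ _ (Module.Finite.iff_fg.1 (Module.Finite.range _))
    refine CAlgUI.subFP_of_finitePresentation hcoh _ (LinearMap.ker g.hom.hom) ?_
    have h := Module.FinitePresentation.fg_ker g.hom.hom.rangeRestrict
      g.hom.hom.surjective_rangeRestrict
    rwa [LinearMap.ker_rangeRestrict] at h
  obtain ⟨i, ⟨e⟩⟩ := exists_idx A (ModuleCat.of A (LinearMap.ker g.hom.hom))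
  let q : i ⟶ a := InducedCategory.homMk (e.hom ≫ ModuleCat.ofHom (LinearMap.ker g.hom.hom).subtype)
  have w : q ≫ g = 0 := by
    ext1
    change (e.hom ≫ _) ≫ g.hom = 0
    exact (Category.assoc _ _ _).trans
      ((congrArg (e.hom ≫ ·) (ModuleCat.kernelCone g.hom).condition).trans comp_zero)
  refine kernel_of_image (fpG A) g q w ?_
  exact IsLimit.ofIsoLimit (ModuleCat.kernelIsLimit g.hom) (Fork.ext e.symm (e.inv_hom_id_assoc _))

section Restrict

variable {A} {B : Type u'} [Category.{v'} B] (F' : ModuleCat.{u} A ⥤ B)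

theorem preservesFiniteColimits_fpJ [h : PreservesFiniteColimits ((fpProp A).ι ⋙ F')] :
    PreservesFiniteColimits (fpG A ⋙ F') := by
  haveI : PreservesFiniteColimits (fpLift A) := inferInstance
  exact comp_preservesFiniteColimits (fpLift A) ((fpProp A).ι ⋙ F')

theorem preservesFiniteLimits_fpJ [h : PreservesFiniteLimits ((fpProp A).ι ⋙ F')] :
    PreservesFiniteLimits (fpG A ⋙ F') := by
  haveI : PreservesFiniteLimits (fpLift A) := inferInstance
  exact comp_preservesFiniteLimits (fpLift A) ((fpProp A).ι ⋙ F')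

theorem additive_fpJ [Preadditive B] [HasZeroObject B] [PreservesFiniteColimits (fpG A ⋙ F')] :
    (fpG A ⋙ F').Additive := by
  haveI : HasZeroObject (FPJ A) := by
    obtain ⟨i, ⟨e⟩⟩ := exists_idx A (ModuleCat.of A PUnit.{u + 1})
    have hz : IsZero ((fpG A).obj i) := (ModuleCat.isZero_of_subsingleton _).of_iso e
    exact ⟨i, ⟨fun Y => ⟨⟨⟨InducedCategory.homMk 0⟩,
        fun f => InducedCategory.hom_ext (hz.eq_of_src _ _)⟩⟩,
      fun Y => ⟨⟨⟨InducedCategory.homMk 0⟩, fun f => InducedCategory.hom_ext (hz.eq_of_tgt _ _)⟩⟩⟩⟩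
  haveI : HasInitial (FPJ A) := inferInstance
  haveI : (fpG A ⋙ F').PreservesZeroMorphisms :=
    Functor.preservesZeroMorphisms_of_preserves_initial_object
  haveI := preservesBinaryBiproducts_of_preservesBinaryCoproducts (fpG A ⋙ F')
  exact Functor.additive_of_preservesBinaryBiproducts _

theorem additive_fpJ_of_left [Preadditive B] [HasZeroObject B]
    [PreservesFiniteLimits (fpG A ⋙ F')] : (fpG A ⋙ F').Additive := by
  haveI : HasZeroObject (FPJ A) := by
    obtain ⟨i, ⟨e⟩⟩ := exists_idx A (ModuleCat.of A PUnit.{u + 1})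
    have hz : IsZero ((fpG A).obj i) := (ModuleCat.isZero_of_subsingleton _).of_iso e
    exact ⟨i, ⟨fun Y => ⟨⟨⟨InducedCategory.homMk 0⟩,
        fun f => InducedCategory.hom_ext (hz.eq_of_src _ _)⟩⟩,
      fun Y => ⟨⟨⟨InducedCategory.homMk 0⟩, fun f => InducedCategory.hom_ext (hz.eq_of_tgt _ _)⟩⟩⟩⟩
  haveI : HasTerminal (FPJ A) := inferInstance
  haveI : (fpG A ⋙ F').PreservesZeroMorphisms :=
    Functor.preservesZeroMorphisms_of_preserves_terminal_object
  haveI := preservesBinaryBiproducts_of_preservesBinaryProducts (fpG A ⋙ F')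
  exact Functor.additive_of_preservesBinaryBiproducts _

end Restrict

end Groth.Agent.RPSM
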