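import Groth.Agent.RPSM.CohGen
import Groth.Agent.RPSM.FPModStruct

/-!
# Structure of the category of coherent modules

Biproducts, kernels and cokernels of `CohJ X`; exactness of its inclusions.
-/

universe u

set_option backward.isDefEq.respectTransparency false
set_option backward.isDefEq.respectTransparency.types false

open CategoryTheory CategoryTheory.Limits AlgebraicGeometry
open scoped ZeroObject

namespace Groth.Agent.RPSM

variable (X : Scheme.{u}) [IsNoetherian X]

instance hasBinaryBiproducts_cohJ : HasBinaryBiproducts (CohJ X) where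
  has_binary_biproduct a b := by
    obtain ⟨i, ⟨e⟩⟩ := exists_cohIdx ((cohG X).obj a ⊞ (cohG X).obj b)
      (isCoh_qcoh_biprod (isCoh_cohG X a) (isCoh_cohG X b))
    let bc : BinaryBicone a b :=
      { pt := i
        fst := InducedCategory.homMk (e.hom ≫ biprod.fst)
        snd := InducedCategory.homMk (e.hom ≫ biprod.snd)
        inl := InducedCategory.homMk (biprod.inl ≫ e.inv)
        inr := InducedCategory.homMk (biprod.inr ≫ e.inv)
        inl_fst := InducedCategory.hom_ext (by simp)
        inl_snd := InducedCategory.hom_ext (by simp; rfl)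
        inr_fst := InducedCategory.hom_ext (by simp; rfl)
        inr_snd := InducedCategory.hom_ext (by simp) }
    refine HasBinaryBiproduct.mk ⟨bc, isBinaryBilimitOfTotal bc (InducedCategory.hom_ext ?_)⟩
    calc (e.hom ≫ biprod.fst) ≫ biprod.inl ≫ e.inv + (e.hom ≫ biprod.snd) ≫ biprod.inr ≫ e.inv
        = e.hom ≫ (biprod.fst ≫ biprod.inl + biprod.snd ≫ biprod.inr) ≫ e.inv := by
          simp only [Category.assoc, Preadditive.comp_add, Preadditive.add_comp]
      _ = 𝟙 _ := by rw [biprod.total, Category.id_comp, e.hom_inv_id]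

instance hasZeroObject_cohJ : HasZeroObject (CohJ X) := by
  obtain ⟨i, ⟨e⟩⟩ := exists_cohIdx (0 : QCohCat.QCoh X) (isCoh_qcoh_zero (isZero_zero _))
  have hz : IsZero ((cohG X).obj i) := (isZero_zero _).of_iso e
  exact ⟨i, ⟨fun Y => ⟨⟨⟨InducedCategory.homMk 0⟩,
      fun f => InducedCategory.hom_ext (hz.eq_of_src _ _)⟩⟩,
    fun Y => ⟨⟨⟨InducedCategory.homMk 0⟩, fun f => InducedCategory.hom_ext (hz.eq_of_tgt _ _)⟩⟩⟩⟩

theorem coh_cokernel_data {a b : CohJ X} (g : a ⟶ b) :
    HasCokernel g ∧ PreservesColimit (parallelPair g 0) (cohG X) := by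
  obtain ⟨i, ⟨e⟩⟩ := exists_cohIdx (cokernel g.hom)
    (isCoh_qcoh_of_epi (cokernel.π g.hom) (isCoh_cohG X b))
  let q : b ⟶ i := InducedCategory.homMk (cokernel.π g.hom ≫ e.inv)
  have w : g ≫ q = 0 := by
    ext1
    exact (cokernel.condition_assoc g.hom e.inv).trans zero_comp
  refine cokernel_of_image (cohG X) g q w ?_
  exact IsColimit.ofIsoColimit (cokernelIsCokernel g.hom) (Cofork.ext e.symm rfl)

theorem coh_kernel_data {a b : CohJ X} (g : a ⟶ b) :
    HasKernel g ∧ PreservesLimit (parallelPair g 0) (cohG X) := by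
  obtain ⟨i, ⟨e⟩⟩ := exists_cohIdx (kernel g.hom)
    (isCoh_qcoh_of_mono (kernel.ι g.hom) (isCoh_cohG X a))
  let q : i ⟶ a := InducedCategory.homMk (e.hom ≫ kernel.ι g.hom)
  have w : q ≫ g = 0 := by
    ext1
    exact (Category.assoc _ _ _).trans ((congrArg (e.hom ≫ ·) (kernel.condition g.hom)).trans comp_zero)
  refine kernel_of_image (cohG X) g q w ?_
  exact IsLimit.ofIsoLimit (kernelIsKernel g.hom) (Fork.ext e.symm (e.inv_hom_id_assoc _))

instance hasCokernels_cohJ : HasCokernels (CohJ X) where
  has_colimit g := (coh_cokernel_data X g).1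

instance hasKernels_cohJ : HasKernels (CohJ X) where
  has_limit g := (coh_kernel_data X g).1

instance preservesCokernels_cohG {a b : CohJ X} (g : a ⟶ b) :
    PreservesColimit (parallelPair g 0) (cohG X) :=
  (coh_cokernel_data X g).2

instance preservesKernels_cohG {a b : CohJ X} (g : a ⟶ b) :
    PreservesLimit (parallelPair g 0) (cohG X) :=
  (coh_kernel_data X g).2

instance hasFiniteBiproducts_cohJ : HasFiniteBiproducts (CohJ X) :=
  haveI : HasFiniteProducts (CohJ X) := hasFiniteProducts_of_has_binary_and_terminal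
  HasFiniteBiproducts.of_hasFiniteProducts

instance hasEqualizers_cohJ : HasEqualizers (CohJ X) :=
  Preadditive.hasEqualizers_of_hasKernels

instance hasCoequalizers_cohJ : HasCoequalizers (CohJ X) :=
  Preadditive.hasCoequalizers_of_hasCokernels

instance preservesFiniteLimits_cohG : PreservesFiniteLimits (cohG X) :=
  Functor.preservesFiniteLimits_of_preservesKernels _

instance preservesFiniteColimits_cohG : PreservesFiniteColimits (cohG X) :=
  Functor.preservesFiniteColimits_of_preservesCokernels _

/-- `cohLift` followed by the inclusion is `cohG`. -/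
noncomputable def cohLiftIncl : cohLift X ⋙ cohIncl X ≅ cohG X :=
  NatIso.ofComponents (fun _ => Iso.refl _)

/-- The inclusion of coherent modules in terms of `cohG`. -/
noncomputable def cohInclIso : (cohLift X).inv ⋙ cohG X ≅ cohIncl X :=
  Functor.isoWhiskerLeft _ (cohLiftIncl X).symm ≪≫ (Functor.associator _ _ _).symm ≪≫
    Functor.isoWhiskerRight (cohLift X).asEquivalence.counitIso (cohIncl X) ≪≫
    Functor.leftUnitor _

instance preservesFiniteLimits_cohIncl : PreservesFiniteLimits (cohIncl X) :=
  haveI := comp_preservesFiniteLimits (cohLift X).inv (cohG X)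
  preservesFiniteLimits_of_natIso (cohInclIso X)

instance preservesFiniteColimits_cohIncl : PreservesFiniteColimits (cohIncl X) :=
  haveI := comp_preservesFiniteColimits (cohLift X).inv (cohG X)
  preservesFiniteColimits_of_natIso (cohInclIso X)

end Groth.Agent.RPSM
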