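import Groth.Agent.RPSM.AffineCrit
import Groth.Agent.RPSM.CompactQCoh
import Groth.Agent.RPSM.FPMod
import Groth.Agent.AlgSpDec.OnePoint
import Groth.Agent.KZ.ClosedDev
import Groth.Agent.InvX.Tensor
import Groth.Agent.AVSupp.Twist
import Groth.Agent.QCoh.ClosedPush

/-!
# A scheme whose quasi-coherent modules form a module category is affine
-/

universe u

set_option backward.isDefEq.respectTransparency false
set_option backward.isDefEq.respectTransparency.types false

open CategoryTheory CategoryTheory.Limits AlgebraicGeometry TopologicalSpace Opposite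

attribute [local instance] Cardinal.fact_isRegular_aleph0

namespace Groth.Agent.RPSM

open QCoh (rs rf)

/-- A vector space with commutative endomorphism ring is cyclic. -/
theorem cyclic_of_commute {k V : Type*} [Field k] [AddCommGroup V] [Module k V]
    (h : ∀ a b : V →ₗ[k] V, a.comp b = b.comp a) : ∃ v : V, ∀ w : V, ∃ c : k, w = c • v := by
  by_cases hz : ∀ w : V, w = 0
  · exact ⟨0, fun w => ⟨0, by rw [smul_zero]; exact hz w⟩⟩
  push Not at hz
  obtain ⟨v, hv⟩ := hz
  refine ⟨v, fun w => ?_⟩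
  by_contra hw
  push Not at hw
  obtain ⟨l, hl, hlv⟩ := Submodule.exists_dual_map_eq_bot_of_notMem (p := Submodule.span k {v}) (x := w)
    (fun hm => by obtain ⟨c, hc⟩ := Submodule.mem_span_singleton.1 hm; exact hw c hc.symm) inferInstance
  obtain ⟨m, hm, -⟩ := Submodule.exists_dual_map_eq_bot_of_notMem (p := (⊥ : Submodule k V)) (x := v)
    (fun h0 => hv ((Submodule.mem_bot k).1 h0)) inferInstance
  have hlv0 : l v = 0 :=
    (Submodule.mem_bot k).1 (hlv ▸ Submodule.mem_map_of_mem (Submodule.mem_span_singleton_self v))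
  have e := LinearMap.congr_fun (h (l.smulRight v) (m.smulRight w)) v
  simp [hlv0, hm, hl, hv] at e

variable {X : Scheme.{u}} {P : QCohCat.QCoh X}

theorem cyclic_of_commute_cat (k : Type u) [Field k] (M : ModuleCat.{u} k)
    (h : ∀ a b : M ⟶ M, a ≫ b = b ≫ a) : ∃ v : M, ∀ w : M, ∃ c : k, w = c • v :=
  cyclic_of_commute fun a b => congrArg ModuleCat.Hom.hom (h (ModuleCat.ofHom b) (ModuleCat.ofHom a))

/-- On the spectrum of a field, a quasi-coherent module with commuting endomorphisms is cyclic. -/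
theorem cyclic_spec (k : Type u) [Field k] (T : (Spec (CommRingCat.of k)).Modules)
    (hT : Coh.IsQCoh T) (comm : ∀ φ ψ : T ⟶ T, φ ≫ ψ = ψ ≫ φ) :
    ∃ v : Γ(T, ⊤), ∀ w : Γ(T, ⊤), ∃ c : Γ(Spec (CommRingCat.of k), ⊤), w = c • v := by
  haveI : T.IsQuasicoherent := hT
  haveI : IsIso (Scheme.Modules.fromTildeΓ (R := CommRingCat.of k) T) :=
    (isQuasicoherent_iff_isIso_fromTildeΓ (R := CommRingCat.of k) T).1 hT
  obtain ⟨v, hv⟩ := cyclic_of_commute_cat k
    ((moduleSpecΓFunctor (R := CommRingCat.of k)).obj T) fun a b => by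
    let e := asIso (Scheme.Modules.fromTildeΓ (R := CommRingCat.of k) T)
    have h := comm (e.inv ≫ (tilde.functor (CommRingCat.of k)).map a ≫ e.hom)
      (e.inv ≫ (tilde.functor (CommRingCat.of k)).map b ≫ e.hom)
    rw [Category.assoc, Category.assoc, e.hom_inv_id_assoc, Category.assoc, Category.assoc,
      e.hom_inv_id_assoc, cancel_epi, ← Category.assoc, ← Category.assoc, cancel_mono] at h
    refine (tilde.fullyFaithfulFunctor (R := CommRingCat.of k)).map_injective ?_
    rw [Functor.map_comp, Functor.map_comp]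
    exact h
  refine ⟨v, fun w => ?_⟩
  obtain ⟨c, hc⟩ := hv w
  exact ⟨(Scheme.ΓSpecIso (CommRingCat.of k)).inv c, hc⟩

theorem cyclic_top (Z : Scheme.{u}) (T : Z.Modules) {W : Z.Opens} (hW : W = ⊤)
    (h : ∃ v : Γ(T, ⊤), ∀ w : Γ(T, ⊤), ∃ c : Γ(Z, ⊤), w = c • v) :
    ∃ v : Γ(T, W), ∀ w : Γ(T, W), ∃ c : Γ(Z, W), w = c • v := by
  subst hW
  exact h

/-- The fibre at a closed point of a projective module with commutative endomorphisms is cyclic. -/
theorem exists_cyclic_mod_ker [Projective P] (hc : ∀ f g : P ⟶ P, f ≫ g = g ≫ f)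
    [QuasiSeparatedSpace X] {x : X} (hx : IsClosed ({x} : Set X)) {U : X.Opens} (hU : IsAffineOpen U)
    (hxU : x ∈ U) :
    ∃ g : Γ(P.obj, U), ∀ s : Γ(P.obj, U), ∃ b : Γ(X, U), s - b • g ∈
      (X.fromSpecResidueField x).ker.ideal ⟨U, hU⟩ • (⊤ : Submodule Γ(X, U) Γ(P.obj, U)) := by
  let i := X.fromSpecResidueField x
  haveI : IsClosedImmersion i := AlgSpDec.isClosedImmersion_fromSpecResidueField hx
  let k := X.residueField x
  let adj := Scheme.Modules.pullbackPushforwardAdjunction i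
  let T : (Spec k).Modules := (Scheme.Modules.pullback i).obj P.obj
  have hT : Coh.IsQCoh T := QCoh.isQCoh_pullback i P.property
  let M : QCohCat.QCoh X := ⟨(Scheme.Modules.pushforward i).obj T, QCoh.isQCoh_pushforward i hT⟩
  let q : P ⟶ M := ObjectProperty.homMk (adj.unit.app P.obj)
  have hsurj : ∀ (V : X.affineOpens), Function.Surjective (q.hom.app V.1) := fun V =>
    (QCoh.unit_app_closed i P.property V.2).1
  haveI : Epi q := ⟨fun a b h => ObjectProperty.hom_ext _ (hom_ext_affines fun V w => by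
    obtain ⟨p, rfl⟩ := hsurj V w
    exact congrArg (fun t => t.hom.app V.1 p) h)⟩
  have comm : ∀ φ ψ : T ⟶ T, φ ≫ ψ = ψ ≫ φ := fun φ ψ => by
    let φ' : M ⟶ M := ObjectProperty.homMk ((Scheme.Modules.pushforward i).map φ)
    let ψ' : M ⟶ M := ObjectProperty.homMk ((Scheme.Modules.pushforward i).map ψ)
    obtain ⟨f, hf⟩ := Projective.factors (q ≫ φ') q
    obtain ⟨g, hg⟩ := Projective.factors (q ≫ ψ') q
    have h : φ' ≫ ψ' = ψ' ≫ φ' := (cancel_epi q).1 <| by
      rw [← reassoc_of% hf, ← hg, ← Category.assoc, hc, Category.assoc, hf, reassoc_of% hg]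
    refine KZ.ClosedDev.push_map_injective i _ _ ?_
    rw [Functor.map_comp, Functor.map_comp]
    have h' : (φ' ≫ ψ').hom = (ψ' ≫ φ').hom := by rw [h]
    rw [ObjectProperty.FullSubcategory.comp_hom, ObjectProperty.FullSubcategory.comp_hom] at h'
    exact h'
  have htop : i ⁻¹ᵁ U = ⊤ := top_unique fun z _ => by
    have hz : i z ∈ Set.range i := ⟨z, rfl⟩
    rw [Scheme.range_fromSpecResidueField] at hz
    show i z ∈ U
    rw [show i z = x from hz]
    exact hxU
  obtain ⟨w, hw⟩ := cyclic_top (Spec k) T htop (cyclic_spec k T hT comm)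
  obtain ⟨g, hg⟩ := hsurj ⟨U, hU⟩ w
  refine ⟨g, fun s => ?_⟩
  obtain ⟨c, hc'⟩ := hw (q.hom.app U s)
  obtain ⟨b, hb⟩ := i.app_surjective U hU c
  refine ⟨b, ((QCoh.unit_app_closed i P.property hU).2 _).1 ?_⟩
  change q.hom.app U (s - b • g) = 0
  rw [map_sub, Scheme.Modules.Hom.app_smul, hg, sub_eq_zero]
  rw [hc', ← hb]
  rfl

theorem notMem_basicOpen_of_mem_ker {x : X} {U : X.Opens} (hU : IsAffineOpen U)
    {e : Γ(X, U)} (he : e ∈ (X.fromSpecResidueField x).ker.ideal ⟨U, hU⟩) : x ∉ X.basicOpen e := by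
  intro hxe
  let i := X.fromSpecResidueField x
  have h0 : i.app U e = 0 := by
    rw [Scheme.Hom.ker_apply] at he
    exact he
  obtain ⟨z, hz⟩ : x ∈ Set.range i := by rw [Scheme.range_fromSpecResidueField]; rfl
  have h1 : z ∈ i ⁻¹ᵁ X.basicOpen e := show i z ∈ X.basicOpen e by rw [show i z = x from hz]; exact hxe
  rw [Scheme.preimage_basicOpen, h0, Scheme.basicOpen_zero] at h1
  exact h1

/-- `g` generates the sections over `U`. -/
def GenBy (M : X.Modules) {U : X.Opens} (g : Γ(M, U)) : Prop :=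
  ∀ t : Γ(M, U), ∃ c : Γ(X, U), t = c • g

theorem genBy_basicOpen {M : X.Modules} (hM : Coh.IsQCoh M) {U : X.Opens} (hU : IsAffineOpen U)
    (r : Γ(X, U)) (g : Γ(M, U)) (h : ∀ t : Γ(M, U), ∃ (k : ℕ) (c : Γ(X, U)), r ^ k • t = c • g) :
    GenBy M (rs M (X.basicOpen_le r) g) := by
  intro s
  obtain ⟨n, t, ht⟩ := QCoh.exists_pow_smul_eq_map hM hU r s
  obtain ⟨k, c, hk⟩ := h t
  obtain ⟨u, hu⟩ := (QCoh.isUnit_rf_basicOpen r).pow (k + n)
  refine ⟨((u⁻¹ : Γ(X, X.basicOpen r)ˣ) : Γ(X, X.basicOpen r)) * rf X (X.basicOpen_le r) c, ?_⟩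
  rw [mul_smul, ← QCoh.rs_smul, ← hk, QCoh.rs_smul, show rs M (X.basicOpen_le r) t = _ from ht,
    ← mul_smul, show rf X (X.basicOpen_le r) (r ^ k) = rf X (X.basicOpen_le r) r ^ k from
      map_pow (X.presheaf.map _).hom r k]
  show s = _ • rf X (X.basicOpen_le r) r ^ n • s
  rw [← mul_smul, mul_assoc, ← pow_add, ← hu, Units.inv_mul, one_smul]

theorem exists_affine_genBy [CompactSpace X] [QuasiSeparatedSpace X] [Projective P]
    (hc : ∀ f g : P ⟶ P, f ≫ g = g ≫ f) (hft : CohB1.IsFT P.obj) (y : X) :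
    ∃ (W : X.Opens) (_ : IsAffineOpen W) (g : Γ(P.obj, W)), y ∈ W ∧ GenBy P.obj g := by
  obtain ⟨x, hx, hxc⟩ := IsClosed.exists_closed_singleton (isClosed_closure (s := ({y} : Set X)))
    ⟨y, subset_closure rfl⟩
  obtain ⟨U, hU, hxU, -⟩ := exists_isAffineOpen_mem_and_subset (x := x) (U := ⊤) trivial
  obtain ⟨g, hg⟩ := exists_cyclic_mod_ker hc hxc hU hxU
  haveI := QCoh.finite_of_isFT P.property hft hU
  let I := (X.fromSpecResidueField x).ker.ideal ⟨U, hU⟩
  let S := Submodule.span Γ(X, U) ({g} : Set Γ(P.obj, U))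
  have hN : (⊤ : Submodule Γ(X, U) (Γ(P.obj, U) ⧸ S)) ≤ I • ⊤ := by
    rintro w -
    induction w using Submodule.Quotient.induction_on with
    | _ s =>
    obtain ⟨b, hb⟩ := hg s
    have h1 := Submodule.mem_map_of_mem (f := S.mkQ) hb
    rw [Submodule.map_smul'', Submodule.map_top, Submodule.range_mkQ, map_sub, Submodule.mkQ_apply,
      Submodule.mkQ_apply, (Submodule.Quotient.mk_eq_zero S).2
        (S.smul_mem b (Submodule.mem_span_singleton_self g)), sub_zero] at h1
    exact h1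
  obtain ⟨r, hr, hr0⟩ := Submodule.exists_sub_one_mem_and_smul_eq_zero_of_fg_of_le_smul I
    (⊤ : Submodule Γ(X, U) (Γ(P.obj, U) ⧸ S)) Module.Finite.fg_top hN
  have hxr : x ∈ X.basicOpen r := by
    by_contra hxr
    have h1 := (QCoh.notMem_basicOpen_iff _ x hxU).1 hxr
    have h2 := (QCoh.notMem_basicOpen_iff _ x hxU).1 (notMem_basicOpen_of_mem_ker hU hr)
    rw [map_sub, map_one] at h2
    exact (IsLocalRing.maximalIdeal.isMaximal (X.presheaf.stalk x)).ne_top
      ((Ideal.eq_top_iff_one _).2 (by simpa using sub_mem h1 h2))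
  refine ⟨X.basicOpen r, hU.basicOpen r, _,
    (specializes_iff_mem_closure.2 hx).mem_open (X.basicOpen r).isOpen hxr,
    genBy_basicOpen P.property hU r g fun t => ?_⟩
  obtain ⟨c, hc'⟩ := Submodule.mem_span_singleton.1 ((Submodule.Quotient.mk_eq_zero S).1
    ((Submodule.Quotient.mk_smul S r t).trans (hr0 _ Submodule.mem_top)))
  exact ⟨1, c, by rw [pow_one]; exact hc'.symm⟩

/-- A separator is faithful. -/
theorem eq_zero_of_kill [QuasiSeparatedSpace X] (hsep : IsSeparator P) {W : X.Opens}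
    (hW : IsAffineOpen W) (a : Γ(X, W)) (ha : ∀ t : Γ(P.obj, W), a • t = 0) : a = 0 := by
  let j := hW.fromSpec
  let B := Γ(X, W)
  let R := P.obj.restrict j
  haveI : IsIso (Scheme.Modules.fromTildeΓ R) :=
    (isQuasicoherent_iff_isIso_fromTildeΓ _).1 (QCoh.isQCoh_restrict j P.property)
  let B0 : ModuleCat.{u} B := ModuleCat.of B B
  let m : B0 ⟶ B0 := ModuleCat.ofHom (LinearMap.lsmul B B a)
  let Q : QCohCat.QCoh X := ⟨(Scheme.Modules.pushforward j).obj ((tilde.functor B).obj B0),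
    QCoh.isQCoh_pushforward j (inferInstanceAs ((tilde B0).IsQuasicoherent))⟩
  let φ : Q ⟶ Q := ObjectProperty.homMk ((Scheme.Modules.pushforward j).map ((tilde.functor B).map m))
  let adj := Scheme.Modules.restrictAdjunction j
  have hkey : φ = 0 := (Preadditive.isSeparator_iff P).1 hsep φ fun h => by
    refine ObjectProperty.hom_ext _ ?_
    change h.hom ≫ (Scheme.Modules.pushforward j).map ((tilde.functor B).map m) = 0
    refine (adj.homEquiv _ _).symm.injective ?_
    rw [adj.homEquiv_naturality_right_symm, Adjunction.homEquiv_counit (g := 0), Functor.map_zero,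
      zero_comp]
    let e := asIso (Scheme.Modules.fromTildeΓ R)
    obtain ⟨f, hf⟩ := (tilde.functor B).map_surjective (e.hom ≫ (adj.homEquiv _ _).symm h.hom)
    rw [← cancel_epi e.hom, comp_zero, ← Category.assoc]
    refine (congrArg (· ≫ (tilde.functor B).map m) hf.symm).trans ?_
    rw [← Functor.map_comp, show f ≫ m = 0 from ?_, Functor.map_zero]
    ext n
    show a • f.hom n = 0
    obtain ⟨t, rfl⟩ := (QCoh.chartEquiv hW P.obj).surjective n
    rw [← map_smul f.hom, ← map_smul (QCoh.chartEquiv hW P.obj), ha, map_zero, map_zero]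
  have h1 : (tilde.functor B).map m = 0 := by
    refine (Scheme.Modules.pushforward j).map_injective ?_
    rw [Functor.map_zero]
    exact congrArg (fun t => t.hom) hkey
  have h2 : m = 0 := (tilde.functor B).map_injective (h1.trans (Functor.map_zero _ _ _).symm)
  have h3 : a * 1 = 0 := congrArg (fun t : B0 ⟶ B0 => t.hom (1 : B)) h2
  rwa [mul_one] at h3

theorem isInvertible_of_projective_separator [CompactSpace X] [QuasiSeparatedSpace X] [Projective P]
    (hc : ∀ f g : P ⟶ P, f ≫ g = g ≫ f) (hft : CohB1.IsFT P.obj) (hsep : IsSeparator P) :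
    PicF.IsInvertible P.obj := by
  refine InvX.isInvertible_of_frames fun y => ?_
  obtain ⟨W, hW, g, hy, hg⟩ := exists_affine_genBy hc hft y
  refine ⟨W, hy, g, InvX.isFrame_of_germ fun z hz => ⟨fun c c' h => ?_, fun t => ?_⟩⟩
  · obtain ⟨O, hzO, a, ha⟩ := X.presheaf.exists_germ_eq (x := z) (c - c')
    have h0 : X.presheaf.germ O z hzO a • P.obj.presheaf.germ W z hz g = 0 := by
      rw [ha, sub_smul, sub_eq_zero]
      exact h
    let O' := O ⊓ W
    rw [← InvX.germ_resR' (inf_le_left : O' ≤ O) (⟨hzO, hz⟩ : z ∈ O') a,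
      ← InvX.germ_res' (inf_le_right : O' ≤ W) (⟨hzO, hz⟩ : z ∈ O') g, ← QCoh.germ_smul'] at h0
    obtain ⟨O₂, hzO₂, i, i', hi⟩ := TopCat.Presheaf.germ_eq (C := AddCommGrpCat.{u}) P.obj.presheaf z
      (U := O') (V := O') ⟨hzO, hz⟩ ⟨hzO, hz⟩ _ 0 (h0.trans (map_zero _).symm)
    obtain ⟨r, hrO, hzr⟩ := hW.exists_basicOpen_le ⟨z, hzO₂⟩ hz
    have hle : X.basicOpen r ≤ O := hrO.trans (i.le.trans inf_le_left)
    have hkill : rf X hle a • rs P.obj (X.basicOpen_le r) g = 0 := by
      change rs P.obj i.le _ = rs P.obj i'.le 0 at hi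
      have h1 := congrArg (rs P.obj hrO) hi
      rw [show rs P.obj i'.le (0 : Γ(P.obj, O')) = 0 from map_zero _,
        show rs P.obj hrO (0 : Γ(P.obj, O₂)) = 0 from map_zero _, QCoh.rs_rs, QCoh.rs_smul] at h1
      change rf X (hrO.trans i.le) (rf X inf_le_left a) • rs P.obj (hrO.trans i.le) (rs P.obj inf_le_right g) = 0 at h1
      rw [QCoh.rs_rs] at h1
      refine Eq.trans (congrArg (· • rs P.obj (X.basicOpen_le r) g) ?_) h1
      exact ((CommRingCat.comp_apply _ _ _).symm.trans
        (congrArg (fun q : Γ(X, O) ⟶ Γ(X, X.basicOpen r) => q a) (X.presheaf.map_comp _ _).symm)).symm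
    have ha0 : rf X hle a = 0 := by
      refine eq_zero_of_kill hsep (hW.basicOpen r) _ fun t => ?_
      obtain ⟨b, rfl⟩ := genBy_basicOpen P.property hW r g
        (fun t => ⟨0, (hg t).choose, by rw [pow_zero, one_smul]; exact (hg t).choose_spec⟩) t
      rw [smul_comm, hkill, smul_zero]
    rw [← sub_eq_zero, ← ha, ← X.presheaf.germ_res_apply (homOfLE hle) z hzr a]
    exact (congrArg (X.presheaf.germ _ z hzr) ha0).trans (map_zero _)
  · obtain ⟨O, hzO, s, rfl⟩ := TopCat.Presheaf.exists_germ_eq P.obj.presheaf (x := z) t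
    obtain ⟨r, hrO, hzr⟩ := hW.exists_basicOpen_le ⟨z, hzO⟩ hz
    obtain ⟨b, hb⟩ := genBy_basicOpen P.property hW r g
      (fun t => ⟨0, (hg t).choose, by rw [pow_zero, one_smul]; exact (hg t).choose_spec⟩)
      (rs P.obj hrO s)
    refine ⟨X.presheaf.germ _ z hzr b, ?_⟩
    show _ • P.obj.presheaf.germ W z hz g = _
    rw [← InvX.germ_res' (X.basicOpen_le r) hzr g, ← QCoh.germ_smul']
    exact (congrArg (P.obj.presheaf.germ _ z hzr) hb.symm).trans (InvX.germ_res' hrO hzr s)

theorem sectionsExact_of_projective_invertible [Projective P] (hP : PicF.IsInvertible P.obj) :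
    SectionsExact X := by
  intro A M i _ hA hM t
  haveI := AVSupp.isEquivalence_tensorRightMod hP
  let T := DCoh.tensorRightMod P.obj
  have hTq : ∀ {N : X.Modules}, Coh.IsQCoh N → Coh.IsQCoh (T.obj N) := fun hN =>
    KFlatLib.isQCoh_tensor hN P.property
  let N := cokernel i
  have hN : Coh.IsQCoh N := QCoh.isQCoh_cokernel hA hM i
  let s : Coh.structureModule X ⟶ N := InvX.ofSect t
  let eU : T.obj (Coh.structureModule X) ≅ P.obj :=
    (H23.PicMul.comm (Coh.structureModule X) P.obj).some ≪≫ (KFlatLib.tensorStructureIso X).app P.obj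
  let p : (⟨T.obj M, hTq hM⟩ : QCohCat.QCoh X) ⟶ ⟨T.obj N, hTq hN⟩ :=
    ObjectProperty.homMk (T.map (cokernel.π i))
  haveI : Epi p.hom := inferInstanceAs (Epi (T.map (cokernel.π i)))
  haveI : Epi p := (QCohCat.isQCoh X).ι.epi_of_epi_map (inferInstanceAs (Epi (T.map (cokernel.π i))))
  obtain ⟨g, hg⟩ := Projective.factors
    (ObjectProperty.homMk (eU.inv ≫ T.map s) : P ⟶ ⟨T.obj N, hTq hN⟩) p
  obtain ⟨l, hl⟩ := T.map_surjective (eU.hom ≫ g.hom)
  have hls : l ≫ cokernel.π i = s := T.map_injective (by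
    rw [Functor.map_comp, hl, Category.assoc, show g.hom ≫ T.map (cokernel.π i) = eU.inv ≫ T.map s from
      congrArg (fun q => q.hom) hg, eU.hom_inv_id_assoc])
  exact ⟨InvX.one l, (congrArg InvX.one hls).trans (InvX.one_ofSect t)⟩

theorem isAffine_of_equiv_moduleCat [CompactSpace X] [QuasiSeparatedSpace X] (R : Type u) [CommRing R]
    (e : QCohCat.QCoh X ≌ ModuleCat.{u} R) : IsAffine X := by
  let R0 : ModuleCat.{u} R := ModuleCat.of R R
  let P : QCohCat.QCoh X := e.inverse.obj R0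
  haveI : Projective R0 := (IsProjective.iff_projective R0).1 inferInstance
  haveI : Projective P := e.symm.toAdjunction.map_projective _ ‹_›
  have hsep : IsSeparator P := IsSeparator.of_equivalence ((Preadditive.isSeparator_iff R0).2 fun {A B} φ h => by
    ext a
    have := congrArg (fun t => t.hom (1 : R)) (h (ModuleCat.ofHom (LinearMap.toSpanSingleton R A a)))
    exact (congrArg φ.hom (one_smul R a).symm).trans this) e.symm
  have hc : ∀ f g : P ⟶ P, f ≫ g = g ≫ f := fun f g => by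
    obtain ⟨a, rfl⟩ := e.inverse.map_surjective f
    obtain ⟨b, rfl⟩ := e.inverse.map_surjective g
    rw [← e.inverse.map_comp, ← e.inverse.map_comp, show a ≫ b = b ≫ a from ?_]
    ext
    show b.hom (a.hom (1 : R)) = a.hom (b.hom (1 : R))
    have ha : ∀ r : R, a.hom r = r * a.hom (1 : R) := fun r => by
      conv_lhs => rw [← mul_one r]
      exact a.hom.map_smul r (1 : R)
    have hb : ∀ r : R, b.hom r = r * b.hom (1 : R) := fun r => by
      conv_lhs => rw [← mul_one r]
      exact b.hom.map_smul r (1 : R)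
    rw [hb (a.hom (1 : R)), ha (b.hom (1 : R))]
    exact mul_comm _ _
  haveI : IsFinitelyPresentable.{u} R0 := isFinitelyPresentable_of_fp R R0
  haveI : PreservesFilteredColimitsOfSize.{u, u} e.functor := ⟨fun _ _ _ => inferInstance⟩
  haveI : e.functor.IsCardinalAccessible Cardinal.aleph0.{u} :=
    Functor.IsFinitelyAccessible_iff_preservesFilteredColimitsOfSize.2 inferInstance
  have hP : IsFinitelyPresentable.{u} P :=
    e.symm.toAdjunction.isCardinalPresentable_leftAdjoint_obj Cardinal.aleph0.{u} R0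
  exact isAffine_of_sectionsExact (sectionsExact_of_projective_invertible (P := P)
    (isInvertible_of_projective_separator hc
      (QCoh.isFT_of_isFP (isFP_of_isFinitelyPresentable P hP)) hsep))

end Groth.Agent.RPSM
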