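import Groth.Agent.RPSM.QCohCat
import Groth.Agent.S12131
import Groth.Agent.SerreVan45.ProjAffine
import Groth.Agent.KFlatLib.Scheme.QCohTensor
import Groth.Agent.KFlatLib.Scheme.InnerHom

/-!
# Kernel functors and affine base change
-/

universe u

set_option backward.isDefEq.respectTransparency false
set_option backward.isDefEq.respectTransparency.types false

open CategoryTheory CategoryTheory.Limits AlgebraicGeometry TopologicalSpace Opposite

namespace Groth.Agent.RPSM

open Scheme.Modules (pushforward pullbackPushforwardAdjunction pushforwardComp pushforwardCongr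
  pullbackComp pullbackCongr)

variable {X S X' S' : Scheme.{u}} {f : X ⟶ S} {g : S' ⟶ S} {g' : X' ⟶ X} {f' : X' ⟶ S'}

/-- The morphism adjoint to base change. -/
noncomputable def bcAdj (h : IsPullback g' f' f g) :
    pushforward f ⟶ Scheme.Modules.pullback g' ⋙ pushforward f' ⋙ pushforward g :=
  (Functor.leftUnitor _).inv ≫ Functor.whiskerRight (pullbackPushforwardAdjunction g').unit (pushforward f) ≫
    (Functor.associator _ _ _).hom ≫ Functor.whiskerLeft (Scheme.Modules.pullback g')
      ((pushforwardComp g' f).hom ≫ (pushforwardCongr h.w).hom ≫ (pushforwardComp f' g).inv)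

/-- The base change morphism of a cartesian square, as a natural transformation. -/
noncomputable def bcTrans (h : IsPullback g' f' f g) :
    pushforward f ⋙ Scheme.Modules.pullback g ⟶ Scheme.Modules.pullback g' ⋙ pushforward f' where
  app F := ((pullbackPushforwardAdjunction g).homEquiv ((pushforward f).obj F)
        ((pushforward f').obj ((Scheme.Modules.pullback g').obj F))).symm ((bcAdj h).app F)
  naturality F G φ := by
    refine ((pullbackPushforwardAdjunction g).homEquiv_naturality_left_symm _ _).symm.trans ?_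
    refine Eq.trans ?_ ((pullbackPushforwardAdjunction g).homEquiv_naturality_right_symm _ _)
    exact congrArg _ ((bcAdj h).naturality φ)

theorem isIso_bcTrans_app (h : IsPullback g' f' f g) [IsAffineHom f] (F : X.Modules)
    (hF : Coh.IsQCoh F) : IsIso ((bcTrans h).app F) := by
  haveI : Coh.IsQCoh F := hF
  have e : (bcAdj h).app F = (pushforward f).map ((pullbackPushforwardAdjunction g').unit.app F) ≫
        (pushforwardComp g' f).hom.app ((Scheme.Modules.pullback g').obj F) ≫
        (pushforwardCongr h.w).hom.app ((Scheme.Modules.pullback g').obj F) ≫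
        (pushforwardComp f' g).inv.app ((Scheme.Modules.pullback g').obj F) := by
    simp only [bcAdj, NatTrans.comp_app, Functor.whiskerRight_app, Functor.whiskerLeft_app,
      Functor.leftUnitor_inv_app, Functor.associator_hom_app]
    exact (Category.id_comp _).trans (congrArg (_ ≫ ·) (Category.id_comp _))
  show IsIso (((pullbackPushforwardAdjunction g).homEquiv _ _).symm ((bcAdj h).app F))
  rw [e]
  exact S12131.result f g g' f' h F

/-- Affine base change on quasi-coherent modules. -/
noncomputable def bcIso (h : IsPullback g' f' f g) [IsAffineHom f] :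
    ObjectProperty.ι (QCohCat.isQCoh X) ⋙ pushforward f ⋙ Scheme.Modules.pullback g ≅
      ObjectProperty.ι (QCohCat.isQCoh X) ⋙ Scheme.Modules.pullback g' ⋙ pushforward f' :=
  haveI : ∀ F : QCohCat.QCoh X, IsIso ((bcTrans h).app F.obj) := fun F =>
    isIso_bcTrans_app h F.obj F.property
  NatIso.ofComponents (fun F => asIso ((bcTrans h).app F.obj))
    (fun φ => (bcTrans h).naturality φ.hom)

/-- Direct image along an affine morphism followed by a twist, on quasi-coherent modules. -/
noncomputable def projIso (a : X' ⟶ X) [IsAffineHom a] (K : X.Modules) (hK : Coh.IsQCoh K) :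
    ObjectProperty.ι (QCohCat.isQCoh X') ⋙ pushforward a ⋙ DCoh.tensorRightMod K ≅
      ObjectProperty.ι (QCohCat.isQCoh X') ⋙ DCoh.tensorRightMod ((Scheme.Modules.pullback a).obj K) ⋙ pushforward a :=
  haveI : ∀ A : QCohCat.QCoh X', IsIso (KFlatLib.projMod a A.obj K) := fun A =>
    SerreVan45.isIso_projMod a A.obj K A.property hK
  NatIso.ofComponents (fun A => asIso (KFlatLib.projMod a A.obj K))
    (fun φ => KFlatLib.projMod_naturality_left a φ.hom K)

/-- Pullback of a twist. -/
noncomputable def pullTwistIso (a : X' ⟶ X) (K : X.Modules) :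
    DCoh.tensorRightMod K ⋙ Scheme.Modules.pullback a ≅ Scheme.Modules.pullback a ⋙ DCoh.tensorRightMod ((Scheme.Modules.pullback a).obj K) :=
  NatIso.ofComponents (fun M => ((KFlatLib.pullTensorBiIso a).app M).app K)
    (fun φ => NatTrans.congr_app ((KFlatLib.pullTensorBiIso a).hom.naturality φ) K)

section Kernel

variable {X Y Z X' Y' Z' : Scheme.{u}}

/-- Composing a kernel functor with an affine direct image in the source. -/
theorem fm_comp_push {p : Z ⟶ X} {q : Z ⟶ Y} {f : X' ⟶ X} {g : Z' ⟶ Z} {p' : Z' ⟶ X'} {q' : Z' ⟶ Y}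
    (h : IsPullback p' g f p) (hq : g ≫ q = q') [IsAffineHom f] (K : Z.Modules) (hK : Coh.IsQCoh K) :
    Nonempty (ObjectProperty.ι (QCohCat.isQCoh X') ⋙ Coh.push f ⋙
        (Scheme.Modules.pullback p ⋙ DCoh.tensorRightMod K ⋙ Coh.push q) ≅
      ObjectProperty.ι (QCohCat.isQCoh X') ⋙
        (Scheme.Modules.pullback p' ⋙ DCoh.tensorRightMod ((Scheme.Modules.pullback g).obj K) ⋙ Coh.push q')) := by
  haveI : IsAffineHom g := MorphismProperty.of_isPullback h inferInstance
  let L : QCohCat.QCoh X' ⥤ QCohCat.QCoh Z' :=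
    ObjectProperty.lift _ (ObjectProperty.ι (QCohCat.isQCoh X') ⋙ Scheme.Modules.pullback p')
      (fun M => QCoh.isQCoh_pullback p' M.property)
  let i₁ := Functor.isoWhiskerRight (bcIso h) (DCoh.tensorRightMod K ⋙ pushforward q)
  let i₂ := Functor.isoWhiskerRight (Functor.isoWhiskerLeft L (projIso g K hK)) (pushforward q)
  let i₃ := Functor.isoWhiskerLeft (ObjectProperty.ι (QCohCat.isQCoh X') ⋙ Scheme.Modules.pullback p' ⋙
    DCoh.tensorRightMod ((Scheme.Modules.pullback g).obj K)) (pushforwardComp g q ≪≫ pushforwardCongr hq)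
  exact ⟨NatIso.ofComponents (fun M => i₁.app M ≪≫ i₂.app M ≪≫ i₃.app M)
    fun φ => (i₁.hom ≫ i₂.hom ≫ i₃.hom).naturality φ⟩

/-- Composing a kernel functor of an affine kernel with an inverse image in the target. -/
theorem fm_comp_pull {p : Z ⟶ X} {q : Z ⟶ Y} {g : Y' ⟶ Y} {h : Z' ⟶ Z} {p' : Z' ⟶ X} {q' : Z' ⟶ Y'}
    (hsq : IsPullback h q' q g) (hp : h ≫ p = p') [IsAffineHom q] (K : Z.Modules) (hK : Coh.IsQCoh K) :
    Nonempty ((ObjectProperty.ι (QCohCat.isQCoh X) ⋙ Scheme.Modules.pullback p ⋙ DCoh.tensorRightMod K ⋙ Coh.push q) ⋙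
        Scheme.Modules.pullback g ≅
      ObjectProperty.ι (QCohCat.isQCoh X) ⋙
        (Scheme.Modules.pullback p' ⋙ DCoh.tensorRightMod ((Scheme.Modules.pullback h).obj K) ⋙ Coh.push q')) := by
  let L : QCohCat.QCoh X ⥤ QCohCat.QCoh Z :=
    ObjectProperty.lift _ (ObjectProperty.ι (QCohCat.isQCoh X) ⋙ Scheme.Modules.pullback p ⋙ DCoh.tensorRightMod K)
      (fun M => KFlatLib.isQCoh_tensor (QCoh.isQCoh_pullback p M.property) hK)
  let τ : Scheme.Modules.pullback p ⋙ DCoh.tensorRightMod K ⋙ Scheme.Modules.pullback h ≅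
      Scheme.Modules.pullback p' ⋙ DCoh.tensorRightMod ((Scheme.Modules.pullback h).obj K) :=
    Functor.isoWhiskerLeft _ (pullTwistIso h K) ≪≫ (Functor.associator _ _ _).symm ≪≫
      Functor.isoWhiskerRight (pullbackComp h p ≪≫ pullbackCongr hp) _
  let i₁ := Functor.isoWhiskerLeft L (bcIso hsq)
  let i₂ := Functor.isoWhiskerLeft (ObjectProperty.ι (QCohCat.isQCoh X))
    (Functor.isoWhiskerRight τ (pushforward q'))
  exact ⟨NatIso.ofComponents (fun M => i₁.app M ≪≫ i₂.app M)
    fun φ => (i₁.hom ≫ i₂.hom).naturality φ⟩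

end Kernel

end Groth.Agent.RPSM
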