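import Groth.Agent.RPSM.FMExact
import Groth.Agent.FMX.Derived
import Groth.Agent.KFlatLib.Scheme.Coproducts
import Groth.Agent.AmpleVan.Vanish
import Groth.Agent.ZClosLib.CohDescent
import Groth.Agent.QCoh.ProperOver2
import Groth.Agent.QCoh.Support
import Groth.Agent.KFlatLib.Scheme.CohD

/-!
# The derived functor of a flat module kernel

For `K` flat over `X` the functor `M ↦ p^*M ⊗ K` is exact on all modules, so it computes
`Lp^* M ⊗^L K` on cohomology sheaves.
-/

universe u

set_option linter.style.haveILetI false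
set_option backward.isDefEq.respectTransparency false
set_option backward.isDefEq.respectTransparency.types false

open CategoryTheory CategoryTheory.Limits AlgebraicGeometry TopologicalSpace Opposite MonoidalCategory
open scoped TensorProduct

attribute [local instance] HasDerivedCategory.standard

namespace Groth.Agent.RPSM

variable {X Z : Scheme.{u}} (p : Z ⟶ X) (K : Z.Modules)

/-- `M ↦ p^* M ⊗ K` on all modules. -/
noncomputable abbrev modTwist : X.Modules ⥤ Z.Modules :=
  Scheme.Modules.pullback p ⋙ DCoh.tensorRightMod K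

/-- The stalks of `p^* M ⊗ K`. -/
noncomputable def stalkModTwistIso (z : Z) :
    modTwist p K ⋙ DerSch.stalkFunctor Z z ≅
      DerSch.stalkFunctor X (p.base z) ⋙ ModuleCat.extendScalars (p.stalkMap z).hom ⋙
        tensorRight ((DerSch.stalkFunctor Z z).obj K) :=
  Functor.associator _ _ _ ≪≫ Functor.isoWhiskerLeft _ (KFlatLib.stalkTensorRightIso K z) ≪≫
    (Functor.associator _ _ _).symm ≪≫
    Functor.isoWhiskerRight (KFlatLib.stalkPullbackIso p z) _ ≪≫ Functor.associator _ _ _

theorem mono_modTwist_map (hf : FlatMod.IsFlatOver p K) {A B : X.Modules} (u : A ⟶ B) [Mono u] :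
    Mono ((modTwist p K).map u) := by
  let v := (modTwist p K).map u
  have hz : ∀ z : Z, Mono ((DerSch.stalkFunctor Z z).map v) := fun z => by
    let τ := stalkModTwistIso p K z
    refine ((MorphismProperty.monomorphisms _).arrow_mk_iso_iff
      (Arrow.isoMk (τ.app A) (τ.app B) (τ.hom.naturality u).symm)).2 ?_
    refine (ModuleCat.mono_iff_injective _).2 ?_
    let w := (DerSch.stalkFunctor X (p.base z)).map u
    have hw : Function.Injective w.hom := (ModuleCat.mono_iff_injective _).1 inferInstance
    letI := (p.stalkMap z).hom.toAlgebra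
    letI := FlatMod.moduleStalkOver p K z
    haveI : IsScalarTower (X.presheaf.stalk (p.base z)) (Z.presheaf.stalk z) (K.presheaf.stalk z) :=
      IsScalarTower.of_algebraMap_smul fun _ _ => rfl
    haveI : Module.Flat (X.presheaf.stalk (p.base z)) (K.presheaf.stalk z) := hf z
    exact injective_baseChange_tensor (A := X.presheaf.stalk (p.base z)) (B := Z.presheaf.stalk z)
      (N := K.presheaf.stalk z) w.hom hw
  refine Preadditive.mono_of_isZero_kernel _ (KFlatLib.isZero_of_stalk _ fun z => ?_)
  haveI := hz z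
  exact (isZero_kernel_of_mono ((DerSch.stalkFunctor Z z).map v)).of_iso
    (PreservesKernel.iso (DerSch.stalkFunctor Z z) v)

instance preservesColimitsOfSize_modTwist : PreservesColimitsOfSize.{u, u} (modTwist p K) := ⟨fun {_} _ =>
  inferInstance⟩

instance additive_modTwist : (modTwist p K).Additive := by
  haveI : PreservesFiniteColimits (modTwist p K) := PreservesColimitsOfSize.preservesFiniteColimits _
  exact Functor.additive_of_preserves_binary_products _

theorem preservesHomology_modTwist (hf : FlatMod.IsFlatOver p K) : (modTwist p K).PreservesHomology := by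
  haveI : PreservesFiniteColimits (modTwist p K) := PreservesColimitsOfSize.preservesFiniteColimits _
  haveI : (modTwist p K).PreservesMonomorphisms := ⟨fun u _ => mono_modTwist_map p K hf u⟩
  exact Functor.preservesHomology_of_preservesMonos_and_cokernels _

/-- The support of `p^* M ⊗ K` is contained in that of `K`. -/
theorem support_modTwist_subset (M : X.Modules) :
    CohB1.support ((modTwist p K).obj M) ⊆ CohB1.support K := fun z hz hK => hz (by
  let e := (stalkModTwistIso p K z).app M
  haveI : Subsingleton ((DerSch.stalkFunctor Z z).obj K : Type u) := hK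
  haveI : Subsingleton ((DerSch.stalkFunctor X (p.base z) ⋙ ModuleCat.extendScalars (p.stalkMap z).hom ⋙
      tensorRight ((DerSch.stalkFunctor Z z).obj K)).obj M : Type u) :=
    inferInstanceAs (Subsingleton (_ ⊗[_] _))
  exact (e.toLinearEquiv.toEquiv.subsingleton : Subsingleton ((DerSch.stalkFunctor Z z).obj
    ((modTwist p K).obj M) : Type u)))

/-- Cohomology of `Lp^* M ⊗^L K` for `K` flat over `X`. -/
theorem nonempty_hd_ltm_lpull [DCoh.HasLpull p] [DCoh.HasLTensorMod K]
    (hf : FlatMod.IsFlatOver p K) (M : DCoh.D X) (i : ℤ) :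
    Nonempty (DCoh.HD ((DCoh.LTensorMod K).obj ((DCoh.Lpull p).obj M)) i ≅
      (modTwist p K).obj (DCoh.HD M i)) := by
  haveI := preservesHomology_modTwist p K hf
  obtain ⟨P, hP, ⟨e⟩⟩ := KFlatLib.exists_kFlat_rep M
  haveI := KFlatLib.isIso_lpullComparison p hP
  exact ⟨(DerivedCategory.homologyFunctor Z.Modules i).mapIso ((DCoh.LTensorMod K).mapIso
      ((DCoh.Lpull p).mapIso e.symm ≪≫ asIso ((KFlatLib.lpullComparison p).app P))) ≪≫
    KFlatLib.hdLTensorModIso K (KFlatLib.isKFlat_pullback p hP) i ≪≫
    ShortComplex.homologyMapIso ((P.sc i).mapNatIso (Iso.refl (modTwist p K))) ≪≫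
    (P.sc i).mapHomologyIso (modTwist p K) ≪≫
    (modTwist p K).mapIso (((DerivedCategory.homologyFunctorFactors X.Modules i).app P).symm ≪≫
      (DerivedCategory.homologyFunctor X.Modules i).mapIso e)⟩

/-- Coherence, boundedness and support of `Lp^* M ⊗^L K`. -/
theorem kernel_transform_bounded [IsLocallyNoetherian Z] {S : Scheme.{u}} (q : Z ⟶ S)
    [LocallyOfFiniteType q] [DCoh.HasLpull p] [DCoh.HasLTensorMod K]
    (hK : Coh.IsCoh K) (hf : FlatMod.IsFlatOver p K) (hs : ClSub.IsProperOver q (CohB1.support K))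
    (M : DCoh.D X) (hM : DCoh.IsCohD M) (m n : ℤ) (hge : DerivedCategory.IsGE M m)
    (hle : DerivedCategory.IsLE M n) :
    DCoh.IsCohD ((DCoh.LTensorMod K).obj ((DCoh.Lpull p).obj M)) ∧
      ((DCoh.LTensorMod K).obj ((DCoh.Lpull p).obj M)).IsGE m ∧
      ((DCoh.LTensorMod K).obj ((DCoh.Lpull p).obj M)).IsLE n ∧
      ∀ i : ℤ, ClSub.IsProperOver q
        (CohB1.support (DCoh.HD ((DCoh.LTensorMod K).obj ((DCoh.Lpull p).obj M)) i)) := by
  have hc : DCoh.IsCohD ((DCoh.LTensorMod K).obj ((DCoh.Lpull p).obj M)) := fun i => by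
    obtain ⟨e⟩ := nonempty_hd_ltm_lpull p K hf M i
    exact KFlatLib.isCoh_of_iso e.symm (AmpleVan.isCoh_tensor (ZClosLib.isCoh_pullback p (hM i)) hK)
  haveI := hge
  haveI := hle
  refine ⟨hc, (DerivedCategory.isGE_iff _ m).2 fun i hi => ?_,
    (DerivedCategory.isLE_iff _ n).2 fun i hi => ?_, fun i => ?_⟩
  · obtain ⟨e⟩ := nonempty_hd_ltm_lpull p K hf M i
    exact ((modTwist p K).map_isZero (DerivedCategory.isZero_of_isGE M m i hi)).of_iso e
  · obtain ⟨e⟩ := nonempty_hd_ltm_lpull p K hf M i
    exact ((modTwist p K).map_isZero (DerivedCategory.isZero_of_isLE M n i hi)).of_iso e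
  · obtain ⟨e⟩ := nonempty_hd_ltm_lpull p K hf M i
    refine QCoh.IsProperOver.subset hs (QCoh.isClosed_support_of_isFT (hc i).1 (hc i).2) ?_
    intro z hz
    refine support_modTwist_subset p K (DCoh.HD M i) fun h => hz ?_
    haveI : Subsingleton ((DerSch.stalkFunctor Z z).obj ((modTwist p K).obj (DCoh.HD M i)) : Type u) := h
    exact ((DerSch.stalkFunctor Z z).mapIso e).toLinearEquiv.toEquiv.subsingleton

end Groth.Agent.RPSM
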