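import Groth.Agent.RPSM.FPExt
import Groth.Agent.RPSM.PushColim
import Groth.Agent.RPSM.QCohCat
import Groth.Agent.RPSM.CompactQCoh
import Groth.Agent.RPSM.Noeth
import Groth.Agent.KFlatLib.Scheme.InnerHom
import Groth.Agent.KFlatLib.Scheme.QCohTensor
import Groth.Agent.KFlatLib.Scheme.TensorStalk
import Groth.Agent.KFlatLib.Scheme.Pullback
import Groth.Agent.KFlatLib.Scheme.Exact
import Groth.Agent.AmpleVan.AdicBase
import Groth.Agent.TriCat.RightDerivedBridge
import Mathlib.LinearAlgebra.TensorProduct.Tower

/-!
# Exactness of the functor attached to a quasi-coherent kernel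

`M ↦ q_*(p^* M ⊗ K)` on quasi-coherent modules, in two steps through `QCoh Z`.
-/

universe u

set_option backward.isDefEq.respectTransparency false
set_option backward.isDefEq.respectTransparency.types false

open CategoryTheory CategoryTheory.Limits AlgebraicGeometry TopologicalSpace Opposite MonoidalCategory
open scoped TensorProduct

namespace Groth.Agent.RPSM

section Derived

variable {C D : Type*} [Category C] [Category D] [Abelian C] [Abelian D]
  [EnoughInjectives C] [HasInjectiveResolutions C]

/-- If the first derived functor vanishes on the kernel, a left exact functor preserves the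
quotient map. -/
theorem epi_map_of_isZero_rightDerived_one (F : C ⥤ D) [F.Additive] [PreservesFiniteLimits F]
    {S : ShortComplex C} (hS : S.ShortExact) (h : IsZero ((F.rightDerived 1).obj S.X₁)) :
    Epi (F.map S.g) := by
  let := HasDerivedCategory.standard C
  let := HasDerivedCategory.standard D
  obtain ⟨δ, w₁, w₂, w₃, -, e₂, -⟩ := TriCat.exists_rightDerived_ses F hS 0
  haveI : Epi ((F.rightDerived 0).map S.g) := e₂.epi_f (h.eq_of_tgt δ 0)
  exact ((MorphismProperty.epimorphisms D).arrow_mk_iso_iff
    (Arrow.isoMk (F.rightDerivedZeroIsoSelf.app S.X₂) (F.rightDerivedZeroIsoSelf.app S.X₃)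
      (F.rightDerivedZeroIsoSelf.hom.naturality S.g).symm)).1 ‹_›

end Derived

variable {X Y Z : Scheme.{u}}

/-- Pullback followed by the twist, on quasi-coherent modules. -/
noncomputable abbrev qTwist (p : Z ⟶ X) (K : Z.Modules) (hK : Coh.IsQCoh K) :
    QCohCat.QCoh X ⥤ QCohCat.QCoh Z :=
  ObjectProperty.lift (QCohCat.isQCoh Z)
    ((QCohCat.isQCoh X).ι ⋙ Scheme.Modules.pullback p ⋙ DCoh.tensorRightMod K)
    (fun M => KFlatLib.isQCoh_tensor (QCoh.isQCoh_pullback p M.property) hK)

/-- Direct image on quasi-coherent modules, with values in all modules. -/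
noncomputable abbrev qPush (q : Z ⟶ Y) : QCohCat.QCoh Z ⥤ Y.Modules :=
  (QCohCat.isQCoh Z).ι ⋙ Coh.push q

/-- The functor of a kernel factors through quasi-coherent modules. -/
noncomputable def fmIso (p : Z ⟶ X) (q : Z ⟶ Y) (K : Z.Modules) (hK : Coh.IsQCoh K) :
    qTwist p K hK ⋙ qPush q ≅
      ObjectProperty.ι (QCohCat.isQCoh X) ⋙ Scheme.Modules.pullback p ⋙ DCoh.tensorRightMod K ⋙ Coh.push q :=
  NatIso.ofComponents (fun _ => Iso.refl _)

section Twist

variable (p : Z ⟶ X) (K : Z.Modules) (hK : Coh.IsQCoh K)

instance preservesColimitsOfSize_tensorRightMod :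
    PreservesColimitsOfSize.{u, u} (DCoh.tensorRightMod K) :=
  inferInstanceAs (PreservesColimitsOfSize.{u, u} ((DCoh.tensorBi (X := Z)).flip.obj K))

instance preservesColimitsOfSize_qTwist : PreservesColimitsOfSize.{u, u} (qTwist p K hK) := ⟨fun {I} _ => by
  haveI : PreservesColimitsOfShape I (qTwist p K hK ⋙ (QCohCat.isQCoh Z).ι) :=
    inferInstanceAs (PreservesColimitsOfShape I
      ((QCohCat.isQCoh X).ι ⋙ Scheme.Modules.pullback p ⋙ DCoh.tensorRightMod K))
  exact preservesColimitsOfShape_of_reflects_of_preserves _ (QCohCat.isQCoh Z).ι⟩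

instance preservesFiniteColimits_qTwist : PreservesFiniteColimits (qTwist p K hK) :=
  PreservesColimitsOfSize.preservesFiniteColimits _

/-- Flatness of the kernel gives injectivity on stalks. -/
theorem injective_baseChange_tensor {A B : Type u} [CommRing A] [CommRing B] [Algebra A B]
    {N : Type u} [AddCommGroup N] [Module A N] [Module B N] [IsScalarTower A B N] [Module.Flat A N]
    {M M' : Type u} [AddCommGroup M] [Module A M] [AddCommGroup M'] [Module A M']
    (u : M →ₗ[A] M') (hu : Function.Injective u) :
    Function.Injective ((u.baseChange B).rTensor N) := by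
  have h := Module.Flat.lTensor_preserves_injective_linearMap (M := N) u hu
  let e : ∀ (L : Type u) [AddCommGroup L] [Module A L], N ⊗[A] L ≃ₗ[B] (B ⊗[A] L) ⊗[B] N :=
    fun L _ _ => (TensorProduct.AlgebraTensorModule.cancelBaseChange A B B N L).symm.trans
      (TensorProduct.comm B N (B ⊗[A] L))
  have key : ∀ z, (u.baseChange B).rTensor N (e M z) = e M' (u.lTensor N z) := fun z => by
    induction z using TensorProduct.induction_on with
    | zero => simp
    | tmul n m => simp [e]
    | add a b ha hb => simp only [map_add, ha, hb]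
  intro a b hab
  obtain ⟨a, rfl⟩ := (e M).surjective a
  obtain ⟨b, rfl⟩ := (e M).surjective b
  rw [key, key] at hab
  rw [h ((e M').injective hab)]

/-- A flat kernel makes pullback followed by the twist preserve monomorphisms. -/
theorem mono_qTwist_map (hf : FlatMod.IsFlatOver p K) {A B : QCohCat.QCoh X} (u : A ⟶ B) [Mono u] :
    Mono ((qTwist p K hK).map u) := by
  haveI := mono_hom u
  let v := (Scheme.Modules.pullback p ⋙ DCoh.tensorRightMod K).map u.hom
  suffices Mono v from (QCohCat.isQCoh Z).ι.mono_of_mono_map (f := (qTwist p K hK).map u) this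
  have hz : ∀ z : Z, Mono ((DerSch.stalkFunctor Z z).map v) := fun z => by
    let τ : (Scheme.Modules.pullback p ⋙ DCoh.tensorRightMod K) ⋙ DerSch.stalkFunctor Z z ≅
        DerSch.stalkFunctor X (p.base z) ⋙ ModuleCat.extendScalars (p.stalkMap z).hom ⋙
          tensorRight ((DerSch.stalkFunctor Z z).obj K) :=
      Functor.associator _ _ _ ≪≫ Functor.isoWhiskerLeft _ (KFlatLib.stalkTensorRightIso K z) ≪≫
        (Functor.associator _ _ _).symm ≪≫
        Functor.isoWhiskerRight (KFlatLib.stalkPullbackIso p z) _ ≪≫ Functor.associator _ _ _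
    refine ((MorphismProperty.monomorphisms _).arrow_mk_iso_iff
      (Arrow.isoMk (τ.app A.obj) (τ.app B.obj) (τ.hom.naturality u.hom).symm)).2 ?_
    refine (ModuleCat.mono_iff_injective _).2 ?_
    let w := (DerSch.stalkFunctor X (p.base z)).map u.hom
    have hw : Function.Injective w.hom := (ModuleCat.mono_iff_injective _).1 inferInstance
    letI := (p.stalkMap z).hom.toAlgebra
    letI := FlatMod.moduleStalkOver p K z
    haveI : IsScalarTower (X.presheaf.stalk (p.base z)) (Z.presheaf.stalk z) (K.presheaf.stalk z) :=
      IsScalarTower.of_algebraMap_smul fun _ _ => rfl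
    haveI : Module.Flat (X.presheaf.stalk (p.base z)) (K.presheaf.stalk z) := hf z
    exact injective_baseChange_tensor (A := X.presheaf.stalk (p.base z)) (B := Z.presheaf.stalk z)
      (N := K.presheaf.stalk z) w.hom hw
  refine Preadditive.mono_of_isZero_kernel _ (KFlatLib.isZero_of_stalk _ fun z => ?_)
  haveI := hz z
  exact (isZero_kernel_of_mono ((DerSch.stalkFunctor Z z).map v)).of_iso
    (PreservesKernel.iso (DerSch.stalkFunctor Z z) v)

theorem preservesFiniteLimits_qTwist (hf : FlatMod.IsFlatOver p K) :
    PreservesFiniteLimits (qTwist p K hK) := by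
  haveI : (qTwist p K hK).Additive := Functor.additive_of_preserves_binary_products _
  haveI : (qTwist p K hK).PreservesMonomorphisms := ⟨fun u _ => mono_qTwist_map p K hK hf u⟩
  haveI : (qTwist p K hK).PreservesHomology := Functor.preservesHomology_of_preservesMonos_and_cokernels _
  exact Functor.preservesFiniteLimits_of_preservesHomology _

end Twist

section Push

variable (q : Z ⟶ Y)

instance preservesFiniteLimits_qPush : PreservesFiniteLimits (qPush q) := by
  haveI : PreservesFiniteLimits (Coh.push q) :=
    inferInstanceAs (PreservesFiniteLimits (Scheme.Modules.pushforward q))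
  exact comp_preservesFiniteLimits _ _

instance additive_qPush : (qPush q).Additive := Functor.additive_of_preserves_binary_products _

theorem preservesFiltered_qPush [QuasiCompact q] [QuasiSeparated q] :
    PreservesFilteredColimitsOfSize.{u, u} (qPush q) := by
  haveI := preservesFilteredColimits_pushforward' q
  exact ⟨fun I _ _ => inferInstanceAs (PreservesColimitsOfShape I
    ((QCohCat.isQCoh Z).ι ⋙ Scheme.Modules.pushforward q))⟩

theorem preservesFiniteColimits_qPush_of_affine [IsAffineHom q] :
    PreservesFiniteColimits (qPush q) := by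
  haveI : (qPush q).PreservesEpimorphisms := ⟨fun {A B} φ _ => by
    haveI : Epi φ.hom := inferInstanceAs (Epi ((QCohCat.isQCoh Z).ι.map φ))
    exact AmpleVan.epi_push q A.property B.property φ.hom⟩
  haveI : (qPush q).PreservesHomology := Functor.preservesHomology_of_preservesEpis_and_kernels _
  exact Functor.preservesFiniteColimits_of_preservesHomology _

end Push

section FM

variable (p : Z ⟶ X) (q : Z ⟶ Y) (K : Z.Modules) (hK : Coh.IsQCoh K)
include hK

theorem preservesCoproducts_fm [QuasiCompact q] [QuasiSeparated q]
    [(qTwist p K hK ⋙ qPush q).Additive] (J : Type u) :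
    PreservesColimitsOfShape (Discrete J) (qTwist p K hK ⋙ qPush q) := by
  haveI := preservesFiltered_qPush q
  haveI : PreservesFilteredColimitsOfSize.{u, u} (qTwist p K hK ⋙ qPush q) :=
    ⟨fun I _ _ => inferInstance⟩
  haveI : HasFiniteBiproducts (QCohCat.QCoh X) := HasFiniteBiproducts.of_hasFiniteProducts
  exact preservesCoproducts_of_filtered _ J

/-- The functor of an affine kernel is right exact and commutes with direct sums. -/
theorem fm_rightExact_of_affine [IsAffineHom q] :
    PreservesFiniteColimits (ObjectProperty.ι (QCohCat.isQCoh X) ⋙ Scheme.Modules.pullback p ⋙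
        DCoh.tensorRightMod K ⋙ Coh.push q) ∧
      ∀ J : Type u, PreservesColimitsOfShape (Discrete J) (ObjectProperty.ι (QCohCat.isQCoh X) ⋙
        Scheme.Modules.pullback p ⋙ DCoh.tensorRightMod K ⋙ Coh.push q) := by
  haveI := preservesFiniteColimits_qPush_of_affine q
  haveI : PreservesFiniteColimits (qTwist p K hK ⋙ qPush q) := comp_preservesFiniteColimits _ _
  haveI : (qTwist p K hK).Additive := Functor.additive_of_preserves_binary_products _
  refine ⟨preservesFiniteColimits_of_natIso (fmIso p q K hK), fun J => ?_⟩
  haveI := preservesCoproducts_fm p q K hK J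
  exact preservesColimitsOfShape_of_natIso (fmIso p q K hK)

/-- The functor of a flat acyclic kernel is exact and commutes with direct sums. -/
theorem fm_exact_of_flat_acyclic [QuasiCompact q] [QuasiSeparated q]
    [HasInjectiveResolutions Z.Modules] (hf : FlatMod.IsFlatOver p K)
    (hac : ∀ M : X.Modules, Coh.IsQCoh M →
      IsZero ((Coh.Rpush q 1).obj ((DCoh.tensorRightMod K).obj ((Scheme.Modules.pullback p).obj M)))) :
    PreservesFiniteLimits (ObjectProperty.ι (QCohCat.isQCoh X) ⋙ Scheme.Modules.pullback p ⋙
        DCoh.tensorRightMod K ⋙ Coh.push q) ∧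
    PreservesFiniteColimits (ObjectProperty.ι (QCohCat.isQCoh X) ⋙ Scheme.Modules.pullback p ⋙
        DCoh.tensorRightMod K ⋙ Coh.push q) ∧
      ∀ J : Type u, PreservesColimitsOfShape (Discrete J) (ObjectProperty.ι (QCohCat.isQCoh X) ⋙
        Scheme.Modules.pullback p ⋙ DCoh.tensorRightMod K ⋙ Coh.push q) := by
  haveI := preservesFiniteLimits_qTwist p K hK hf
  haveI : (qTwist p K hK).Additive := Functor.additive_of_preserves_binary_products _
  haveI : PreservesFiniteLimits (qTwist p K hK ⋙ qPush q) := comp_preservesFiniteLimits _ _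
  haveI : (qTwist p K hK ⋙ qPush q).PreservesEpimorphisms := ⟨fun {A B} φ _ => by
    let S : ShortComplex (QCohCat.QCoh X) := ShortComplex.mk (kernel.ι φ) φ (kernel.condition φ)
    have hS : S.ShortExact := { exact := ShortComplex.exact_of_f_is_kernel _ (kernelIsKernel φ) }
    have hS' := hS.map_of_exact (qTwist p K hK ⋙ (QCohCat.isQCoh Z).ι)
    haveI : PreservesFiniteLimits (Coh.push q) :=
      inferInstanceAs (PreservesFiniteLimits (Scheme.Modules.pushforward q))
    haveI : (Coh.push q).Additive := Functor.additive_of_preserves_binary_products _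
    exact epi_map_of_isZero_rightDerived_one (Coh.push q) hS' (hac _ (kernel φ).property)⟩
  haveI : (qTwist p K hK ⋙ qPush q).PreservesHomology :=
    Functor.preservesHomology_of_preservesEpis_and_kernels _
  haveI := Functor.preservesFiniteColimits_of_preservesHomology (qTwist p K hK ⋙ qPush q)
  refine ⟨preservesFiniteLimits_of_natIso (fmIso p q K hK),
    preservesFiniteColimits_of_natIso (fmIso p q K hK), fun J => ?_⟩
  haveI := preservesCoproducts_fm p q K hK J
  exact preservesColimitsOfShape_of_natIso (fmIso p q K hK)

end FM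

end Groth.Agent.RPSM
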