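import Groth.Agent.PerfD40.TensorAmp
import Groth.Agent.PerfD40.PCLocal
import Groth.Agent.KFlatLib.Scheme.CohD
import Groth.Agent.KFlatLib.Scheme.QCohDerived
import Groth.Agent.QCoh.Support

/-!
# Perfect objects tensored with bounded coherent complexes
-/

universe u

set_option linter.style.haveILetI false
set_option backward.isDefEq.respectTransparency false
set_option backward.isDefEq.respectTransparency.types false

open CategoryTheory CategoryTheory.Limits AlgebraicGeometry TopologicalSpace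

attribute [local instance] HasDerivedCategory.standard

namespace Groth.Agent.RPSM

open Groth.Agent.KFlatLib

variable {X : Scheme.{u}}

/-- The tensor product of a strictly perfect complex with a complex of bounded cohomology has
bounded cohomology. -/
theorem isZero_hd_tensorCx_of_bounds {P T : CochainComplex X.Modules ℤ} {c d a b : ℤ}
    (hP : DCoh.IsKFlat P) (hPz : DCoh.VanishesOutside P c d) [T.IsGE a] [T.IsLE b]
    (i : ℤ) (hi : i < c + a ∨ d + b < i) :
    IsZero (DCoh.HD (DCoh.toD X ((DCoh.tensorCx.obj P).obj T)) i) := by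
  haveI : P.IsStrictlyGE c := (CochainComplex.isStrictlyGE_iff _ _).2 fun i hi => hPz i (Or.inl hi)
  haveI : P.IsStrictlyLE d := (CochainComplex.isStrictlyLE_iff _ _).2 fun i hi => hPz i (Or.inr hi)
  let g := T.πTruncGE a
  haveI : (T.truncGE a).IsLE b :=
    (CochainComplex.isLE_iff _ _).2 fun i hi =>
      HomologicalComplex.exactAt_iff_isZero_homology _ _ |>.2
        ((T.isZero_of_isLE b i hi).of_iso (asIso (HomologicalComplex.homologyMap g i)).symm)
  let s := (T.truncGE a).ιTruncLE b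
  let G := (T.truncGE a).truncLE b
  haveI : QuasiIso ((DCoh.tensorCx.obj P).map g) := KFlat.quasiIso_map' (tensorBiFlipIso X) hP g
  haveI : QuasiIso ((DCoh.tensorCx.obj P).map s) := KFlat.quasiIso_map' (tensorBiFlipIso X) hP s
  haveI := PerfD40.isStrictlyGE_tensorCx P G c a
  haveI := PerfD40.isStrictlyLE_tensorCx P G d b
  let Z := (DCoh.tensorCx.obj P).obj G
  have hz : IsZero (DCoh.HD (DCoh.toD X Z) i) := by
    refine IsZero.of_iso ?_ ((DerivedCategory.homologyFunctorFactors X.Modules i).app Z)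
    rcases hi with hi | hi
    · exact Z.isZero_of_isGE (c + a) i hi
    · exact Z.isZero_of_isLE (d + b) i hi
  exact hz.of_iso ((DerivedCategory.homologyFunctor X.Modules i).mapIso
    ((@asIso _ _ _ _ _ (isIso_Q_map ((DCoh.tensorCx.obj P).map g) inferInstance)) ≪≫
      (@asIso _ _ _ _ _ (isIso_Q_map ((DCoh.tensorCx.obj P).map s) inferInstance)).symm))

/-- The tensor product of a K-flat complex with an acyclic one is acyclic. -/
theorem isZero_hd_tensorCx_of_acyclic {P T : CochainComplex X.Modules ℤ}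
    (hP : DCoh.IsKFlat P) (hT : T.Acyclic) (i : ℤ) :
    IsZero (DCoh.HD (DCoh.toD X ((DCoh.tensorCx.obj P).obj T)) i) := by
  haveI : QuasiIso (0 : HomologicalComplex.zero ⟶ T) :=
    quasiIso_zero_of_acyclic _ HomologicalComplex.isZero_zero hT
  haveI : QuasiIso ((DCoh.tensorCx.obj P).map (0 : HomologicalComplex.zero ⟶ T)) :=
    KFlat.quasiIso_map' (tensorBiFlipIso X) hP _
  exact IsZero.of_iso
    ((acyclic_of_quasiIso_zero ((DCoh.tensorCx.obj P).map (0 : HomologicalComplex.zero ⟶ T))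
      ((DCoh.tensorCx.obj P).map_isZero HomologicalComplex.isZero_zero)) i).isZero_homology
    ((DerivedCategory.homologyFunctorFactors X.Modules i).app _)

/-- A perfect object tensored with a bounded complex of coherent cohomology: coherence, bounds and
supports. -/
theorem ltensor_perfect_coh_bounded [IsNoetherian X] {K : DCoh.D X} (hK : DCoh.IsPerfect K)
    (M : CochainComplex X.Modules ℤ) [DCoh.HasLTensorCx M] (hM : DCoh.IsCohD (DCoh.toD X M))
    (kl ku : ℤ) (hge : DerivedCategory.IsGE (DCoh.toD X M) kl)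
    (hle : DerivedCategory.IsLE (DCoh.toD X M) ku) (hKq : DCoh.IsQCohD K) :
    DCoh.IsCohD ((DCoh.LTensorCx M).obj K) ∧
      (∃ a b : ℤ, ((DCoh.LTensorCx M).obj K).IsGE a ∧ ((DCoh.LTensorCx M).obj K).IsLE b) ∧
      ∀ C : Set X, IsClosed C → (∀ i, CohB1.support (DCoh.HD (DCoh.toD X M) i) ⊆ C) →
        ∀ i, CohB1.support (DCoh.HD ((DCoh.LTensorCx M).obj K) i) ⊆ C := by
  have hq : DCoh.IsQCohD ((DCoh.LTensorCx M).obj K) :=
    isQCohD_ltensor M (isCohD_isQCohD hM) hKq
  haveI := hge
  haveI := hle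
  have hpcM : ∀ m, LocPC m (DCoh.toD X M) := fun m => locPC_of_coh (isCohD_isQCohD hM)
    (fun i _ => hM i) ku fun i hi => DerivedCategory.isZero_of_isLE _ ku i hi
  have hpc := PerfD40.locPC_ltensor_perfect hK M hpcM
  have hcoh : DCoh.IsCohD ((DCoh.LTensorCx M).obj K) := fun i => isCoh_of_locPC hq (hpc i) i le_rfl
  have hloc : ∀ x : X, ∃ (U : Scheme.{u}) (j : U ⟶ X) (_ : IsOpenImmersion j) (a b : ℤ),
      x ∈ Set.range j.base ∧ ∀ (i : ℤ), (i < a ∨ b < i) → ∀ u : U,
        j.base u ∉ CohB1.support (DCoh.HD ((DCoh.LTensorCx M).obj K) i) := fun x => by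
    obtain ⟨U, j, _, hx, P, hP, ⟨e⟩⟩ := (isPerfect_iff K).1 hK x
    obtain ⟨T, -, ⟨eT⟩, ⟨eE⟩⟩ := PerfD40.exists_ltensor_restrict K M j hP e
    obtain ⟨c, d, hcd⟩ := hP.1
    have hTz : ∀ i, (i < kl ∨ ku < i) → T.ExactAt i := fun i hi => by
      refine HomologicalComplex.exactAt_iff_isZero_homology _ _ |>.2 (IsZero.of_iso ?_
        (((DerivedCategory.homologyFunctorFactors U.Modules i).app T).symm ≪≫
          (DerivedCategory.homologyFunctor U.Modules i).mapIso eT ≪≫ restrictHDIso j _ i))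
      refine (Scheme.Modules.restrictFunctor j).map_isZero ?_
      rcases hi with hi | hi
      · exact DerivedCategory.isZero_of_isGE _ kl i hi
      · exact DerivedCategory.isZero_of_isLE _ ku i hi
    haveI : T.IsGE kl := (CochainComplex.isGE_iff _ _).2 fun i hi => hTz i (Or.inl hi)
    haveI : T.IsLE ku := (CochainComplex.isLE_iff _ _).2 fun i hi => hTz i (Or.inr hi)
    refine ⟨U, j, inferInstance, c + kl, d + ku, hx, fun i hi u hu => ?_⟩
    exact (PerfD40.isZero_iff_support _).1
      ((isZero_hd_tensorCx_of_bounds (isKFlat_of_isStrictlyPerfect hP) hcd i hi).of_iso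
        ((DerivedCategory.homologyFunctor U.Modules i).mapIso eE)) u
      ((PerfD40.mem_support_hd_restrictD j _ i u).2 hu)
  choose U j hj a b hx hab using hloc
  obtain ⟨s, hs⟩ := isCompact_univ.elim_finite_subcover (fun x => Set.range (j x).base)
    (fun x => (j x).isOpenEmbedding.isOpen_range) fun x _ => Set.mem_iUnion.2 ⟨x, hx x⟩
  obtain ⟨A, hA⟩ := (s.image a).bddBelow
  obtain ⟨B, hB⟩ := (s.image b).bddAbove
  refine ⟨hcoh, ⟨A, B, (DerivedCategory.isGE_iff _ A).2 fun i hi => ?_,
    (DerivedCategory.isLE_iff _ B).2 fun i hi => ?_⟩, fun C hC hsupp i y hy => ?_⟩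
  · refine (PerfD40.isZero_iff_support _).2 fun y hy => ?_
    obtain ⟨x, hxs, u, rfl⟩ := Set.mem_iUnion₂.1 (hs (Set.mem_univ y))
    exact hab x i (Or.inl (hi.trans_le (hA (Finset.mem_coe.2 (Finset.mem_image_of_mem a hxs))))) u hy
  · refine (PerfD40.isZero_iff_support _).2 fun y hy => ?_
    obtain ⟨x, hxs, u, rfl⟩ := Set.mem_iUnion₂.1 (hs (Set.mem_univ y))
    exact hab x i (Or.inr ((hB (Finset.mem_coe.2 (Finset.mem_image_of_mem b hxs))).trans_lt hi)) u hy
  · by_contra hyC
    obtain ⟨U₀, j₀, _, ⟨u, rfl⟩, P, hP, ⟨e⟩⟩ := (isPerfect_iff K).1 hK y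
    let O : U₀.Opens := ⟨j₀.base ⁻¹' Cᶜ, hC.isOpen_compl.preimage j₀.continuous⟩
    let k := O.ι ≫ j₀
    obtain ⟨T, -, ⟨eT⟩, ⟨eE⟩⟩ := PerfD40.exists_ltensor_restrict K M k
      (isStrictlyPerfect_restrict O.ι hP)
      (((rhoQ O.ι).app P).symm ≪≫ (rho O.ι).mapIso e ≪≫ rhoComp O.ι j₀ k rfl K)
    have hac : T.Acyclic := fun n => by
      refine HomologicalComplex.exactAt_iff_isZero_homology _ _ |>.2 (IsZero.of_iso ?_
        (((DerivedCategory.homologyFunctorFactors _ n).app T).symm ≪≫
          (DerivedCategory.homologyFunctor _ n).mapIso eT))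
      exact (PerfD40.isZero_iff_support _).2 fun w hw =>
        w.2 (hsupp n ((PerfD40.mem_support_hd_restrictD k _ n w).1 hw))
    exact (PerfD40.isZero_iff_support _).1
      ((isZero_hd_tensorCx_of_acyclic (isKFlat_of_isStrictlyPerfect
        (isStrictlyPerfect_restrict O.ι hP)) hac i).of_iso
        ((DerivedCategory.homologyFunctor _ i).mapIso eE)) ⟨u, hyC⟩
      ((PerfD40.mem_support_hd_restrictD k _ i ⟨u, hyC⟩).2 hy)

end Groth.Agent.RPSM
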