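import Groth.Agent.RPSM.FPExt
import Mathlib.CategoryTheory.Abelian.GrothendieckAxioms.Basic
import Mathlib.CategoryTheory.Preadditive.LeftExact

/-!
# Exactness of the extension of a functor from finitely presentable objects

A morphism of `C` is the filtered colimit of the morphisms of `J` over it; kernels and cokernels
are computed along this colimit.
-/

universe u u₁ u₂ v₂

open CategoryTheory CategoryTheory.Limits

namespace Groth.Agent.RPSM

section CommuteLemmas

variable {I : Type u} [SmallCategory I] {B : Type u₂} [Category.{v₂} B] [Preadditive B]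
  {D₁ D₀ Q : I ⥤ B} {c₁ : Cocone D₁} {c₀ : Cocone D₀} {cQ : Cocone Q}

/-- A colimit of cokernels is a cokernel. -/
noncomputable def isCokernelOfColimit (γ : D₁ ⟶ D₀) (π : D₀ ⟶ Q)
    (w : ∀ i, γ.app i ≫ π.app i = 0)
    (hcok : ∀ i, IsColimit (CokernelCofork.ofπ (π.app i) (w i))) (h₁ : IsColimit c₁)
    (h₀ : IsColimit c₀) (hQ : IsColimit cQ) (f : c₁.pt ⟶ c₀.pt) (p : c₀.pt ⟶ cQ.pt)
    (hf : ∀ i, c₁.ι.app i ≫ f = γ.app i ≫ c₀.ι.app i)
    (hp : ∀ i, c₀.ι.app i ≫ p = π.app i ≫ cQ.ι.app i) (w' : f ≫ p = 0) :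
    IsColimit (CokernelCofork.ofπ p w') := by
  have hepi : ∀ i {Z : B} (a b : Q.obj i ⟶ Z), π.app i ≫ a = π.app i ≫ b → a = b :=
    fun i _ _ _ h => Cofork.IsColimit.hom_ext (hcok i) h
  have key : ∀ {Z : B} (z : c₀.pt ⟶ Z), f ≫ z = 0 → ∀ i,
      ∃ t : Q.obj i ⟶ Z, π.app i ≫ t = c₀.ι.app i ≫ z := by
    intro Z z hz i
    obtain ⟨t, ht⟩ := CokernelCofork.IsColimit.desc' (hcok i) (c₀.ι.app i ≫ z) (by
      rw [← Category.assoc, ← hf, Category.assoc, hz, comp_zero])
    exact ⟨t, ht⟩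
  choose t ht using fun {Z : B} (z : c₀.pt ⟶ Z) (hz : f ≫ z = 0) => key z hz
  let T : ∀ {Z : B} (z : c₀.pt ⟶ Z), f ≫ z = 0 → Cocone Q := fun {Z} z hz =>
    { pt := Z
      ι :=
      { app := t z hz
        naturality := fun i j a => by
          refine hepi i _ _ ?_
          change π.app i ≫ Q.map a ≫ t z hz j = π.app i ≫ t z hz i ≫ 𝟙 Z
          rw [Category.comp_id, ← π.naturality_assoc, ht, ht, c₀.w_assoc] } }
  refine CokernelCofork.IsColimit.ofπ p w' (fun z hz => hQ.desc (T z hz)) (fun z hz => ?_)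
    (fun z hz m hm => ?_)
  · refine h₀.hom_ext fun i => ?_
    rw [reassoc_of% hp i, hQ.fac]
    exact ht z hz i
  · refine hQ.hom_ext fun i => ?_
    rw [hQ.fac]
    refine hepi i _ _ ?_
    change _ = π.app i ≫ t z hz i
    rw [ht, ← reassoc_of% hp i, hm]

variable {K : I ⥤ B} {cK : Cocone K}

/-- A colimit of kernels is a kernel when colimits commute with equalizers. -/
theorem isKernelOfColimit [HasColimitsOfShape I B]
    [PreservesLimitsOfShape WalkingParallelPair (colim : (I ⥤ B) ⥤ B)]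
    (κ : K ⟶ D₁) (γ : D₁ ⟶ D₀) (w : κ ≫ γ = 0)
    (hker : ∀ i, IsLimit (KernelFork.ofι (κ.app i) (by rw [← NatTrans.comp_app, w]; rfl)))
    (hK : IsColimit cK) (h₁ : IsColimit c₁) (h₀ : IsColimit c₀) (f : c₁.pt ⟶ c₀.pt)
    (k : cK.pt ⟶ c₁.pt) (hf : ∀ i, c₁.ι.app i ≫ f = γ.app i ≫ c₀.ι.app i)
    (hk : ∀ i, cK.ι.app i ≫ k = κ.app i ≫ c₁.ι.app i) (w' : k ≫ f = 0) :
    Nonempty (IsLimit (KernelFork.ofι k w')) := by
  let hlim : IsLimit (KernelFork.ofι κ w) := evaluationJointlyReflectsLimits _ fun i =>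
    (KernelFork.isLimitMapConeEquiv (KernelFork.ofι κ w) ((evaluation I B).obj i)).symm (hker i)
  let h := KernelFork.mapIsLimit _ hlim (colim : (I ⥤ B) ⥤ B)
  let eK := colimit.isoColimitCocone ⟨cK, hK⟩
  let e₁ := colimit.isoColimitCocone ⟨c₁, h₁⟩
  let e₀ := colimit.isoColimitCocone ⟨c₀, h₀⟩
  have sK : colimMap κ ≫ e₁.hom = eK.hom ≫ k := colimit.hom_ext fun i => by
    simp [eK, e₁, hk]
  have s₁ : colimMap γ ≫ e₀.hom = e₁.hom ≫ f := colimit.hom_ext fun i => by
    simp [e₀, e₁, hf]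
  have wab : colimMap κ ≫ colimMap γ = 0 := by
    change (colim : (I ⥤ B) ⥤ B).map κ ≫ colim.map γ = 0
    rw [← Functor.map_comp, w, Functor.map_zero]
  exact ⟨IsKernel.isoKernel' (wab := wab) h eK e₁ e₀ sK s₁ w'⟩
where
  /-- Transport of a kernel along isomorphisms. -/
  IsKernel.isoKernel' {A₂ A₁ A₀ A₂' A₁' A₀' : B} {a : A₂ ⟶ A₁} {b : A₁ ⟶ A₀} {wab : a ≫ b = 0}
      (h : IsLimit (KernelFork.ofι a wab)) {a' : A₂' ⟶ A₁'} {b' : A₁' ⟶ A₀'}
      (e₂ : A₂ ≅ A₂') (e₁ : A₁ ≅ A₁') (e₀ : A₀ ≅ A₀')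
      (sa : a ≫ e₁.hom = e₂.hom ≫ a') (sb : b ≫ e₀.hom = e₁.hom ≫ b') (w' : a' ≫ b' = 0) :
      IsLimit (KernelFork.ofι a' w') :=
    KernelFork.IsLimit.ofι a' w'
      (fun z hz => (KernelFork.IsLimit.lift' h (z ≫ e₁.inv) (by
        rw [← cancel_mono e₀.hom, zero_comp, Category.assoc, Category.assoc, sb,
          e₁.inv_hom_id_assoc, hz])).1 ≫ e₂.hom)
      (fun z hz => by
        rw [Category.assoc, ← sa, ← Category.assoc]
        have := (KernelFork.IsLimit.lift' h (z ≫ e₁.inv) (by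
          rw [← cancel_mono e₀.hom, zero_comp, Category.assoc, Category.assoc, sb,
            e₁.inv_hom_id_assoc, hz])).2
        simp only [Fork.ofι_pt, Fork.ι_ofι] at this ⊢
        rw [this]
        simp)
      (fun z hz m hm => by
        rw [← Iso.comp_inv_eq]
        apply Fork.IsLimit.hom_ext h
        rw [(KernelFork.IsLimit.lift' h _ _).2, Category.assoc]
        change m ≫ e₂.inv ≫ a = z ≫ e₁.inv
        rw [← hm, Category.assoc]
        congr 1
        rw [Iso.inv_comp_eq, ← Category.assoc, Iso.eq_comp_inv, sa])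

end CommuteLemmas

variable {J : Type u} [SmallCategory J] {C : Type u₁} [Category.{u} C] (G : J ⥤ C) [IsFPGen G]

/-- An object of the category of morphisms of `J` over a morphism of `C`. -/
structure ArrowsOver {M N : C} (f : M ⟶ N) : Type u where
  /-- source -/
  a : J
  /-- target -/
  b : J
  /-- the morphism -/
  g : a ⟶ b
  /-- source leg -/
  qa : G.obj a ⟶ M
  /-- target leg -/
  qb : G.obj b ⟶ N
  w : G.map g ≫ qb = qa ≫ f

section Arrows

variable {G} {M N : C} {f : M ⟶ N}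

namespace ArrowsOver

/-- A morphism over `f`. -/
@[ext]
structure Hom (i j : ArrowsOver G f) : Type u where
  /-- on sources -/
  l : i.a ⟶ j.a
  /-- on targets -/
  r : i.b ⟶ j.b
  sq : l ≫ j.g = i.g ≫ r
  wl : G.map l ≫ j.qa = i.qa
  wr : G.map r ≫ j.qb = i.qb

@[simps]
instance : Category.{u} (ArrowsOver G f) where
  Hom := Hom
  id i := ⟨𝟙 _, 𝟙 _, by simp, by simp, by simp⟩
  comp φ ψ := ⟨φ.l ≫ ψ.l, φ.r ≫ ψ.r, by rw [Category.assoc, ψ.sq, reassoc_of% φ.sq],
    by rw [G.map_comp, Category.assoc, ψ.wl, φ.wl],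
    by rw [G.map_comp, Category.assoc, ψ.wr, φ.wr]⟩
  id_comp φ := Hom.ext (Category.id_comp _) (Category.id_comp _)
  comp_id φ := Hom.ext (Category.comp_id _) (Category.comp_id _)
  assoc _ _ _ := Hom.ext (Category.assoc _ _ _) (Category.assoc _ _ _)

end ArrowsOver

variable (G f) in
/-- The source projection. -/
def srcProj : ArrowsOver G f ⥤ CostructuredArrow G M where
  obj i := CostructuredArrow.mk (Y := i.a) i.qa
  map φ := CostructuredArrow.homMk φ.l φ.wl

variable (G f) in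
/-- The target projection. -/
def tgtProj : ArrowsOver G f ⥤ CostructuredArrow G N where
  obj i := CostructuredArrow.mk (Y := i.b) i.qb
  map φ := CostructuredArrow.homMk φ.r φ.wr

theorem exists_max {X : C} {a b : J} (p : G.obj a ⟶ X) (q : G.obj b ⟶ X) :
    ∃ (c : J) (r : G.obj c ⟶ X) (u : a ⟶ c) (v : b ⟶ c), G.map u ≫ r = p ∧ G.map v ≫ r = q :=
  let m := IsFiltered.max (CostructuredArrow.mk p) (CostructuredArrow.mk q)
  ⟨m.left, m.hom,
    (IsFiltered.leftToMax (CostructuredArrow.mk p) (CostructuredArrow.mk q)).left,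
    (IsFiltered.rightToMax (CostructuredArrow.mk p) (CostructuredArrow.mk q)).left,
    CostructuredArrow.w (IsFiltered.leftToMax (CostructuredArrow.mk p) (CostructuredArrow.mk q)),
    CostructuredArrow.w (IsFiltered.rightToMax (CostructuredArrow.mk p) (CostructuredArrow.mk q))⟩

theorem exists_coeq {X : C} {a b : J} (q : G.obj b ⟶ X) (u v : a ⟶ b)
    (h : G.map u ≫ q = G.map v ≫ q) :
    ∃ (c : J) (r : G.obj c ⟶ X) (π : b ⟶ c), G.map π ≫ r = q ∧ u ≫ π = v ≫ π :=
  let A : CostructuredArrow G X := CostructuredArrow.mk (G.map v ≫ q)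
  let B : CostructuredArrow G X := CostructuredArrow.mk q
  let φ : A ⟶ B := CostructuredArrow.homMk u h
  let ψ : A ⟶ B := CostructuredArrow.homMk v rfl
  ⟨_, (IsFiltered.coeq φ ψ).hom, (IsFiltered.coeqHom φ ψ).left,
    CostructuredArrow.w (IsFiltered.coeqHom φ ψ),
    congrArg CommaMorphism.left (IsFiltered.coeq_condition φ ψ)⟩

/-- Extend an object along maps of its source and of its target. -/
theorem exists_extend (i : ArrowsOver G f) {c d : J} {p : G.obj c ⟶ M} {q : G.obj d ⟶ N}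
    (x : i.a ⟶ c) (hx : G.map x ≫ p = i.qa) (y : i.b ⟶ d) (hy : G.map y ≫ q = i.qb) :
    ∃ (j : ArrowsOver G f) (φ : i ⟶ j) (x' : c ⟶ j.a) (y' : d ⟶ j.b),
      φ.l = x ≫ x' ∧ φ.r = y ≫ y' := by
  obtain ⟨e, r, u, v, hu, hv⟩ := exists_max (p ≫ f) q
  obtain ⟨e', r', π, hπ, hcoeq⟩ := exists_coeq r (x ≫ u) (i.g ≫ y ≫ v) (by
    simp only [Functor.map_comp, Category.assoc, hu, hv, hy, i.w, reassoc_of% hx])
  exact ⟨⟨c, e', u ≫ π, p, r', by rw [G.map_comp, Category.assoc, hπ, hu]⟩,
    ⟨x, y ≫ v ≫ π, by simpa using hcoeq, hx, by simp [hπ, hv, hy]⟩, 𝟙 c, v ≫ π,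
    (Category.comp_id _).symm, rfl⟩

theorem exists_over {c d : J} (p : G.obj c ⟶ M) (q : G.obj d ⟶ N) :
    ∃ (i : ArrowsOver G f) (x : c ⟶ i.a) (y : d ⟶ i.b),
      G.map x ≫ i.qa = p ∧ G.map y ≫ i.qb = q := by
  obtain ⟨e, r, u, v, hu, hv⟩ := exists_max (p ≫ f) q
  exact ⟨⟨c, e, u, p, r, hu⟩, 𝟙 c, v, by simp, hv⟩

instance isFiltered_arrowsOver : IsFiltered (ArrowsOver G f) where
  cocone_objs i j := by
    obtain ⟨S, p, si, sj, hsi, hsj⟩ := exists_max i.qa j.qa
    obtain ⟨T, q, ti, tj, hti, htj⟩ := exists_max i.qb j.qb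
    obtain ⟨m, x, y, hx, hy⟩ := exists_over (f := f) p q
    obtain ⟨T₁, q₁, π, hπ, ei⟩ := exists_coeq m.qb (si ≫ x ≫ m.g) (i.g ≫ ti ≫ y) (by
      simp only [Functor.map_comp, Category.assoc, m.w, hy, hti, i.w, reassoc_of% hx,
        reassoc_of% hsi])
    obtain ⟨T₂, q₂, ρ, hρ, ej⟩ := exists_coeq q₁ (sj ≫ x ≫ m.g ≫ π) (j.g ≫ tj ≫ y ≫ π) (by
      simp only [Functor.map_comp, Category.assoc, m.w, hy, htj, j.w, hπ, reassoc_of% hx,
        reassoc_of% hsj])
    obtain ⟨m', φ, x', y', hl, hr⟩ := exists_extend m (𝟙 m.a) (by simp) (p := m.qa) (π ≫ ρ)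
      (q := q₂) (by simp [hρ, hπ])
    have hw : φ.l ≫ m'.g = m.g ≫ π ≫ ρ ≫ y' := by rw [φ.sq, hr, Category.assoc]
    refine ⟨m', ⟨si ≫ x ≫ φ.l, ti ≫ y ≫ φ.r, ?_, by simp [φ.wl, hx, hsi], by simp [φ.wr, hy, hti]⟩,
      ⟨sj ≫ x ≫ φ.l, tj ≫ y ≫ φ.r, ?_, by simp [φ.wl, hx, hsj], by simp [φ.wr, hy, htj]⟩, trivial⟩
    · simp only [Category.assoc, hw, hr] at ei ⊢
      rw [reassoc_of% ei]
    · simp only [Category.assoc, hw, hr] at ej ⊢
      rw [reassoc_of% ej]
  cocone_maps i j φ ψ := by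
    obtain ⟨S, p, π, hπ, el⟩ := exists_coeq j.qa φ.l ψ.l (φ.wl.trans ψ.wl.symm)
    obtain ⟨T, q, ρ, hρ, er⟩ := exists_coeq j.qb φ.r ψ.r (φ.wr.trans ψ.wr.symm)
    obtain ⟨m, χ, x', y', hl, hr⟩ := exists_extend j π hπ ρ hρ
    refine ⟨m, χ, ArrowsOver.Hom.ext ?_ ?_⟩
    · change φ.l ≫ χ.l = ψ.l ≫ χ.l
      rw [hl, reassoc_of% el]
    · change φ.r ≫ χ.r = ψ.r ≫ χ.r
      rw [hr, reassoc_of% er]
  nonempty := by
    obtain ⟨i, -⟩ := exists_over (f := f) (IsFiltered.nonempty (C := CostructuredArrow G M)).some.hom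
      (IsFiltered.nonempty (C := CostructuredArrow G N)).some.hom
    exact ⟨i⟩

instance final_srcProj : (srcProj G f).Final := by
  rw [Functor.final_iff_of_isFiltered]
  refine ⟨fun S => ?_, fun {S i} s t => ?_⟩
  · obtain ⟨i, x, -, hx, -⟩ := exists_over (f := f) S.hom
      (IsFiltered.nonempty (C := CostructuredArrow G N)).some.hom
    exact ⟨i, ⟨CostructuredArrow.homMk x hx⟩⟩
  · obtain ⟨c, p, π, hπ, el⟩ := exists_coeq i.qa s.left t.left
      ((CostructuredArrow.w s).trans (CostructuredArrow.w t).symm)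
    obtain ⟨m, χ, x', y', hl, -⟩ := exists_extend i π hπ (𝟙 i.b) (q := i.qb) (by simp)
    refine ⟨m, χ, CostructuredArrow.hom_ext _ _ ?_⟩
    change s.left ≫ χ.l = t.left ≫ χ.l
    exact hl ▸ (Category.assoc _ _ _).symm.trans
      ((congrArg (fun z => z ≫ x') el).trans (Category.assoc _ _ _))

instance final_tgtProj : (tgtProj G f).Final := by
  rw [Functor.final_iff_of_isFiltered]
  refine ⟨fun T => ?_, fun {T i} s t => ?_⟩
  · obtain ⟨i, -, y, -, hy⟩ := exists_over (f := f)
      (IsFiltered.nonempty (C := CostructuredArrow G M)).some.hom T.hom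
    exact ⟨i, ⟨CostructuredArrow.homMk y hy⟩⟩
  · obtain ⟨c, q, ρ, hρ, er⟩ := exists_coeq i.qb s.left t.left
      ((CostructuredArrow.w s).trans (CostructuredArrow.w t).symm)
    obtain ⟨m, χ, x', y', -, hr⟩ := exists_extend i (𝟙 i.a) (p := i.qa) (by simp) ρ hρ
    refine ⟨m, χ, CostructuredArrow.hom_ext _ _ ?_⟩
    change s.left ≫ χ.r = t.left ≫ χ.r
    exact hr ▸ (Category.assoc _ _ _).symm.trans
      ((congrArg (fun z => z ≫ y') er).trans (Category.assoc _ _ _))

variable (G f) in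
/-- The source as a colimit. -/
def srcCocone : Cocone ((srcProj G f ⋙ CostructuredArrow.proj G M) ⋙ G) :=
  Cocone.whisker (srcProj G f) (canonCocone G M)

variable (G f) in
/-- The target as a colimit. -/
def tgtCocone : Cocone ((tgtProj G f ⋙ CostructuredArrow.proj G N) ⋙ G) :=
  Cocone.whisker (tgtProj G f) (canonCocone G N)

variable (G f) in
/-- The universal morphism of `J` over `f`. -/
def arrowHom : srcProj G f ⋙ CostructuredArrow.proj G M ⟶ tgtProj G f ⋙ CostructuredArrow.proj G N where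
  app i := i.g
  naturality _ _ φ := φ.sq

variable {B : Type u₂} [Category.{v₂} B]

/-- The source is a colimit after any functor preserving filtered colimits. -/
noncomputable def isColimitMapSrc (F' : C ⥤ B) [PreservesFilteredColimitsOfSize.{u, u} F'] :
    IsColimit (F'.mapCocone (srcCocone G f)) :=
  (Functor.Final.isColimitWhiskerEquiv (srcProj G f) _).symm (isColimitMapCanonical G F' M)

/-- The target is a colimit after any functor preserving filtered colimits. -/
noncomputable def isColimitMapTgt (F' : C ⥤ B) [PreservesFilteredColimitsOfSize.{u, u} F'] :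
    IsColimit (F'.mapCocone (tgtCocone G f)) :=
  (Functor.Final.isColimitWhiskerEquiv (tgtProj G f) _).symm (isColimitMapCanonical G F' N)

end Arrows

/-- Remove an identity functor from a colimit cocone. -/
def isColimitOfIsColimitMapCoconeId {I : Type u} [SmallCategory I] {D : I ⥤ C} (c : Cocone D)
    (h : IsColimit ((𝟭 C).mapCocone c)) : IsColimit c :=
  ⟨fun s => h.desc ⟨s.pt, { app := s.ι.app, naturality := s.ι.naturality }⟩,
    fun s j => h.fac ⟨s.pt, { app := s.ι.app, naturality := s.ι.naturality }⟩ j,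
    fun s m hm => h.uniq ⟨s.pt, { app := s.ι.app, naturality := s.ι.naturality }⟩ m hm⟩

variable [Preadditive J] [Preadditive C] [G.Additive] [HasFilteredColimitsOfSize.{u, u} C]
  {B : Type u₂} [Category.{v₂} B] [Preadditive B]
  (F' : C ⥤ B) [PreservesFilteredColimitsOfSize.{u, u} F'] [F'.Additive]

theorem preservesCokernels_of_restrict [HasCokernels J]
    [∀ {a b : J} (g : a ⟶ b), PreservesColimit (parallelPair g 0) G]
    [∀ {a b : J} (g : a ⟶ b), PreservesColimit (parallelPair g 0) (G ⋙ F')]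
    {M N : C} (f : M ⟶ N) : PreservesColimit (parallelPair f 0) F' := by
  let I := ArrowsOver G f
  let D₁ : I ⥤ J := srcProj G f ⋙ CostructuredArrow.proj G M
  let D₀ : I ⥤ J := tgtProj G f ⋙ CostructuredArrow.proj G N
  let γ : D₁ ⟶ D₀ := arrowHom G f
  let Qf : I ⥤ J :=
    { obj := fun i => cokernel (γ.app i)
      map := fun {i j} φ => cokernel.map _ _ (D₁.map φ) (D₀.map φ) (γ.naturality φ).symm
      map_id := fun i => by ext; simp
      map_comp := fun φ ψ => by ext; simp }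
  let π : D₀ ⟶ Qf :=
    { app := fun i => cokernel.π (γ.app i)
      naturality := fun i j φ => by simp [Qf] }
  haveI : HasColimitsOfShape I C := HasFilteredColimitsOfSize.HasColimitsOfShape _
  let cQ := colimit.cocone (Qf ⋙ G)
  have hcok : ∀ i : I, IsColimit
      ((CokernelCofork.ofπ (π.app i) (cokernel.condition (γ.app i))).map G) :=
    fun i => CokernelCofork.mapIsColimit _ (cokernelIsCokernel (γ.app i)) G
  have hcok' : ∀ i : I, IsColimit
      ((CokernelCofork.ofπ (π.app i) (cokernel.condition (γ.app i))).map (G ⋙ F')) :=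
    fun i => CokernelCofork.mapIsColimit _ (cokernelIsCokernel (γ.app i)) (G ⋙ F')
  let h₁ : IsColimit (srcCocone G f) :=
    isColimitOfIsColimitMapCoconeId _ (isColimitMapSrc (G := G) (f := f) (𝟭 C))
  let h₀ : IsColimit (tgtCocone G f) :=
    isColimitOfIsColimitMapCoconeId _ (isColimitMapTgt (G := G) (f := f) (𝟭 C))
  let pc : Cocone (D₀ ⋙ G) := (Cocone.precompose (Functor.whiskerRight π G)).obj cQ
  let p : N ⟶ cQ.pt := h₀.desc pc
  have hf : ∀ i : I, (srcCocone G f).ι.app i ≫ f = G.map (γ.app i) ≫ (tgtCocone G f).ι.app i :=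
    fun i => i.w.symm
  have hp : ∀ i : I, (tgtCocone G f).ι.app i ≫ p = G.map (π.app i) ≫ cQ.ι.app i := fun i =>
    h₀.fac pc i
  have hfp : f ≫ p = 0 := h₁.hom_ext fun i => by
    have e : G.map (γ.app i) ≫ G.map (π.app i) = 0 := by
      rw [← G.map_comp, cokernel.condition, G.map_zero]
    calc (srcCocone G f).ι.app i ≫ f ≫ p
        = ((srcCocone G f).ι.app i ≫ f) ≫ p := (Category.assoc _ _ _).symm
      _ = G.map (γ.app i) ≫ ((tgtCocone G f).ι.app i ≫ p) := by rw [hf i]; exact Category.assoc _ _ _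
      _ = (G.map (γ.app i) ≫ G.map (π.app i)) ≫ cQ.ι.app i := by rw [hp i]; exact (Category.assoc _ _ _).symm
      _ = 0 := by rw [e]; exact zero_comp
      _ = (srcCocone G f).ι.app i ≫ 0 := comp_zero.symm
  have hC := isCokernelOfColimit (Functor.whiskerRight γ G) (Functor.whiskerRight π G)
    (fun i => by
      change G.map (γ.app i) ≫ G.map (π.app i) = 0
      rw [← G.map_comp, cokernel.condition, G.map_zero])
    (fun i => hcok i) h₁ h₀ (colimit.isColimit _) f p hf hp hfp
  refine preservesColimit_of_preserves_colimit_cocone hC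
    ((CokernelCofork.isColimitMapCoconeEquiv _ F').symm ?_)
  refine isCokernelOfColimit (Functor.whiskerRight γ (G ⋙ F')) (Functor.whiskerRight π (G ⋙ F'))
    (fun i => by
      change F'.map (G.map (γ.app i)) ≫ F'.map (G.map (π.app i)) = 0
      rw [← F'.map_comp, ← G.map_comp, cokernel.condition, G.map_zero, F'.map_zero])
    (fun i => hcok' i) (isColimitMapSrc F') (isColimitMapTgt F')
    (isColimitOfPreserves F' (colimit.isColimit (Qf ⋙ G))) (F'.map f) (F'.map p)
    (fun i => ?_) (fun i => ?_) ((F'.map_comp f p).symm.trans ((congrArg F'.map hfp).trans (F'.map_zero _ _)))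
  · exact (F'.map_comp _ _).symm.trans ((congrArg F'.map (hf i)).trans (F'.map_comp _ _))
  · exact (F'.map_comp _ _).symm.trans ((congrArg F'.map (hp i)).trans (F'.map_comp _ _))
theorem preservesKernels_of_restrict [HasKernels J]
    [∀ {a b : J} (g : a ⟶ b), PreservesLimit (parallelPair g 0) G]
    [∀ {a b : J} (g : a ⟶ b), PreservesLimit (parallelPair g 0) (G ⋙ F')]
    [AB5OfSize.{u, u} C] [HasFilteredColimitsOfSize.{u, u} B]
    (hB : ∀ (I : Type u) [SmallCategory I] [IsFiltered I],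
      PreservesLimitsOfShape WalkingParallelPair (colim : (I ⥤ B) ⥤ B))
    {M N : C} (f : M ⟶ N) : PreservesLimit (parallelPair f 0) F' := by
  let I := ArrowsOver G f
  let D₁ : I ⥤ J := srcProj G f ⋙ CostructuredArrow.proj G M
  let D₀ : I ⥤ J := tgtProj G f ⋙ CostructuredArrow.proj G N
  let γ : D₁ ⟶ D₀ := arrowHom G f
  let Kf : I ⥤ J :=
    { obj := fun i => kernel (γ.app i)
      map := fun {i j} φ => kernel.map _ _ (D₁.map φ) (D₀.map φ) (γ.naturality φ).symm
      map_id := fun i => by ext; simp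
      map_comp := fun φ ψ => by ext; simp }
  let κ : Kf ⟶ D₁ :=
    { app := fun i => kernel.ι (γ.app i)
      naturality := fun i j φ => by simp [Kf] }
  have hw : κ ≫ γ = 0 := by
    ext i
    exact kernel.condition (γ.app i)
  haveI : HasColimitsOfShape I C := HasFilteredColimitsOfSize.HasColimitsOfShape _
  haveI : HasColimitsOfShape I B := HasFilteredColimitsOfSize.HasColimitsOfShape _
  haveI : HasExactColimitsOfShape I C := AB5OfSize.ofShape _
  haveI := hB I
  let cK := colimit.cocone (Kf ⋙ G)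
  have hker : ∀ i : I, IsLimit
      ((KernelFork.ofι (κ.app i) (kernel.condition (γ.app i))).map G) :=
    fun i => KernelFork.mapIsLimit _ (kernelIsKernel (γ.app i)) G
  have hker' : ∀ i : I, IsLimit
      ((KernelFork.ofι (κ.app i) (kernel.condition (γ.app i))).map (G ⋙ F')) :=
    fun i => KernelFork.mapIsLimit _ (kernelIsKernel (γ.app i)) (G ⋙ F')
  let h₁ : IsColimit (srcCocone G f) := isColimitOfIsColimitMapCoconeId
    _ (isColimitMapSrc (G := G) (f := f) (𝟭 C))
  let h₀ : IsColimit (tgtCocone G f) := isColimitOfIsColimitMapCoconeId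
    _ (isColimitMapTgt (G := G) (f := f) (𝟭 C))
  let kc : Cocone (Kf ⋙ G) :=
    (Cocone.precompose (Functor.whiskerRight κ G)).obj (srcCocone G f)
  let k : cK.pt ⟶ M := colimit.desc _ kc
  have hf : ∀ i : I, (srcCocone G f).ι.app i ≫ f = G.map (γ.app i) ≫ (tgtCocone G f).ι.app i :=
    fun i => i.w.symm
  have hk : ∀ i : I, cK.ι.app i ≫ k = G.map (κ.app i) ≫ (srcCocone G f).ι.app i := fun i =>
    colimit.ι_desc kc i
  have hkf : k ≫ f = 0 := colimit.hom_ext fun i => by
    have e : G.map (κ.app i) ≫ G.map (γ.app i) = 0 := by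
      rw [← G.map_comp, kernel.condition, G.map_zero]
    calc colimit.ι (Kf ⋙ G) i ≫ k ≫ f
        = (cK.ι.app i ≫ k) ≫ f := (Category.assoc _ _ _).symm
      _ = G.map (κ.app i) ≫ ((srcCocone G f).ι.app i ≫ f) := by rw [hk i]; exact Category.assoc _ _ _
      _ = (G.map (κ.app i) ≫ G.map (γ.app i)) ≫ (tgtCocone G f).ι.app i := by
          rw [hf i]; exact (Category.assoc _ _ _).symm
      _ = 0 := by rw [e]; exact zero_comp
      _ = colimit.ι (Kf ⋙ G) i ≫ 0 := comp_zero.symm
  obtain ⟨hC⟩ := isKernelOfColimit (Functor.whiskerRight κ G) (Functor.whiskerRight γ G)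
    (by ext i; exact (G.map_comp _ _).symm.trans ((congrArg G.map (kernel.condition _)).trans
      (G.map_zero _ _)))
    (fun i => hker i) (colimit.isColimit _) h₁ h₀ f k hf hk hkf
  obtain ⟨hB⟩ := isKernelOfColimit (Functor.whiskerRight κ (G ⋙ F'))
    (Functor.whiskerRight γ (G ⋙ F'))
    (by rw [← Functor.whiskerRight_comp, hw]; ext i; exact (G ⋙ F').map_zero _ _)
    (fun i => hker' i) (isColimitOfPreserves F' (colimit.isColimit (Kf ⋙ G))) (isColimitMapSrc F')
    (isColimitMapTgt F') (F'.map f) (F'.map k)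
    (fun i => (F'.map_comp _ _).symm.trans ((congrArg F'.map (hf i)).trans (F'.map_comp _ _)))
    (fun i => (F'.map_comp _ _).symm.trans ((congrArg F'.map (hk i)).trans (F'.map_comp _ _)))
    ((F'.map_comp k f).symm.trans ((congrArg F'.map hkf).trans (F'.map_zero _ _)))
  exact preservesLimit_of_preserves_limit_cone hC
    ((KernelFork.isLimitMapConeEquiv _ F').symm hB)

theorem preservesFiniteColimits_of_restrict [HasCokernels J] [HasFiniteCoproducts C]
    [HasCoequalizers C] [HasZeroObject C] [HasZeroObject B] [HasBinaryBiproducts C]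
    [∀ {a b : J} (g : a ⟶ b), PreservesColimit (parallelPair g 0) G]
    [∀ {a b : J} (g : a ⟶ b), PreservesColimit (parallelPair g 0) (G ⋙ F')] :
    PreservesFiniteColimits F' := by
  haveI : ∀ {X Y : C} (f : X ⟶ Y), PreservesColimit (parallelPair f 0) F' :=
    fun f => preservesCokernels_of_restrict G F' f
  exact Functor.preservesFiniteColimits_of_preservesCokernels F'

theorem preservesFiniteLimits_of_restrict [HasKernels J] [HasFiniteProducts C]
    [HasEqualizers C] [HasZeroObject C] [HasZeroObject B] [HasBinaryBiproducts C]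
    [∀ {a b : J} (g : a ⟶ b), PreservesLimit (parallelPair g 0) G]
    [∀ {a b : J} (g : a ⟶ b), PreservesLimit (parallelPair g 0) (G ⋙ F')]
    [AB5OfSize.{u, u} C] [HasFilteredColimitsOfSize.{u, u} B]
    (hB : ∀ (I : Type u) [SmallCategory I] [IsFiltered I],
      PreservesLimitsOfShape WalkingParallelPair (colim : (I ⥤ B) ⥤ B)) :
    PreservesFiniteLimits F' := by
  haveI : ∀ {X Y : C} (f : X ⟶ Y), PreservesLimit (parallelPair f 0) F' :=
    fun f => preservesKernels_of_restrict G F' hB f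
  exact Functor.preservesFiniteLimits_of_preservesKernels F'

end Groth.Agent.RPSM
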