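import Groth.Agent.RPSM.FPModStruct

/-!
# Right exact functors on finitely presented modules are determined by their value at the ring
-/

universe u v' u'

open CategoryTheory CategoryTheory.Limits

namespace Groth.Agent.RPSM

variable {A : Type u} [CommRing A] {B : Type u'} [Category.{v'} B] [Preadditive B] {K : B}

/-- Morphisms out of `K`, as a module through `κ`. -/
def KHom (_κ : A →+* End K) (Z : B) : Type v' := K ⟶ Z

namespace KHom

variable (κ : A →+* End K) (Z : B)

/-- As a morphism. -/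
def toHom {κ : A →+* End K} {Z : B} (f : KHom κ Z) : K ⟶ Z := f

/-- From a morphism. -/
def ofHom {κ : A →+* End K} {Z : B} (f : K ⟶ Z) : KHom κ Z := f

instance : AddCommGroup (KHom κ Z) := inferInstanceAs (AddCommGroup (K ⟶ Z))

instance : Module A (KHom κ Z) where
  smul a f := ofHom (κ a ≫ f.toHom)
  one_smul f := by change κ 1 ≫ f.toHom = f.toHom; rw [map_one]; exact Category.id_comp _
  mul_smul a b f := by
    change κ (a * b) ≫ f.toHom = κ a ≫ κ b ≫ f.toHom
    rw [mul_comm, map_mul, ← Category.assoc]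
    rfl
  smul_zero a := comp_zero
  smul_add a _ _ := Preadditive.comp_add _ _ _ _ _ _
  add_smul a b f := by
    change κ (a + b) ≫ f.toHom = κ a ≫ f.toHom + κ b ≫ f.toHom
    rw [map_add]
    exact Preadditive.add_comp _ _ _ _ _ _
  zero_smul f := by change κ 0 ≫ f.toHom = 0; rw [map_zero]; exact zero_comp

variable {κ Z}

theorem smul_toHom (a : A) (f : KHom κ Z) : (a • f).toHom = κ a ≫ f.toHom := rfl

theorem sum_toHom {ι : Type*} (s : Finset ι) (f : ι → KHom κ Z) :
    (∑ i ∈ s, f i).toHom = ∑ i ∈ s, (f i).toHom := rfl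

/-- Composition with a morphism. -/
def post (κ : A →+* End K) {Z Z' : B} (z : Z ⟶ Z') : KHom κ Z →ₗ[A] KHom κ Z' where
  toFun f := ofHom (f.toHom ≫ z)
  map_add' _ _ := Preadditive.add_comp _ _ _ _ _ _
  map_smul' _ _ := Category.assoc _ _ _

end KHom

variable (κ : A →+* End K)

/-- `η` exhibits `Q` as the universal object with an `A`-linear map from `M` to `K ⟶ Q`. -/
def IsUniv (M : ModuleCat.{u} A) {Q : B} (η : M →ₗ[A] KHom κ Q) : Prop :=
  ∀ (Z : B) (φ : M →ₗ[A] KHom κ Z), ∃! z : Q ⟶ Z, ∀ m, (η m).toHom ≫ z = (φ m).toHom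

theorem IsUniv.hom_ext {M : ModuleCat.{u} A} {Q : B} {η : M →ₗ[A] KHom κ Q} (h : IsUniv κ M η)
    {Z : B} {z z' : Q ⟶ Z} (e : ∀ m, (η m).toHom ≫ z = (η m).toHom ≫ z') : z = z' :=
  (h Z ((KHom.post κ z').comp η)).unique e (fun _ => rfl)

theorem exists_univ [HasFiniteBiproducts B] [HasCokernels B] (M : ModuleCat.{u} A)
    [Module.FinitePresentation A M] :
    ∃ (Q : B) (η : M →ₗ[A] KHom κ Q), IsUniv κ M η := by
  classical
  obtain ⟨n, m, f, g, hf, hfg⟩ := Module.FinitePresentation.exists_fin' A M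
  let r : Fin m → Fin n → A := fun k => g (Pi.single k 1)
  let d : (⨁ fun _ : Fin m => K) ⟶ (⨁ fun _ : Fin n => K) :=
    biproduct.desc fun k => ∑ l, κ (r k l) ≫ biproduct.ι (fun _ : Fin n => K) l
  let Q := cokernel d
  let η' : (Fin n → A) →ₗ[A] KHom κ Q := (Pi.basisFun A (Fin n)).constr A fun l =>
    KHom.ofHom (biproduct.ι (fun _ : Fin n => K) l ≫ cokernel.π d)
  have hη' : ∀ x, (η' x).toHom = ∑ l, κ (x l) ≫ biproduct.ι (fun _ : Fin n => K) l ≫ cokernel.π d := by
    intro x
    simp only [η', Module.Basis.constr_apply_fintype, Pi.basisFun_equivFun, LinearEquiv.refl_apply]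
    rfl
  have hker : LinearMap.ker f ≤ LinearMap.ker η' := by
    rw [LinearMap.exact_iff.mp hfg]
    have : η'.comp g = 0 := (Pi.basisFun A (Fin m)).ext fun k => by
      change (η' (g ((Pi.basisFun A (Fin m)) k))).toHom = 0
      rw [Pi.basisFun_apply, hη']
      have h := biproduct.ι (fun _ : Fin m => K) k ≫= cokernel.condition d
      rw [comp_zero, ← Category.assoc, biproduct.ι_desc, Preadditive.sum_comp] at h
      simpa only [Category.assoc] using h
    rintro _ ⟨x, rfl⟩
    exact LinearMap.congr_fun this x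
  let η : M →ₗ[A] KHom κ Q :=
    (LinearMap.ker f).liftQ η' hker ∘ₗ (f.quotKerEquivOfSurjective hf).symm.toLinearMap
  have hη : ∀ x, η (f x) = η' x := fun x => by
    have : (f.quotKerEquivOfSurjective hf).symm (f x) = Submodule.Quotient.mk x :=
      (LinearEquiv.symm_apply_eq _).2 rfl
    simp [η, this]
  refine ⟨Q, η, fun Z φ => ?_⟩
  let z' : (⨁ fun _ : Fin n => K) ⟶ Z := biproduct.desc fun l => (φ (f (Pi.single l 1))).toHom
  have hφ : ∀ x, (φ (f x)).toHom = ∑ l, κ (x l) ≫ (φ (f (Pi.single l 1))).toHom := by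
    intro x
    conv_lhs => rw [pi_eq_sum_univ' x, map_sum, map_sum]
    simp only [map_smul]
    rfl
  have hd : d ≫ z' = 0 := biproduct.hom_ext' _ _ fun k => by
    have h0 : φ (f (r k)) = 0 := by
      rw [(LinearMap.exact_iff.mp hfg).symm.le (LinearMap.mem_range_self g (Pi.single k 1)), map_zero]
    rw [comp_zero, biproduct.ι_desc_assoc, Preadditive.sum_comp]
    refine Eq.trans ?_ ((hφ (r k)).symm.trans (congrArg KHom.toHom h0))
    refine Finset.sum_congr rfl fun l _ => ?_
    rw [Category.assoc, biproduct.ι_desc]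
  refine ⟨cokernel.desc d z' hd, fun y => ?_, fun z hz => ?_⟩
  · obtain ⟨x, rfl⟩ := hf y
    rw [hη, hη', Preadditive.sum_comp, hφ]
    refine Finset.sum_congr rfl fun l _ => ?_
    rw [Category.assoc, Category.assoc, cokernel.π_desc, biproduct.ι_desc]
  · refine coequalizer.hom_ext (biproduct.hom_ext' _ _ fun l => ?_)
    rw [cokernel.π_desc, biproduct.ι_desc, ← hz, hη, hη', Finset.sum_eq_single l]
    · rw [Pi.single_eq_same, map_one]
      exact ((Category.id_comp _).symm.trans (congrArg (𝟙 K ≫ ·) (Category.assoc _ _ _).symm)).trans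
        (Category.assoc _ _ _).symm
    · intro b _ hb
      rw [Pi.single_eq_of_ne hb, map_zero]
      exact zero_comp
    · simp

end Groth.Agent.RPSM
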