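import Groth.Agent.RPSM.FPValue

/-!
# The equivalence between right exact functors on finitely presented modules and their values
-/

universe u v' u'

open CategoryTheory CategoryTheory.Limits

namespace Groth.Agent.RPSM

variable (A : Type u) [CommRing A]

/-- The category of finitely presented modules. -/
abbrev FPC : Type (u + 1) := (fpProp A).FullSubcategory

/-- The ring as a finitely presented module. -/
abbrev fpA : FPC A := ⟨ModuleCat.of A A, inferInstance⟩

/-- Multiplication by an element. -/
abbrev mulHom {A : Type u} [CommRing A] (a : A) : fpA A ⟶ fpA A :=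
  ObjectProperty.homMk (ModuleCat.ofHom (LinearMap.lsmul A A a))

/-- The morphism given by an element. -/
abbrev spanHom {A : Type u} [CommRing A] (M : FPC A) (m : M.obj) : fpA A ⟶ M :=
  ObjectProperty.homMk (ModuleCat.ofHom (LinearMap.toSpanSingleton A M.obj m))

theorem fpA_hom_ext {A : Type u} [CommRing A] {M : FPC A} {f g : fpA A ⟶ M}
    (h : f.hom.hom (1 : A) = g.hom.hom (1 : A)) : f = g := by
  apply ObjectProperty.hom_ext
  apply ModuleCat.hom_ext
  exact LinearMap.ext_ring h

instance hasZeroObject_FPJ : HasZeroObject (FPJ A) := by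
  obtain ⟨i, ⟨e⟩⟩ := exists_idx A (ModuleCat.of A PUnit.{u + 1})
  have hz : IsZero ((fpG A).obj i) := (ModuleCat.isZero_of_subsingleton _).of_iso e
  exact ⟨i, ⟨fun Y => ⟨⟨⟨InducedCategory.homMk 0⟩,
      fun f => InducedCategory.hom_ext (hz.eq_of_src _ _)⟩⟩,
    fun Y => ⟨⟨⟨InducedCategory.homMk 0⟩, fun f => InducedCategory.hom_ext (hz.eq_of_tgt _ _)⟩⟩⟩⟩

variable {A} {B : Type u'} [Category.{v'} B] [Preadditive B]

section Construction

variable [HasFiniteBiproducts B] [HasCokernels B] {K : B} (κ : A →+* End K)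

/-- The value at a module of the functor with value `K` at the ring. -/
noncomputable def extQ (M : FPC A) : B :=
  haveI : Module.FinitePresentation A M.obj := M.property
  (exists_univ κ M.obj).choose

/-- The universal map. -/
noncomputable def extη (M : FPC A) : M.obj →ₗ[A] KHom κ (extQ κ M) :=
  haveI : Module.FinitePresentation A M.obj := M.property
  (exists_univ κ M.obj).choose_spec.choose

theorem extη_univ (M : FPC A) : IsUniv κ M.obj (extη κ M) :=
  haveI : Module.FinitePresentation A M.obj := M.property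
  (exists_univ κ M.obj).choose_spec.choose_spec

/-- The action on morphisms. -/
noncomputable def extMap {M N : FPC A} (f : M ⟶ N) : extQ κ M ⟶ extQ κ N :=
  (extη_univ κ M _ ((extη κ N).comp f.hom.hom)).choose

theorem extη_map {M N : FPC A} (f : M ⟶ N) (m : M.obj) :
    (extη κ M m).toHom ≫ extMap κ f = (extη κ N (f.hom.hom m)).toHom :=
  (extη_univ κ M _ ((extη κ N).comp f.hom.hom)).choose_spec.1 m

/-- The functor on finitely presented modules with value `K` at the ring. -/
noncomputable def extFun : FPC A ⥤ B where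
  obj := extQ κ
  map f := extMap κ f
  map_id M := (extη_univ κ M).hom_ext κ fun m => (extη_map κ _ m).trans (Category.comp_id _).symm
  map_comp {M N P} f g := (extη_univ κ M).hom_ext κ fun m => by
    rw [extη_map, ← Category.assoc, extη_map, extη_map]
    rfl

instance : (extFun κ).Additive where
  map_add {M N f g} := (extη_univ κ M).hom_ext κ fun m => by
    change _ ≫ extMap κ (f + g) = _ ≫ (extMap κ f + extMap κ g)
    rw [Preadditive.comp_add, extη_map, extη_map, extη_map]
    exact congrArg KHom.toHom ((extη κ N).map_add (f.hom.hom m) (g.hom.hom m))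

theorem preservesCokernel_extFun {a b : FPJ A} (g : a ⟶ b) :
    PreservesColimit (parallelPair g 0) (fpLift A ⋙ extFun κ) := by
  haveI : Module.FinitePresentation A
      (ModuleCat.of A ((fpG A).obj b ⧸ LinearMap.range g.hom.hom)) :=
    fp_quot A _ (Module.Finite.iff_fg.1 (Module.Finite.range g.hom.hom))
  obtain ⟨i, ⟨e⟩⟩ := exists_idx A (ModuleCat.of A ((fpG A).obj b ⧸ LinearMap.range g.hom.hom))
  let q : b ⟶ i := InducedCategory.homMk (ModuleCat.ofHom (LinearMap.range g.hom.hom).mkQ ≫ e.inv)
  have w : g ≫ q = 0 := by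
    ext1
    exact (Category.assoc _ _ _).symm.trans
      ((congrArg (· ≫ e.inv) (ModuleCat.cokernelCocone g.hom).condition).trans zero_comp)
  have hc : IsColimit ((CokernelCofork.ofπ q w).map (fpG A)) :=
    IsColimit.ofIsoColimit (ModuleCat.cokernelIsColimit g.hom) (Cofork.ext e.symm rfl)
  have hJ : IsColimit (CokernelCofork.ofπ q w) :=
    isColimitOfReflects (fpG A) ((CokernelCofork.isColimitMapCoconeEquiv _ _).symm hc)
  refine preservesColimit_of_preserves_colimit_cocone hJ
    ((CokernelCofork.isColimitMapCoconeEquiv _ _).symm ?_)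
  have hq : Function.Surjective q.hom.hom := by
    intro y
    obtain ⟨x, hx⟩ := (LinearMap.range g.hom.hom).mkQ_surjective (e.hom.hom y)
    refine ⟨x, ?_⟩
    change e.inv.hom ((LinearMap.range g.hom.hom).mkQ x) = y
    rw [hx]
    exact congrArg (fun t => t.hom y) e.hom_inv_id
  have hker : LinearMap.ker q.hom.hom ≤ LinearMap.range g.hom.hom := by
    intro x hx
    have : e.hom.hom (e.inv.hom ((LinearMap.range g.hom.hom).mkQ x)) =
        (LinearMap.range g.hom.hom).mkQ x := by
      have h := congrArg (fun t => t.hom ((LinearMap.range g.hom.hom).mkQ x)) e.inv_hom_id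
      exact h
    change e.inv.hom ((LinearMap.range g.hom.hom).mkQ x) = 0 at hx
    rw [hx, map_zero] at this
    exact (Submodule.Quotient.mk_eq_zero _).1 this.symm
  let L := fpLift A
  have huniq : ∀ {Z : B} (z z' : extQ κ (L.obj i) ⟶ Z),
      extMap κ (L.map q) ≫ z = extMap κ (L.map q) ≫ z' → z = z' := fun {Z} z z' h =>
    (extη_univ κ (L.obj i)).hom_ext κ fun y => by
      obtain ⟨x, rfl⟩ := hq y
      have := congrArg ((extη κ (L.obj b) x).toHom ≫ ·) h
      rw [← Category.assoc, ← Category.assoc, extη_map] at this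
      exact this
  have hex : ∀ {Z : B} (z : extQ κ (L.obj b) ⟶ Z), extMap κ (L.map g) ≫ z = 0 →
      ∃ z' : extQ κ (L.obj i) ⟶ Z, extMap κ (L.map q) ≫ z' = z := by
    intro Z z hz
    let φ : (L.obj b).obj →ₗ[A] KHom κ Z := (KHom.post κ z).comp (extη κ (L.obj b))
    have hφ : LinearMap.ker q.hom.hom ≤ LinearMap.ker φ := by
      refine hker.trans ?_
      rintro _ ⟨x, rfl⟩
      change (extη κ (L.obj b) ((L.map g).hom.hom x)).toHom ≫ z = 0
      rw [← extη_map, Category.assoc, hz, comp_zero]
    let φ' : (L.obj i).obj →ₗ[A] KHom κ Z :=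
      (LinearMap.ker q.hom.hom).liftQ φ hφ ∘ₗ
        (q.hom.hom.quotKerEquivOfSurjective hq).symm.toLinearMap
    obtain ⟨z', hz', -⟩ := extη_univ κ (L.obj i) Z φ'
    refine ⟨z', (extη_univ κ (L.obj b)).hom_ext κ fun x => ?_⟩
    rw [← Category.assoc, extη_map, hz']
    have : (q.hom.hom.quotKerEquivOfSurjective hq).symm (q.hom.hom x) = Submodule.Quotient.mk x :=
      (LinearEquiv.symm_apply_eq _).2 rfl
    change ((LinearMap.ker q.hom.hom).liftQ φ hφ
      ((q.hom.hom.quotKerEquivOfSurjective hq).symm (q.hom.hom x))).toHom = _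
    rw [this]
    rfl
  choose d hd using @hex
  exact CokernelCofork.IsColimit.ofπ _ ((CokernelCofork.ofπ q w).map (fpLift A ⋙ extFun κ)).condition
    (fun z hz => d z hz) (fun z hz => hd z hz)
    (fun z hz m hm => huniq _ _ (hm.trans (hd z hz).symm))

theorem preservesFiniteColimits_extFun : PreservesFiniteColimits (extFun κ) := by
  haveI : HasFiniteProducts (FPJ A) := hasFiniteProducts_of_has_binary_and_terminal
  haveI : HasFiniteCoproducts (FPJ A) := hasFiniteCoproducts_of_has_binary_and_initial
  haveI : HasCoequalizers (FPJ A) := Preadditive.hasCoequalizers_of_hasCokernels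
  haveI : HasZeroObject B := hasZeroObject_of_hasTerminal_object
  haveI : ∀ {a b : FPJ A} (g : a ⟶ b),
      PreservesColimit (parallelPair g 0) (fpLift A ⋙ extFun κ) := preservesCokernel_extFun κ
  haveI : PreservesFiniteColimits (fpLift A ⋙ extFun κ) :=
    Functor.preservesFiniteColimits_of_preservesCokernels _
  let e := (fpLift A).asEquivalence
  haveI : PreservesFiniteColimits (e.inverse ⋙ e.functor ⋙ extFun κ) :=
    comp_preservesFiniteColimits e.inverse (fpLift A ⋙ extFun κ)
  exact preservesFiniteColimits_of_natIso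
    ((Functor.associator _ _ _).symm ≪≫ Functor.isoWhiskerRight e.counitIso _ ≪≫
      (extFun κ).leftUnitor)

theorem exists_value_iso :
    ∃ e : (extFun κ).obj (fpA A) ≅ K, ∀ a : A, (extFun κ).map (mulHom a) ≫ e.hom = e.hom ≫ κ a := by
  obtain ⟨z, hz, -⟩ := extη_univ κ (fpA A) K
    (LinearMap.toSpanSingleton A (KHom κ K) (KHom.ofHom (𝟙 K)))
  have hz' : ∀ b : A, (extη κ (fpA A) b).toHom ≫ z = κ b := fun b =>
    (hz b).trans (Category.comp_id (κ b : K ⟶ K))
  have h1 : (extη κ (fpA A) (1 : A)).toHom ≫ z = 𝟙 K := (hz' 1).trans (map_one κ)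
  refine ⟨⟨z, (extη κ (fpA A) (1 : A)).toHom, (extη_univ κ (fpA A)).hom_ext κ fun (b : A) => ?_,
    h1⟩, fun a => (extη_univ κ (fpA A)).hom_ext κ fun (b : A) => ?_⟩
  · refine (Category.assoc _ _ _).symm.trans ?_
    refine (congrArg (· ≫ (extη κ (fpA A) (1 : A)).toHom) (hz' b)).trans ?_
    refine Eq.trans ?_ (Category.comp_id _).symm
    refine (KHom.smul_toHom b _).symm.trans ?_
    exact congrArg KHom.toHom (((extη κ (fpA A)).map_smul b (1 : A)).symm.trans
      (congrArg (extη κ (fpA A)) (mul_one b)))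
  · change (extη κ (fpA A) b).toHom ≫ extMap κ (mulHom a) ≫ z = _ ≫ z ≫ κ a
    rw [← Category.assoc, extη_map, ← Category.assoc, hz' b]
    refine (hz' (a * b)).trans ?_
    rw [map_mul]
    rfl

end Construction

section RightExact

variable (F : FPC A ⥤ B) [F.Additive]

/-- The action of the ring on the value at the ring. -/
def valHom : A →+* End (F.obj (fpA A)) where
  toFun a := F.map (mulHom a)
  map_one' := (congrArg F.map (fpA_hom_ext (one_mul (1 : A)) : mulHom (1 : A) = 𝟙 _)).trans
    (F.map_id _)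
  map_mul' a b := (congrArg F.map (fpA_hom_ext (mul_assoc a b 1) :
    mulHom (a * b) = mulHom b ≫ mulHom a)).trans (F.map_comp _ _)
  map_zero' := (congrArg F.map (fpA_hom_ext (zero_mul (1 : A)) : mulHom (0 : A) = 0)).trans
    (F.map_zero _ _)
  map_add' a b := (congrArg F.map (fpA_hom_ext (add_mul a b 1) :
    mulHom (a + b) = mulHom a + mulHom b)).trans F.map_add

/-- The canonical map of `M` to morphisms out of the value at the ring. -/
def valη (M : FPC A) : M.obj →ₗ[A] KHom (valHom F) (F.obj M) where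
  toFun m := KHom.ofHom (F.map (spanHom M m))
  map_add' m m' := (congrArg F.map (fpA_hom_ext (smul_add (1 : A) m m') :
    spanHom M (m + m') = spanHom M m + spanHom M m')).trans F.map_add
  map_smul' a m := (congrArg F.map (fpA_hom_ext (by
    change (1 : A) • a • m = (a • (1 : A)) • m
    rw [one_smul, smul_eq_mul, mul_one]) :
    spanHom M (a • m) = mulHom a ≫ spanHom M m)).trans (F.map_comp _ _)

theorem valη_map {M N : FPC A} (f : M ⟶ N) (m : M.obj) :
    (valη F M m).toHom ≫ F.map f = (valη F N (f.hom.hom m)).toHom :=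
  (F.map_comp _ _).symm.trans (congrArg F.map (fpA_hom_ext (by
    change f.hom.hom ((1 : A) • m) = (1 : A) • f.hom.hom m
    rw [map_smul])))

theorem valη_univ [PreservesFiniteColimits F] (M : FPC A) : IsUniv (valHom F) M.obj (valη F M) := by
  classical
  haveI : Module.FinitePresentation A M.obj := M.property
  obtain ⟨n, m, f, g, hf, hfg⟩ := Module.FinitePresentation.exists_fin' A M.obj
  let P : ℕ → FPC A := fun k => ⟨ModuleCat.of A (Fin k → A), inferInstance⟩
  let sgl : ∀ k, Fin k → (fpA A ⟶ P k) := fun k l =>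
    ObjectProperty.homMk (ModuleCat.ofHom (LinearMap.single A (fun _ : Fin k => A) l))
  let prj : ∀ k, Fin k → (P k ⟶ fpA A) := fun k l =>
    ObjectProperty.homMk (ModuleCat.ofHom (LinearMap.proj (φ := fun _ : Fin k => A) l))
  have hid : ∀ k, 𝟙 (P k) = ∑ l, prj k l ≫ sgl k l := fun k => by
    apply ((fpProp A).ι).map_injective
    rw [Functor.map_sum]
    apply ModuleCat.hom_ext
    rw [ModuleCat.hom_sum]
    refine LinearMap.ext fun v => ?_
    rw [LinearMap.sum_apply]
    exact (LinearMap.sum_single_apply (φ := fun _ : Fin k => A) v).symm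
  have hext : ∀ k {Z : B} (z z' : F.obj (P k) ⟶ Z),
      (∀ l, F.map (sgl k l) ≫ z = F.map (sgl k l) ≫ z') → z = z' := by
    intro k Z z z' h
    have : ∀ y : F.obj (P k) ⟶ Z, y = ∑ l, F.map (prj k l) ≫ F.map (sgl k l) ≫ y := fun y => by
      conv_lhs => rw [← Category.id_comp y, ← F.map_id, hid, F.map_sum, Preadditive.sum_comp]
      simp only [F.map_comp, Category.assoc]
    rw [this z, this z']
    exact Finset.sum_congr rfl fun l _ => by rw [h]
  let gg : P m ⟶ P n := ObjectProperty.homMk (ModuleCat.ofHom g)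
  let ff : P n ⟶ M := ObjectProperty.homMk (ModuleCat.ofHom f)
  have w : gg ≫ ff = 0 := ObjectProperty.hom_ext _ (ModuleCat.hom_ext hfg.linearMap_comp_eq_zero)
  have hw : ModuleCat.ofHom g ≫ (ModuleCat.ofHom f : ModuleCat.of A (Fin n → A) ⟶ M.obj) = 0 :=
    ModuleCat.hom_ext hfg.linearMap_comp_eq_zero
  haveI : Epi (ShortComplex.mk _ _ hw).g := (ModuleCat.epi_iff_surjective _).2 hf
  have hM : IsColimit ((CokernelCofork.ofπ ff w).map ((fpProp A).ι)) :=
    ((ShortComplex.ShortExact.moduleCat_exact_iff_function_exact (ShortComplex.mk _ _ hw)).2 hfg).gIsCokernel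
  have hcok : IsColimit (CokernelCofork.ofπ ff w) :=
    isColimitOfReflects ((fpProp A).ι) ((CokernelCofork.isColimitMapCoconeEquiv _ _).symm hM)
  have hF := CokernelCofork.mapIsColimit _ hcok F
  intro Z φ
  have hsp : ∀ (x : Fin n → A) (l : Fin n), spanHom (P n) x ≫ prj n l = mulHom (x l) := fun x l =>
    fpA_hom_ext (by
      change (((1 : A) • x : Fin n → A)) l = x l • (1 : A)
      simp)
  let φl : Fin n → (F.obj (fpA A) ⟶ Z) := fun l => (φ (f (Pi.single l 1))).toHom
  let z₀ : F.obj (P n) ⟶ Z := ∑ l, F.map (prj n l) ≫ φl l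
  have hz₀ : ∀ x : Fin n → A, F.map (spanHom (P n) x) ≫ z₀ = (φ (f x)).toHom := fun x => by
    simp only [z₀, Preadditive.comp_sum, ← Category.assoc, ← F.map_comp, hsp]
    conv_rhs => rw [pi_eq_sum_univ' x, map_sum, map_sum]
    simp only [map_smul]
    rfl
  have hzero : F.map gg ≫ z₀ = 0 := hext m _ _ fun k => by
    have : sgl m k ≫ gg = spanHom (P n) (g (Pi.single k 1)) := fpA_hom_ext (by
      change g (Pi.single k 1) = (1 : A) • g (Pi.single k 1)
      rw [one_smul])
    rw [comp_zero, ← Category.assoc, ← F.map_comp, this, hz₀,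
      (LinearMap.exact_iff.mp hfg).symm.le (LinearMap.mem_range_self g (Pi.single k 1)), map_zero]
    rfl
  obtain ⟨z, hz⟩ := CokernelCofork.IsColimit.desc' hF z₀ hzero
  change F.map ff ≫ z = z₀ at hz
  refine ⟨z, fun y => ?_, fun z' hz' => Cofork.IsColimit.hom_ext hF ?_⟩
  · obtain ⟨x, rfl⟩ := hf y
    have hy : spanHom M (f x) = spanHom (P n) x ≫ ff := fpA_hom_ext (by
      change (1 : A) • f x = f ((1 : A) • x)
      rw [map_smul])
    change F.map (spanHom M (f x)) ≫ z = _
    rw [hy, F.map_comp, Category.assoc, hz, hz₀]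
  · change F.map ff ≫ z' = F.map ff ≫ z
    refine hext n _ _ fun l => ?_
    have hy : sgl n l ≫ ff = spanHom M (f (Pi.single l 1)) := fpA_hom_ext (by
      change f (Pi.single l 1) = (1 : A) • f (Pi.single l 1)
      rw [one_smul])
    have hs : spanHom (P n) (Pi.single l 1) = sgl n l := fpA_hom_ext (by
      change (1 : A) • (Pi.single l 1 : Fin n → A) = Pi.single l 1
      rw [one_smul])
    rw [hz, ← Category.assoc, ← F.map_comp, hy]
    conv_rhs => rw [← hs, hz₀]
    exact hz' (f (Pi.single l 1))

end RightExact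

theorem additive_of_rightExact [HasFiniteBiproducts B] (F : FPC A ⥤ B)
    [PreservesFiniteColimits F] : F.Additive := by
  haveI : HasZeroObject B := hasZeroObject_of_hasTerminal_object
  haveI : PreservesFiniteColimits (fpLift A ⋙ F) := comp_preservesFiniteColimits _ _
  haveI : HasInitial (FPJ A) := inferInstance
  haveI : (fpLift A ⋙ F).PreservesZeroMorphisms :=
    Functor.preservesZeroMorphisms_of_preserves_initial_object
  haveI := preservesBinaryBiproducts_of_preservesBinaryCoproducts (fpLift A ⋙ F)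
  haveI : (fpLift A ⋙ F).Additive := Functor.additive_of_preservesBinaryBiproducts _
  exact Functor.additive_of_full_essSurj_comp (fpLift A) F

end Groth.Agent.RPSM
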