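import Groth.Agent.QCoh.Stalk
import Groth.Agent.QCoh.Extension
import Groth.Agent.QCoh.FT
import Groth.Agent.QCoh.AffineCohom
import Groth.Agent.KFlatLib.Scheme.TildeAmp
import Groth.Agent.KFlatLib.Perfect.Spread
import Groth.Agent.AmpleVan.AdicBase
import Groth.Agent.FlatMisc.RingPullback
import Groth.Agent.CAlgUI.Flat
import Groth.Agent.KFlatLib.Scheme.Pullback

/-!
# Flat quasi-coherent covers on quasi-compact schemes with affine diagonal
-/

universe u

set_option linter.style.haveILetI false
set_option backward.isDefEq.respectTransparency false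
set_option backward.isDefEq.respectTransparency.types false

open CategoryTheory CategoryTheory.Limits AlgebraicGeometry TopologicalSpace Opposite

namespace Groth.Agent.RPSM

variable {X W : Scheme.{u}}

/-- The unit of restriction is an isomorphism on stalks in the open. -/
theorem isIso_stalk_restrict_unit (j : W ⟶ X) [IsOpenImmersion j] (N : X.Modules) (w : W) :
    IsIso ((DerSch.stalkFunctor X (j.base w)).map ((Scheme.Modules.restrictAdjunction j).unit.app N)) := by
  let adj := Scheme.Modules.restrictAdjunction j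
  have hr : IsIso ((Scheme.Modules.restrictFunctor j).map (adj.unit.app N)) := by
    have h := adj.left_triangle_components N
    exact IsIso.of_isIso_fac_right h
  have e := Scheme.Modules.restrictStalkNatIso j w
  have h1 : IsIso ((TopCat.Presheaf.stalkFunctor Ab.{u} (j.base w)).map
      ((Scheme.Modules.toPresheaf X).map (adj.unit.app N))) := by
    refine (NatIso.isIso_map_iff e _).mp ?_
    change IsIso ((TopCat.Presheaf.stalkFunctor Ab.{u} _).map ((Scheme.Modules.toPresheaf _).map
      ((Scheme.Modules.restrictFunctor j).map (adj.unit.app N))))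
    infer_instance
  rw [ConcreteCategory.isIso_iff_bijective] at h1 ⊢
  exact h1

/-- In a short exact sequence flatness of the outer stalks gives flatness of the middle one. -/
theorem isFlatAt_middle {S : ShortComplex X.Modules} (hS : S.ShortExact) {x : X}
    (h₁ : FlatMod.IsFlatAt S.X₁ x) (h₃ : FlatMod.IsFlatAt S.X₃ x) : FlatMod.IsFlatAt S.X₂ x := by
  haveI : (DerSch.stalkFunctor X x).PreservesHomology :=
    Functor.preservesHomology_of_map_exact _ fun T hT => (KFlatLib.exact_iff_stalk T).1 hT x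
  have hT := hS.map_of_exact (DerSch.stalkFunctor X x)
  let T := S.map (DerSch.stalkFunctor X x)
  haveI : Module.Flat (X.presheaf.stalk x) (T.X₁ : Type u) := h₁
  haveI : Module.Flat (X.presheaf.stalk x) (T.X₃ : Type u) := h₃
  exact CAlgUI.flat_middle (f := T.f.hom) (g := T.g.hom)
    ((ModuleCat.mono_iff_injective _).1 hT.mono_f)
    ((ShortComplex.ShortExact.moduleCat_exact_iff_function_exact T).1 hT.exact)
    ((ModuleCat.epi_iff_surjective _).1 hT.epi_g)

/-- In a short exact sequence flatness of the right stalks gives flatness of the left one. -/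
theorem isFlatAt_left {S : ShortComplex X.Modules} (hS : S.ShortExact) {x : X}
    (h₂ : FlatMod.IsFlatAt S.X₂ x) (h₃ : FlatMod.IsFlatAt S.X₃ x) : FlatMod.IsFlatAt S.X₁ x := by
  haveI : (DerSch.stalkFunctor X x).PreservesHomology :=
    Functor.preservesHomology_of_map_exact _ fun T hT => (KFlatLib.exact_iff_stalk T).1 hT x
  have hT := hS.map_of_exact (DerSch.stalkFunctor X x)
  let T := S.map (DerSch.stalkFunctor X x)
  haveI : Module.Flat (X.presheaf.stalk x) (T.X₂ : Type u) := h₂
  haveI : Module.Flat (X.presheaf.stalk x) (T.X₃ : Type u) := h₃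
  exact FlatMisc.flat_of_exact T.f.hom T.g.hom
    ((ModuleCat.mono_iff_injective _).1 hT.mono_f)
    ((ModuleCat.epi_iff_surjective _).1 hT.epi_g)
    ((ShortComplex.ShortExact.moduleCat_exact_iff_function_exact T).1 hT.exact)

/-- Flatness at a point only depends on the stalk. -/
theorem isFlatAt_of_isIso_stalk {M N : X.Modules} (φ : M ⟶ N) {x : X}
    [IsIso ((DerSch.stalkFunctor X x).map φ)] (h : FlatMod.IsFlatAt N x) : FlatMod.IsFlatAt M x := by
  haveI : Module.Flat (X.presheaf.stalk x) ((DerSch.stalkFunctor X x).obj N : Type u) := h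
  exact Module.Flat.of_linearEquiv (asIso ((DerSch.stalkFunctor X x).map φ)).toLinearEquiv

/-- Restriction to an open keeps flatness at a point. -/
theorem isFlatAt_restrict (j : W ⟶ X) [IsOpenImmersion j] {M : X.Modules} (w : W)
    (h : FlatMod.IsFlatAt M (j.base w)) :
    FlatMod.IsFlatAt ((Scheme.Modules.restrictFunctor j).obj M) w := by
  refine isFlatAt_of_isIso_stalk ((Scheme.Modules.restrictFunctorIsoPullback j).hom.app M) ?_
  letI := (j.stalkMap w).hom.toAlgebra
  haveI : Module.Flat (X.presheaf.stalk (j.base w))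
      ((DerSch.stalkFunctor X (j.base w)).obj M : Type u) := h
  exact (Module.Flat.equiv_iff ((KFlatLib.stalkPullbackIso j w).app M).toLinearEquiv).2
    (Module.Flat.baseChange (X.presheaf.stalk (j.base w)) (W.presheaf.stalk w)
      ((DerSch.stalkFunctor X (j.base w)).obj M : Type u))

/-- Direct image along an affine open immersion preserves flatness, locally on the target. -/
theorem isFlatAt_push (j : W ⟶ X) [IsOpenImmersion j] [IsAffineHom j] {K : W.Modules}
    (hK : Coh.IsQCoh K) {V : X.Opens} (hV : IsAffineOpen V)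
    (h : ∀ w : W, j.base w ∈ V → FlatMod.IsFlatAt K w) :
    ∀ x ∈ V, FlatMod.IsFlatAt ((Scheme.Modules.pushforward j).obj K) x := by
  refine (QCoh.flat_sections_iff (QCoh.isQCoh_pushforward j hK) hV).1 ?_
  have hW : IsAffineOpen (j ⁻¹ᵁ V) := hV.preimage j
  haveI := (QCoh.flat_sections_iff hK hW).2 fun w hw => h w hw
  letI : Algebra Γ(X, V) Γ(W, j ⁻¹ᵁ V) := (j.app V).hom.toAlgebra
  haveI : Module.Flat Γ(X, V) Γ(W, j ⁻¹ᵁ V) := by
    have := Scheme.Hom.flat_appLE j hV hW le_rfl
    rwa [Scheme.Hom.appLE_eq_app] at this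
  letI : Module Γ(X, V) Γ(K, j ⁻¹ᵁ V) := Module.compHom _ (algebraMap Γ(X, V) Γ(W, j ⁻¹ᵁ V))
  haveI : IsScalarTower Γ(X, V) Γ(W, j ⁻¹ᵁ V) Γ(K, j ⁻¹ᵁ V) :=
    IsScalarTower.of_algebraMap_smul fun _ _ => rfl
  haveI : Module.Flat Γ(X, V) Γ(K, j ⁻¹ᵁ V) := Module.Flat.trans Γ(X, V) Γ(W, j ⁻¹ᵁ V) _
  exact Module.Flat.of_linearEquiv (M := Γ(K, j ⁻¹ᵁ V))
    ({ toFun := fun m => m
       invFun := fun m => m
       map_add' := fun _ _ => rfl
       map_smul' := fun _ _ => rfl
       left_inv := fun _ => rfl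
       right_inv := fun _ => rfl } :
      Γ((Scheme.Modules.pushforward j).obj K, V) ≃ₗ[Γ(X, V)] Γ(K, j ⁻¹ᵁ V))

/-- Quasi-coherent modules on affine spectra are quotients of flat ones. -/
theorem exists_flat_epi_spec {R : CommRingCat.{u}} {N : (Spec R).Modules} (hN : Coh.IsQCoh N) :
    ∃ (P : (Spec R).Modules) (p : P ⟶ N), Coh.IsQCoh P ∧ FlatMod.IsFlat P ∧ Epi p := by
  obtain ⟨N', ⟨e⟩⟩ := QCoh.isQCoh_spec_iff.1 hN
  let F : ModuleCat.{u} R := ModuleCat.of R ((N' : Type u) →₀ R)
  let l : F ⟶ N' := ModuleCat.ofHom (Finsupp.linearCombination R id)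
  haveI : Epi l := (ModuleCat.epi_iff_surjective _).2 fun n => ⟨Finsupp.single n 1, (Finsupp.linearCombination_single R (v := id) 1 n).trans (one_smul R n)⟩
  haveI : (tilde.functor R).PreservesEpimorphisms :=
    Functor.preservesEpimorphisms_of_adjunction tilde.adjunction
  exact ⟨_, (tilde.functor R).map l ≫ e.hom, QCoh.isQCoh_spec_iff.2 ((tilde.functor R).obj_mem_essImage F),
    (KFlatLib.isFlat_tilde_iff F).2 inferInstance, inferInstance⟩

/-- One step: make a cover flat on one more affine open. -/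
theorem exists_flat_step {R : CommRingCat.{u}} (j : Spec R ⟶ X) [IsOpenImmersion j] [IsAffineHom j]
    {F : X.Modules} (hF : Coh.IsQCoh F) :
    ∃ (F' : X.Modules) (π : F' ⟶ F), Coh.IsQCoh F' ∧ Epi π ∧
      ∀ x : X, (x ∈ Set.range j.base ∨
        ∃ V : X.Opens, IsAffineOpen V ∧ x ∈ V ∧ ∀ y ∈ V, FlatMod.IsFlatAt F y) →
          FlatMod.IsFlatAt F' x := by
  have hN : Coh.IsQCoh ((Scheme.Modules.restrictFunctor j).obj F) := QCoh.isQCoh_restrict j hF
  obtain ⟨P, p, hP, hPf, hp⟩ := exists_flat_epi_spec hN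
  let η := (Scheme.Modules.restrictAdjunction j).unit.app F
  let jp := (Scheme.Modules.pushforward j).map p
  haveI : Epi jp := AmpleVan.epi_push j hP hN p
  let K := kernel p
  have hK : Coh.IsQCoh K := QCoh.isQCoh_kernel hP hN p
  have w : (0 : (Scheme.Modules.pushforward j).obj K ⟶ F) ≫ η =
      (Scheme.Modules.pushforward j).map (kernel.ι p) ≫ jp := by
    rw [zero_comp, ← Functor.map_comp, kernel.condition, Functor.map_zero]
  let i := pullback.lift (f := η) (g := jp) 0 _ w
  let S := ShortComplex.mk i (pullback.fst η jp) (pullback.lift_fst _ _ _)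
  let k := PreservesKernel.iso (Scheme.Modules.pushforward j) p
  have hk : k.inv ≫ (Scheme.Modules.pushforward j).map (kernel.ι p) = kernel.ι jp := by
    rw [Iso.inv_comp_eq, PreservesKernel.iso_hom, kernelComparison_comp_ι]
  haveI : Mono ((Scheme.Modules.pushforward j).map (kernel.ι p)) := inferInstance
  haveI : Mono i := mono_of_mono_fac (pullback.lift_snd (f := η) (g := jp) 0 _ w)
  have hi : IsLimit (KernelFork.ofι i S.zero) :=
    KernelFork.IsLimit.ofι _ _
      (fun {T} g hg => kernel.lift jp (g ≫ pullback.snd η jp)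
        (by rw [Category.assoc, ← pullback.condition, reassoc_of% hg, zero_comp]) ≫ k.inv)
      (fun {T} g hg => by
        apply pullback.hom_ext
        · rw [Category.assoc, pullback.lift_fst, comp_zero, hg]
        · rw [Category.assoc, pullback.lift_snd, Category.assoc, hk, kernel.lift_ι])
      (fun {T} g hg m hm => (cancel_mono i).1 (hm.trans (by
        apply pullback.hom_ext
        · exact (hg : g ≫ pullback.fst η jp = 0).trans (by rw [Category.assoc, pullback.lift_fst, comp_zero])
        · rw [Category.assoc, pullback.lift_snd, Category.assoc, hk, kernel.lift_ι])))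
  have hS : S.ShortExact :=
    { exact := ShortComplex.exact_of_f_is_kernel _ hi
      mono_f := Fork.IsLimit.mono hi
      epi_g := inferInstanceAs (Epi (pullback.fst η jp)) }
  have hq : Coh.IsQCoh S.X₂ := QCoh.isQCoh_X₂ hS (QCoh.isQCoh_pushforward j hK) hF
  refine ⟨_, pullback.fst η jp, hq, inferInstance, fun x hx => ?_⟩
  rcases hx with ⟨w₀, rfl⟩ | ⟨V, hV, hxV, hold⟩
  · haveI : IsIso ((DerSch.stalkFunctor X (j.base w₀)).map η) := isIso_stalk_restrict_unit j F w₀
    haveI : IsIso ((DerSch.stalkFunctor X (j.base w₀)).map (pullback.snd η jp)) := by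
      have h := (IsPullback.of_hasPullback η jp).map (DerSch.stalkFunctor X (j.base w₀))
      exact h.isIso_snd_of_isIso
    refine isFlatAt_of_isIso_stalk (pullback.snd η jp) ?_
    obtain ⟨_, ⟨V, hV, rfl⟩, hxV, -⟩ := X.isBasis_affineOpens.exists_subset_of_mem_open
      (Set.mem_univ (j.base w₀)) isOpen_univ
    exact isFlatAt_push j hP hV (fun w _ => hPf w) _ hxV
  · refine isFlatAt_middle hS (isFlatAt_push j hK hV (fun w hw => ?_) x hxV) (hold x hxV)
    let T := ShortComplex.mk (kernel.ι p) p (kernel.condition p)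
    have hT : T.ShortExact :=
      { exact := ShortComplex.exact_kernel _, mono_f := inferInstance, epi_g := hp }
    refine isFlatAt_left hT (hPf w) ?_
    exact isFlatAt_restrict j w (hold _ hw)

/-- Flat quasi-coherent covers exist on quasi-compact schemes with affine diagonal. -/
theorem exists_flat_epi [CompactSpace X]
    (hd : ∀ V W : X.Opens, IsAffineOpen V → IsAffineOpen W → IsAffineOpen (V ⊓ W))
    {M : X.Modules} (hM : Coh.IsQCoh M) :
    ∃ (F : X.Modules) (π : F ⟶ M), Coh.IsQCoh F ∧ FlatMod.IsFlat F ∧ Epi π := by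
  suffices h : ∀ s : Finset X.affineOpens, ∃ (F : X.Modules) (π : F ⟶ M), Coh.IsQCoh F ∧ Epi π ∧
      ∀ U ∈ s, ∀ x ∈ U.1, FlatMod.IsFlatAt F x by
    obtain ⟨s, hs⟩ := isCompact_univ.elim_finite_subcover (fun U : X.affineOpens => (U.1 : Set X))
      (fun U => U.1.isOpen) fun x _ => by
        obtain ⟨_, ⟨U, hU, rfl⟩, hx, -⟩ :=
          X.isBasis_affineOpens.exists_subset_of_mem_open (Set.mem_univ x) isOpen_univ
        exact Set.mem_iUnion.2 ⟨⟨U, hU⟩, hx⟩
    obtain ⟨F, π, hF, hπ, hfl⟩ := h s
    refine ⟨F, π, hF, fun x => ?_, hπ⟩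
    obtain ⟨U, hU, hx⟩ := Set.mem_iUnion₂.1 (hs (Set.mem_univ x))
    exact hfl U hU x hx
  classical
  intro s
  induction s using Finset.induction_on with
  | empty => exact ⟨M, 𝟙 M, hM, inferInstance, fun U hU => absurd hU (Finset.notMem_empty U)⟩
  | @insert U s _ ih =>
    obtain ⟨F, π, hF, hπ, hfl⟩ := ih
    haveI : IsAffineHom U.2.fromSpec := ⟨fun V hV => by
      rw [← U.2.fromSpec.isAffineOpen_iff_of_isOpenImmersion,
        Scheme.Hom.image_preimage_eq_opensRange_inf, U.2.opensRange_fromSpec]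
      exact hd _ _ U.2 hV⟩
    obtain ⟨F', π', hF', hπ', hfl'⟩ := exists_flat_step U.2.fromSpec hF
    refine ⟨F', π' ≫ π, hF', inferInstance, fun V hV x hx => hfl' x ?_⟩
    rcases Finset.mem_insert.1 hV with rfl | hV
    · exact Or.inl (by rw [V.2.range_fromSpec]; exact hx)
    · exact Or.inr ⟨V.1, V.2, hx, hfl V hV⟩

end Groth.Agent.RPSM
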