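import Groth.Agent.RPSM.GRGlue
import Groth.Agent.RPSM.QCohGen
import Groth.Agent.QCoh.TensorSections
import Groth.Agent.InvX.GenLocus
import Groth.Agent.KFlatLib.Scheme.PullTensorCx

/-!
# An equivalence of categories of quasi-coherent modules is a twisted pullback
-/

universe u

set_option linter.style.haveILetI false
set_option backward.isDefEq.respectTransparency false
set_option backward.isDefEq.respectTransparency.types false

open CategoryTheory CategoryTheory.Limits AlgebraicGeometry TopologicalSpace Opposite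
open scoped TensorProduct MonoidalCategory

namespace Groth.Agent.RPSM

open QCoh (rs rf)

variable {X Y : Scheme.{u}}

/-- A generator with trivial annihilator on all smaller affines is a frame. -/
theorem isFrame_of_genBy {M : X.Modules} (hM : Coh.IsQCoh M) {W : X.Opens} (hW : IsAffineOpen W)
    (g : Γ(M, W)) (hg : GenBy M g)
    (hkill : ∀ W' ≤ W, IsAffineOpen W' → ∀ a : Γ(X, W'), (∀ t : Γ(M, W'), a • t = 0) → a = 0) :
    InvX.IsFrame g := by
  refine InvX.isFrame_of_germ fun z hz => ⟨fun c c' h => ?_, fun t => ?_⟩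
  · obtain ⟨O, hzO, a, ha⟩ := X.presheaf.exists_germ_eq (x := z) (c - c')
    have h0 : X.presheaf.germ O z hzO a • M.presheaf.germ W z hz g = 0 := by
      rw [ha, sub_smul, sub_eq_zero]
      exact h
    let O' := O ⊓ W
    rw [← InvX.germ_resR' (inf_le_left : O' ≤ O) (⟨hzO, hz⟩ : z ∈ O') a,
      ← InvX.germ_res' (inf_le_right : O' ≤ W) (⟨hzO, hz⟩ : z ∈ O') g, ← QCoh.germ_smul'] at h0
    obtain ⟨O₂, hzO₂, i, i', hi⟩ := TopCat.Presheaf.germ_eq (C := AddCommGrpCat.{u}) M.presheaf z
      (U := O') (V := O') ⟨hzO, hz⟩ ⟨hzO, hz⟩ _ 0 (h0.trans (map_zero _).symm)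
    obtain ⟨r, hrO, hzr⟩ := hW.exists_basicOpen_le ⟨z, hzO₂⟩ hz
    have hle : X.basicOpen r ≤ O := hrO.trans (i.le.trans inf_le_left)
    have hkill' : rf X hle a • rs M (X.basicOpen_le r) g = 0 := by
      change rs M i.le _ = rs M i'.le 0 at hi
      have h1 := congrArg (rs M hrO) hi
      rw [show rs M i'.le (0 : Γ(M, O')) = 0 from map_zero _,
        show rs M hrO (0 : Γ(M, O₂)) = 0 from map_zero _, QCoh.rs_rs, QCoh.rs_smul] at h1
      change rf X (hrO.trans i.le) (rf X inf_le_left a) • rs M (hrO.trans i.le) (rs M inf_le_right g) = 0 at h1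
      rw [QCoh.rs_rs] at h1
      refine Eq.trans (congrArg (· • rs M (X.basicOpen_le r) g) ?_) h1
      exact ((CommRingCat.comp_apply _ _ _).symm.trans
        (congrArg (fun q : Γ(X, O) ⟶ Γ(X, X.basicOpen r) => q a) (X.presheaf.map_comp _ _).symm)).symm
    have ha0 : rf X hle a = 0 := by
      refine hkill _ (X.basicOpen_le r) (hW.basicOpen r) _ fun t => ?_
      obtain ⟨b, rfl⟩ := genBy_basicOpen hM hW r g
        (fun t => ⟨0, (hg t).choose, by rw [pow_zero, one_smul]; exact (hg t).choose_spec⟩) t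
      rw [smul_comm, hkill', smul_zero]
    rw [← sub_eq_zero, ← ha, ← X.presheaf.germ_res_apply (homOfLE hle) z hzr a]
    exact (congrArg (X.presheaf.germ _ z hzr) ha0).trans (map_zero _)
  · obtain ⟨O, hzO, s, rfl⟩ := TopCat.Presheaf.exists_germ_eq M.presheaf (x := z) t
    obtain ⟨r, hrO, hzr⟩ := hW.exists_basicOpen_le ⟨z, hzO⟩ hz
    obtain ⟨b, hb⟩ := genBy_basicOpen hM hW r g
      (fun t => ⟨0, (hg t).choose, by rw [pow_zero, one_smul]; exact (hg t).choose_spec⟩)
      (rs M hrO s)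
    refine ⟨X.presheaf.germ _ z hzr b, ?_⟩
    show _ • M.presheaf.germ W z hz g = _
    rw [← InvX.germ_res' (X.basicOpen_le r) hzr g, ← QCoh.germ_smul']
    exact (congrArg (M.presheaf.germ _ z hzr) hb.symm).trans (InvX.germ_res' hrO hzr s)

/-- A morphism of quasi-coherent modules which is bijective on an affine cover is invertible. -/
theorem isIso_of_bijective_cover {M N : X.Modules} (hM : Coh.IsQCoh M) (hN : Coh.IsQCoh N) (φ : M ⟶ N)
    {ι : Type*} (U : ι → X.Opens) (haff : ∀ i, IsAffineOpen (U i)) (hU : ∀ x : X, ∃ i, x ∈ U i)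
    (h : ∀ i, Function.Bijective (φ.app (U i))) : IsIso φ := by
  haveI : Mono φ := Preadditive.mono_of_isZero_kernel _
    (QCoh.isZero_of_cover (QCoh.isQCoh_kernel hM hN φ) U haff hU fun i => subsingleton_of_forall_eq 0 fun s => by
      have h1 : φ.app (U i) ((kernel.ι φ).app (U i) s) = 0 :=
        congrArg (fun q : kernel φ ⟶ N => q.app (U i) s) (kernel.condition φ)
      exact QCoh.app_injective (kernel.ι φ) _ (((h i).1 (h1.trans (map_zero _).symm)).trans (map_zero _).symm))
  haveI : Epi φ := Preadditive.epi_of_isZero_cokernel _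
    (QCoh.isZero_of_cover (QCoh.isQCoh_cokernel hM hN φ) U haff hU fun i => subsingleton_of_forall_eq 0 fun s => by
      obtain ⟨n, rfl⟩ := QCoh.app_surjective_of_epi hN (QCoh.isQCoh_cokernel hM hN φ) (cokernel.π φ) (haff i) s
      obtain ⟨m, rfl⟩ := (h i).2 n
      exact congrArg (fun q : M ⟶ cokernel φ => q.app (U i) m) (cokernel.condition φ))
  exact isIso_of_mono_of_epi φ

section Local

variable [CompactSpace X] [QuasiSeparatedSpace X] [CompactSpace Y] [QuasiSeparatedSpace Y]
  (F : QCohCat.QCoh X ≌ QCohCat.QCoh Y)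

theorem isFP_structureModule (X : Scheme.{u}) : CohB1.IsFP (Coh.structureModule X) :=
  (QCoh.isFP_iff QCoh.isQCoh_structureModule).2 fun V =>
    inferInstanceAs (Module.FinitePresentation Γ(X, V.1) Γ(X, V.1))

/-- The structure module as an object of the category of quasi-coherent modules. -/
noncomputable abbrev qUnit (X : Scheme.{u}) : QCohCat.QCoh X :=
  ⟨Coh.structureModule X, QCoh.isQCoh_structureModule⟩

/-- The twist is a projective generator with scalar endomorphisms on the partner of an affine. -/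
theorem exists_local_frame {U : X.Opens} {V : Y.Opens} (hU : IsAffineOpen U) (hV : IsAffineOpen V)
    (h : Corr F U V) :
    (∀ b : Γ(Y, V), (∀ t : Γ((F.functor.obj (qUnit X)).obj, V), b • t = 0) → b = 0) ∧
      ∀ y ∈ V, ∃ (r : Γ(Y, V)) (g : Γ((F.functor.obj (qUnit X)).obj, V)), y ∈ Y.basicOpen r ∧
        ∀ t : Γ((F.functor.obj (qUnit X)).obj, V), ∃ (k : ℕ) (c : Γ(Y, V)), r ^ k • t = c • g := by
  haveI := secFun_equiv_isLocalization F hV h
  haveI := secFun_isLocalization hU
  let E := Localization.uniq (secFun U) (F.functor ⋙ secFun V) (offW U)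
  let e : secFun U ⋙ E.functor ≅ F.functor ⋙ secFun V :=
    Localization.compUniqFunctor (secFun U) (F.functor ⋙ secFun V) (offW U)
  obtain ⟨φ, hφ⟩ := exists_ringEquiv_of_equiv E
  let A0 : ModuleCat.{u} Γ(X, U) := ModuleCat.of Γ(X, U) Γ(X, U)
  let P : ModuleCat.{u} Γ(Y, V) := (secFun V).obj (F.functor.obj (qUnit X))
  let eP : E.functor.obj A0 ≅ P := e.app (qUnit X)
  haveI : Projective A0 := (IsProjective.iff_projective A0).1 inferInstance
  haveI : Projective P := Projective.of_iso eP (E.toAdjunction.map_projective _ ‹_›)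
  have hend : ∀ l : P ⟶ P, ∃ b, l = smulHom P b := fun l => by
    obtain ⟨q, hq⟩ := E.functor.map_surjective (eP.hom ≫ l ≫ eP.inv)
    have hq' : q = smulHom A0 (q.hom (1 : Γ(X, U))) := ModuleCat.hom_ext (LinearMap.ext fun x => by
      have := q.hom.map_smul (x : Γ(X, U)) (1 : Γ(X, U))
      rw [smul_eq_mul, mul_one] at this
      exact this.trans (mul_comm (x : Γ(X, U)) _))
    refine ⟨φ (q.hom (1 : Γ(X, U))), ?_⟩
    rw [← cancel_epi eP.hom, ← smulHom_naturality, ← hφ, ← hq', hq, Category.assoc, Category.assoc,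
      eP.inv_hom_id, Category.comp_id]
  have hfaith : ∀ b : Γ(Y, V), (∀ t : P, b • t = 0) → b = 0 := fun b hb => by
    obtain ⟨a, rfl⟩ := φ.surjective b
    have h1 : smulHom A0 a = smulHom A0 0 := E.functor.map_injective (by
      rw [hφ, hφ, map_zero, ← cancel_mono eP.hom, smulHom_naturality, smulHom_naturality]
      exact congrArg (eP.hom ≫ ·) (ModuleCat.hom_ext (LinearMap.ext fun t =>
        (hb t).trans (zero_smul _ t).symm)))
    have h2 := congrArg (fun q : A0 ⟶ A0 => q.hom (1 : Γ(X, U))) h1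
    change a * 1 = 0 * 1 at h2
    rw [mul_one, zero_mul] at h2
    rw [h2, map_zero]
  refine ⟨hfaith, fun y hy => ?_⟩
  haveI : Module.Finite Γ(Y, V) P :=
    QCoh.finite_of_isFT (F.functor.obj (qUnit X)).property
      (QCoh.isFT_of_isFP (isFP_equiv F (G := qUnit X) (isFP_structureModule X))) hV
  obtain ⟨𝔪, h𝔪, hle⟩ := Ideal.exists_le_maximal _ (hV.primeIdealOf ⟨y, hy⟩).isPrime.ne_top
  let I : Submodule Γ(Y, V) P := 𝔪 • ⊤
  haveI : 𝔪.IsMaximal := h𝔪
  letI := Ideal.Quotient.field 𝔪
  obtain ⟨v, hv⟩ := cyclic_of_commute (k := Γ(Y, V) ⧸ 𝔪) (V := (P : Type u) ⧸ I) fun a b => by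
    have hlift : ∀ a : ((P : Type u) ⧸ I) →ₗ[Γ(Y, V) ⧸ 𝔪] ((P : Type u) ⧸ I),
        ∃ c : Γ(Y, V), ∀ x, a x = c • x := fun a => by
      let π : P ⟶ ModuleCat.of Γ(Y, V) ((P : Type u) ⧸ I) := ModuleCat.ofHom I.mkQ
      haveI : Epi π := (ModuleCat.epi_iff_surjective _).2 I.mkQ_surjective
      obtain ⟨l, hl⟩ := Projective.factors (π ≫ ModuleCat.ofHom (a.restrictScalars Γ(Y, V))) π
      obtain ⟨c, rfl⟩ := hend l
      refine ⟨c, fun x => ?_⟩
      obtain ⟨x, rfl⟩ := I.mkQ_surjective x
      exact (congrArg (fun q : P ⟶ ModuleCat.of Γ(Y, V) ((P : Type u) ⧸ I) => q.hom x) hl).symm.trans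
        (map_smul I.mkQ c x)
    obtain ⟨c, hc⟩ := hlift a
    obtain ⟨d, hd⟩ := hlift b
    refine LinearMap.ext fun x => ?_
    change a (b x) = b (a x)
    have hcd : c • d • x = d • c • x :=
      (mul_smul c d x).symm.trans ((congrArg (· • x) (mul_comm c d)).trans (mul_smul d c x))
    exact (hc (b x)).trans (((congrArg (c • ·) (hd x)).trans hcd).trans
      ((congrArg (d • ·) (hc x).symm).trans (hd (a x)).symm))
  obtain ⟨g, rfl⟩ := I.mkQ_surjective v
  let S := Submodule.span Γ(Y, V) ({g} : Set P)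
  have hN : (⊤ : Submodule Γ(Y, V) ((P : Type u) ⧸ S)) ≤ 𝔪 • ⊤ := by
    rintro w -
    induction w using Submodule.Quotient.induction_on with
    | _ s =>
    obtain ⟨c, hc⟩ := hv (I.mkQ s)
    obtain ⟨c, rfl⟩ := Ideal.Quotient.mk_surjective c
    have hm : s - c • g ∈ I := (Submodule.Quotient.eq I).1 (hc.trans (map_smul I.mkQ c g).symm)
    have h1 := Submodule.mem_map_of_mem (f := S.mkQ) hm
    rw [Submodule.map_smul'', Submodule.map_top, Submodule.range_mkQ, map_sub, Submodule.mkQ_apply,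
      Submodule.mkQ_apply, (Submodule.Quotient.mk_eq_zero S).2
        (S.smul_mem c (Submodule.mem_span_singleton_self g)), sub_zero] at h1
    exact h1
  obtain ⟨r, hr, hr0⟩ := Submodule.exists_sub_one_mem_and_smul_eq_zero_of_fg_of_le_smul 𝔪
    (⊤ : Submodule Γ(Y, V) ((P : Type u) ⧸ S)) Module.Finite.fg_top hN
  refine ⟨r, g, ?_, fun t => ?_⟩
  · rw [QCoh.mem_basicOpen_iff_notMem hV hy]
    intro h0
    refine h𝔪.ne_top ((Ideal.eq_top_iff_one _).2 ?_)
    have := sub_mem (hle h0) hr
    simpa using this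
  · obtain ⟨c, hc⟩ := Submodule.mem_span_singleton.1 ((Submodule.Quotient.mk_eq_zero S).1
      ((Submodule.Quotient.mk_smul S r t).trans (hr0 _ Submodule.mem_top)))
    exact ⟨1, c, by rw [pow_one]; exact hc.symm⟩

variable (f : Y ≅ X)
  (hf : ∀ U : X.Opens, IsAffineOpen U → Corr F U (f.hom ⁻¹ᵁ U) ∧ IsScalarMap F (f.hom.app U))
include hf

/-- The image of the structure module is invertible, with frames on partners of affines. -/
theorem exists_frame (y : Y) :
    ∃ (U : X.Opens) (g : Γ((F.functor.obj (qUnit X)).obj, f.hom ⁻¹ᵁ U)),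
      IsAffineOpen U ∧ y ∈ f.hom ⁻¹ᵁ U ∧ InvX.IsFrame g := by
  have key : ∀ W : Y.Opens, IsAffineOpen W → ∃ U : X.Opens, IsAffineOpen U ∧ f.hom ⁻¹ᵁ U = W :=
    fun W hW => ⟨f.inv ⁻¹ᵁ W, hW.preimage f.inv, by
      rw [← Scheme.Hom.comp_preimage, f.hom_inv_id]
      rfl⟩
  have hkill : ∀ W : Y.Opens, IsAffineOpen W → ∀ b : Γ(Y, W),
      (∀ t : Γ((F.functor.obj (qUnit X)).obj, W), b • t = 0) → b = 0 := fun W hW => by
    obtain ⟨U, hU, rfl⟩ := key W hW
    exact (exists_local_frame F hU hW (hf U hU).1).1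
  obtain ⟨V, hV, hyV, -⟩ := exists_isAffineOpen_mem_and_subset (x := y) (U := ⊤) trivial
  obtain ⟨U, hU, rfl⟩ := key V hV
  obtain ⟨r, g, hyr, hg⟩ := (exists_local_frame F hU hV (hf U hU).1).2 y hyV
  obtain ⟨U', hU', hU'r⟩ := key (Y.basicOpen r) (hV.basicOpen r)
  have hframe : ∃ g' : Γ((F.functor.obj (qUnit X)).obj, Y.basicOpen r), InvX.IsFrame g' :=
    ⟨_, isFrame_of_genBy (F.functor.obj (qUnit X)).property (hV.basicOpen r) _
      (genBy_basicOpen (F.functor.obj (qUnit X)).property hV r g hg) fun W' _ hW' => hkill W' hW'⟩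
  rw [← hU'r] at hframe hyr
  obtain ⟨g', hg'⟩ := hframe
  exact ⟨U', g', hU', hyr, hg'⟩

/-- Over an affine open a section `m` of `M` determines a map between the images. -/
theorem exists_beta {U : X.Opens} (hU : IsAffineOpen U) :
    ∃ β : ∀ M : QCohCat.QCoh X, Γ(M.obj, U) →
        Γ((F.functor.obj (qUnit X)).obj, f.hom ⁻¹ᵁ U) → Γ((F.functor.obj M).obj, f.hom ⁻¹ᵁ U),
      (∀ M (m : Γ(M.obj, U)) x x', β M m (x + x') = β M m x + β M m x') ∧
      (∀ M (m : Γ(M.obj, U)) (b : Γ(Y, f.hom ⁻¹ᵁ U)) x, β M m (b • x) = b • β M m x) ∧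
      (∀ M (m m' : Γ(M.obj, U)) x, β M (m + m') x = β M m x + β M m' x) ∧
      (∀ (M M' : QCohCat.QCoh X) (s : M ⟶ M') (t : qUnit X ⟶ M') (m : Γ(M.obj, U)),
        t.hom.app U (show Γ((qUnit X).obj, U) from (1 : Γ(X, U))) = s.hom.app U m →
          ∀ x, (F.functor.map s).hom.app _ (β M m x) = (F.functor.map t).hom.app _ x) ∧
      (∀ (M N : QCohCat.QCoh X) (s : M ⟶ N) (m : Γ(M.obj, U)) x,
        β N (s.hom.app U m) x = (F.functor.map s).hom.app _ (β M m x)) ∧
      ∀ M (g : Γ((F.functor.obj (qUnit X)).obj, f.hom ⁻¹ᵁ U)), InvX.IsFrame g →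
        Function.Bijective (fun m => β M m g) := by
  have hV : IsAffineOpen (f.hom ⁻¹ᵁ U) := hU.preimage f.hom
  haveI := secFun_equiv_isLocalization F hV (hf U hU).1
  haveI := secFun_isLocalization hU
  let V := f.hom ⁻¹ᵁ U
  let E := Localization.uniq (secFun U) (F.functor ⋙ secFun V) (offW U)
  let e : secFun U ⋙ E.functor ≅ F.functor ⋙ secFun V :=
    Localization.compUniqFunctor (secFun U) (F.functor ⋙ secFun V) (offW U)
  haveI : E.functor.Additive := E.functor.additive_of_preserves_binary_products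
    (C := ModuleCat.{u} Γ(X, U)) (D := ModuleCat.{u} Γ(Y, V))
  let A0 : ModuleCat.{u} Γ(X, U) := ModuleCat.of Γ(X, U) Γ(X, U)
  let mh : ∀ M : QCohCat.QCoh X, Γ(M.obj, U) → (A0 ⟶ (secFun U).obj M) := fun M m =>
    ModuleCat.ofHom (LinearMap.toSpanSingleton Γ(X, U) ((secFun U).obj M : Type u) m)
  let h : ∀ M : QCohCat.QCoh X, Γ(M.obj, U) →
      ((secFun V).obj (F.functor.obj (qUnit X)) ⟶ (secFun V).obj (F.functor.obj M)) := fun M m =>
    e.inv.app (qUnit X) ≫ E.functor.map (mh M m) ≫ e.hom.app M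
  refine ⟨fun M m x => (h M m).hom x, fun M m x x' => map_add (h M m).hom x x',
    fun M m b x => map_smul (h M m).hom b x, fun M m m' x => ?_, fun M M' s t m hst x => ?_,
    fun M N s m x => ?_, fun M g hg => ?_⟩
  · have hadd : mh M (m + m') = mh M m + mh M m' :=
      ModuleCat.hom_ext (LinearMap.ext fun r => smul_add (r : Γ(X, U)) m m')
    have hh : h M (m + m') = h M m + h M m' := by
      simp only [h]
      rw [hadd, Functor.map_add, Preadditive.add_comp, Preadditive.comp_add]
    exact congrArg (fun q => q.hom x) hh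
  · have h1 : mh M m ≫ (secFun U).map s = (secFun U).map t :=
      ModuleCat.hom_ext (LinearMap.ext fun r => by
        show s.hom.app U ((r : Γ(X, U)) • m) = t.hom.app U r
        rw [s.hom.app_smul, ← hst, ← t.hom.app_smul]
        exact congrArg (t.hom.app U) (mul_one (r : Γ(X, U))))
    have h2 : h M m ≫ (secFun V).map (F.functor.map s) = (secFun V).map (F.functor.map t) := by
      simp only [h, Category.assoc]
      have hn := e.hom.naturality s
      have hn' := e.hom.naturality t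
      simp only [Functor.comp_map] at hn hn'
      rw [← hn, ← Category.assoc (E.functor.map (mh M m)), ← Functor.map_comp, h1, hn', Iso.inv_hom_id_app_assoc]
    exact congrArg (fun q => q.hom x) h2
  · have h1 : mh N (s.hom.app U m) = mh M m ≫ (secFun U).map s :=
      ModuleCat.hom_ext (LinearMap.ext fun r => (s.hom.app_smul (r : Γ(X, U)) m).symm)
    have h2 : h N (s.hom.app U m) = h M m ≫ (secFun V).map (F.functor.map s) := by
      simp only [h, Category.assoc]
      have hn := e.hom.naturality s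
      simp only [Functor.comp_map] at hn
      rw [h1, Functor.map_comp, Category.assoc, hn]
    exact congrArg (fun q => q.hom x) h2
  · have hb : Function.Bijective (h M) := by
      refine ⟨fun m m' hmm => ?_, fun q => ?_⟩
      · replace hmm := congrArg (fun q => e.hom.app (qUnit X) ≫ q ≫ e.inv.app M) hmm
        simp only [h, Category.assoc, Iso.hom_inv_id_app_assoc, Iso.hom_inv_id_app,
          Category.comp_id] at hmm
        have := congrArg (fun q : A0 ⟶ (secFun U).obj M => q.hom (1 : Γ(X, U))) (E.functor.map_injective hmm)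
        exact (one_smul Γ(X, U) m).symm.trans (this.trans (one_smul Γ(X, U) m'))
      · obtain ⟨l, hl⟩ := E.functor.map_surjective (e.hom.app (qUnit X) ≫ q ≫ e.inv.app M)
        refine ⟨l.hom (1 : Γ(X, U)), ?_⟩
        have hl' : mh M (l.hom (1 : Γ(X, U))) = l := ModuleCat.hom_ext (LinearMap.ext fun r => by
          refine (l.hom.map_smul (r : Γ(X, U)) (1 : Γ(X, U))).symm.trans ?_
          exact congrArg l.hom (mul_one (r : Γ(X, U))))
        simp only [h]
        rw [hl', hl]
        simp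
    have heval : Function.Bijective
        (fun q : (secFun V).obj (F.functor.obj (qUnit X)) ⟶ (secFun V).obj (F.functor.obj M) => q.hom g) := by
      have hg0 : Function.Bijective fun r : Γ(Y, V) => r • g := by
        have := hg V le_rfl
        convert this using 2 with r
        rw [AModX.res_self]
      let lg : Γ(Y, V) ≃ₗ[Γ(Y, V)] ((secFun V).obj (F.functor.obj (qUnit X)) : Type u) :=
        LinearEquiv.ofBijective (LinearMap.toSpanSingleton Γ(Y, V) _ g) hg0
      refine ⟨fun q q' hq => ModuleCat.hom_ext (LinearMap.ext fun z => ?_), fun n => ?_⟩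
      · obtain ⟨r, rfl⟩ := lg.surjective z
        show q.hom (r • g) = q'.hom (r • g)
        rw [map_smul, map_smul]
        exact congrArg (r • ·) hq
      · refine ⟨ModuleCat.ofHom ((LinearMap.toSpanSingleton Γ(Y, V) _ n).comp lg.symm.toLinearMap), ?_⟩
        have h1 : lg.symm g = 1 := lg.injective ((lg.apply_symm_apply g).trans (one_smul _ g).symm)
        show lg.symm g • n = n
        rw [h1, one_smul]
    exact heval.comp hb

/-- The image of a morphism which is invertible over `U` is injective over the partner. -/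
theorem app_injective_map_of_offW {U : X.Opens} (hU : IsAffineOpen U) {M M' : QCohCat.QCoh X}
    {η : M ⟶ M'} (hη : offW U η) :
    Function.Injective ((F.functor.map η).hom.app (f.hom ⁻¹ᵁ U)) :=
  app_injective_of_offW (hU.preimage f.hom) ((offW_map_iff F (hf U hU).1 η).2 hη)

/-- **An equivalence of categories of quasi-coherent modules is a twisted pullback.** -/
theorem nonempty_iso_twist :
    PicF.IsInvertible (F.functor.obj (qUnit X)).obj ∧
      Nonempty (F.functor ⋙ (QCohCat.isQCoh Y).ι ≅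
        (QCohCat.isQCoh X).ι ⋙ Scheme.Modules.pullback f.hom ⋙
          DCoh.tensorRightMod (F.functor.obj (qUnit X)).obj) := by
  let L : Y.Modules := (F.functor.obj (qUnit X)).obj
  refine ⟨InvX.isInvertible_of_frames fun y => ?_, ?_⟩
  · obtain ⟨U, g, -, hy, hg⟩ := exists_frame F f hf y
    exact ⟨_, hy, g, hg⟩
  let G : QCohCat.QCoh X ⥤ X.Modules :=
    F.functor ⋙ (QCohCat.isQCoh Y).ι ⋙ Scheme.Modules.pushforward f.hom
  let LX : X.Modules := (Scheme.Modules.pushforward f.hom).obj L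
  have hLX : Coh.IsQCoh LX := QCoh.isQCoh_pushforward f.hom (F.functor.obj (qUnit X)).property
  choose β hβ₁ hβ₂ hβ₃ hβ₄ hβ₅ hβ₆ using fun U : X.affineOpens => exists_beta F f hf U.2
  have hpair : ∀ (M : QCohCat.QCoh X) (U : X.affineOpens) (a : Γ(X, U.1)) (m : Γ(M.obj, U.1)),
      ∃ (M' : QCohCat.QCoh X) (η : M ⟶ M') (g : M' ⟶ M') (t : qUnit X ⟶ M'), offW U.1 η ∧
        t.hom.app U.1 (show Γ((qUnit X).obj, U.1) from (1 : Γ(X, U.1))) = η.hom.app U.1 m ∧
        ∀ z : Γ(M'.obj, U.1), g.hom.app U.1 z = a • z := by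
    intro M U a m
    haveI := quasiCompact_ι U.2.isCompact
    obtain ⟨M', η, g, t₀, hη, hg, ht₀⟩ := exists_acting_lift M U.1 a m
    refine ⟨M', η, g, ObjectProperty.homMk (InvX.ofSect t₀), hη, ?_, fun z => ?_⟩
    · refine (InvX.app_eq_smul (InvX.ofSect t₀) (W := U.1) (1 : Γ(X, U.1))).trans ?_
      rw [one_smul, InvX.one_ofSect]
      exact ht₀
    · refine (hg U.1 le_rfl z).trans ?_
      rw [show (homOfLE (le_refl U.1)).op = 𝟙 (op U.1) from rfl, X.presheaf.map_id]
      rfl
  have hsmul : ∀ (M : QCohCat.QCoh X) (U : X.affineOpens) (a : Γ(X, U.1)) (m : Γ(M.obj, U.1)) x,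
      β U M (a • m) x = f.hom.app U.1 a • β U M m x := by
    intro M U a m x
    obtain ⟨M', η, g, t, hη, ht, hg⟩ := hpair M U a m
    refine app_injective_map_of_offW F f hf U.2 hη ?_
    have h1 := hβ₄ U M M' η (t ≫ g) (a • m) (by
      show g.hom.app U.1 (t.hom.app U.1 _) = _
      rw [ht, hg, η.hom.app_smul]) x
    rw [h1, (F.functor.map η).hom.app_smul, hβ₄ U M M' η t m ht x, F.functor.map_comp]
    exact (hf U.1 U.2).2 a M' g hg _
  have hres : ∀ (M : QCohCat.QCoh X) (U W : X.affineOpens) (e : W.1 ≤ U.1) (m : Γ(M.obj, U.1))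
      (x : Γ(LX, U.1)), rs (G.obj M) e (β U M m x) = β W M (rs M.obj e m) (rs LX e x) := by
    intro M U W e m x
    obtain ⟨M', η, g, t, hη, ht, -⟩ := hpair M U 0 m
    refine app_injective_map_of_offW F f hf W.2 (offW_mono e hη) ?_
    have h1 : t.hom.app W.1 (show Γ((qUnit X).obj, W.1) from (1 : Γ(X, W.1))) =
        η.hom.app W.1 (rs M.obj e m) := by
      have h2 := congrArg (rs M'.obj e) ht
      change rs M'.obj e (t.hom.app U.1 _) = rs M'.obj e (η.hom.app U.1 m) at h2
      refine Eq.trans ?_ (h2.trans (ConcreteCategory.congr_hom (η.hom.mapPresheaf.naturality (homOfLE e).op) m).symm)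
      refine Eq.trans ?_ (ConcreteCategory.congr_hom (t.hom.mapPresheaf.naturality (homOfLE e).op) _)
      exact congrArg (t.hom.app W.1) (map_one (X.presheaf.map (homOfLE e).op).hom).symm
    rw [hβ₄ W M M' η t _ h1]
    have hn := ConcreteCategory.congr_hom
      (((Scheme.Modules.pushforward f.hom).map (F.functor.map η).hom).mapPresheaf.naturality (homOfLE e).op)
      (β U M m x)
    refine hn.trans ((congrArg (rs (G.obj M') e) (hβ₄ U M M' η t m ht x)).trans ?_)
    exact (ConcreteCategory.congr_hom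
      (((Scheme.Modules.pushforward f.hom).map (F.functor.map t).hom).mapPresheaf.naturality (homOfLE e).op) x).symm
  let B : ∀ (M : QCohCat.QCoh X) (U : X.affineOpens),
      Γ(M.obj, U.1) →ₗ[Γ(X, U.1)] Γ(LX, U.1) →ₗ[Γ(X, U.1)] Γ(G.obj M, U.1) := fun M U =>
    LinearMap.mk₂ Γ(X, U.1) (fun m x => β U M m x) (fun m m' x => hβ₃ U M m m' x)
      (fun a m x => hsmul M U a m x) (fun m x x' => hβ₁ U M m x x')
      (fun a m x => hβ₂ U M m (f.hom.app U.1 a) x)
  let ε : ∀ (M : QCohCat.QCoh X) (U : X.affineOpens),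
      Γ(M.obj, U.1) ⊗[Γ(X, U.1)] Γ(LX, U.1) ≃ₗ[Γ(X, U.1)] Γ((DCoh.tensorBi.obj M.obj).obj LX, U.1) :=
    fun M U => LinearEquiv.ofBijective (QCoh.tmLin M.obj LX U.1) (QCoh.bijective_tmLin M.property hLX U.2)
  let α : ∀ (M : QCohCat.QCoh X) (U : X.affineOpens),
      Γ((DCoh.tensorBi.obj M.obj).obj LX, U.1) →ₗ[Γ(X, U.1)] Γ(G.obj M, U.1) := fun M U =>
    (TensorProduct.lift (B M U)).comp (ε M U).symm.toLinearMap
  have hα : ∀ (M : QCohCat.QCoh X) (U : X.affineOpens) (m : Γ(M.obj, U.1)) (x : Γ(LX, U.1)),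
      α M U (QCoh.tmS M.obj LX m x) = β U M m x := fun M U m x => by
    show TensorProduct.lift (B M U) ((ε M U).symm (ε M U (m ⊗ₜ x))) = _
    rw [LinearEquiv.symm_apply_apply]
    rfl
  have hαres : ∀ (M : QCohCat.QCoh X) (U W : X.affineOpens) (e : W.1 ≤ U.1)
      (s : Γ((DCoh.tensorBi.obj M.obj).obj LX, U.1)), α M W (rs _ e s) = rs (G.obj M) e (α M U s) := by
    intro M U W e s
    obtain ⟨z, rfl⟩ := (ε M U).surjective s
    induction z using TensorProduct.induction_on with
    | zero => rw [map_zero, rs, map_zero, map_zero, map_zero, rs, map_zero]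
    | tmul m x =>
      show α M W (rs _ e (QCoh.tmS M.obj LX m x)) = rs _ e (α M U (QCoh.tmS M.obj LX m x))
      rw [hα, hres]
      exact (congrArg (α M W) (QCoh.map_tmS M.obj LX (homOfLE e) m x)).trans (hα M W _ _)
    | add z z' hz hz' =>
      simp only [map_add, rs] at hz hz' ⊢
      rw [hz, hz']
  choose θ hθ using fun M : QCohCat.QCoh X => exists_hom_of_affines (α M) (hαres M)
  have hnat : ∀ {M N : QCohCat.QCoh X} (s : M ⟶ N),
      (DCoh.tensorRightMod LX).map s.hom ≫ θ N = θ M ≫ G.map s := by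
    intro M N s
    refine hom_ext_affines fun U w => ?_
    obtain ⟨z, rfl⟩ := (ε M U).surjective w
    induction z using TensorProduct.induction_on with
    | zero => rw [map_zero, map_zero, map_zero]
    | tmul m x =>
      show (θ N).app U.1 (((DCoh.tensorRightMod LX).map s.hom).app U.1 (QCoh.tmS M.obj LX m x)) =
        (G.map s).app U.1 ((θ M).app U.1 (QCoh.tmS M.obj LX m x))
      rw [hθ M U, hα]
      refine Eq.trans ?_ (hβ₅ U M N s m x)
      refine Eq.trans ?_ (hα N U _ x)
      refine (congrArg ((θ N).app U.1) ?_).trans (hθ N U _)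
      exact (congrArg
        (fun q : DCoh.toP.obj M.obj ⊗ DCoh.toP.obj LX ⟶ DCoh.toP.obj ((DCoh.tensorBi.obj N.obj).obj LX) =>
          q.app (op U.1) (KFlatLib.tm m x))
        (KFlatLib.unitShP_naturality (DCoh.toP.map s.hom ▷ DCoh.toP.obj LX))).symm
    | add z z' hz hz' => simp only [map_add] at hz hz' ⊢; rw [hz, hz']
  have hiso : ∀ M, IsIso (θ M) := fun M => by
    choose W g hW hxW hg using fun x : X => exists_frame F f hf (f.inv x)
    refine isIso_of_bijective_cover (KFlatLib.isQCoh_tensor M.property hLX)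
      (QCoh.isQCoh_pushforward f.hom (F.functor.obj M).property) (θ M) W hW
      (fun x => ⟨x, by
        have h1 := hxW x
        change f.hom (f.inv x) ∈ W x at h1
        rwa [← Scheme.Hom.comp_apply, f.inv_hom_id] at h1⟩) fun x => ?_
    let U : X.affineOpens := ⟨W x, hW x⟩
    have hb := hβ₆ U M (g x) (hg x)
    have hsur : ∀ w : Γ((DCoh.tensorBi.obj M.obj).obj LX, U.1),
        ∃ m, w = QCoh.tmS M.obj LX m (g x) := fun w => by
      obtain ⟨z, rfl⟩ := (ε M U).surjective w
      induction z using TensorProduct.induction_on with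
      | zero => exact ⟨0, by rw [map_zero]; exact ((congrArg (ε M U) (TensorProduct.zero_tmul _ _)).trans (map_zero _)).symm⟩
      | tmul m y =>
        obtain ⟨b, hb'⟩ := (hg x).exists_coord le_rfl y
        rw [AModX.res_self] at hb'
        refine ⟨(inv (f.hom.app U.1)) b • m, ?_⟩
        show ε M U (m ⊗ₜ y) = ε M U ((_ • m) ⊗ₜ g x)
        rw [TensorProduct.smul_tmul]
        refine congrArg (ε M U) (congrArg (m ⊗ₜ ·) ?_)
        show y = f.hom.app U.1 (inv (f.hom.app U.1) b) • (show Γ(L, f.hom ⁻¹ᵁ U.1) from g x)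
        rw [← CommRingCat.comp_apply, IsIso.inv_hom_id]
        exact hb'
      | add z z' hz hz' =>
        obtain ⟨m, hm⟩ := hz
        obtain ⟨m', hm'⟩ := hz'
        exact ⟨m + m', by rw [map_add, hm, hm', QCoh.tmS_add_left]⟩
    refine ⟨fun w w' hww => ?_, fun n => ?_⟩
    · obtain ⟨m, rfl⟩ := hsur w
      obtain ⟨m', rfl⟩ := hsur w'
      have h1 : β U M m (g x) = β U M m' (g x) :=
        ((hθ M U _).trans (hα M U m (g x))).symm.trans
          (hww.trans ((hθ M U _).trans (hα M U m' (g x))))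
      rw [hb.1 h1]
    · obtain ⟨m, hm⟩ := hb.2 n
      exact ⟨QCoh.tmS M.obj LX m (g x), ((hθ M U _).trans (hα M U m (g x))).trans hm⟩
  haveI := hiso
  let eG : (QCohCat.isQCoh X).ι ⋙ DCoh.tensorRightMod LX ≅ G :=
    NatIso.ofComponents (fun M => asIso (θ M)) fun s => hnat s
  let pc : Scheme.Modules.pushforward f.hom ⋙ Scheme.Modules.pullback f.hom ≅ 𝟭 Y.Modules :=
    Functor.isoWhiskerLeft _ (Scheme.Modules.restrictFunctorIsoPullback f.hom).symm ≪≫
      asIso (Scheme.Modules.restrictAdjunction f.hom).counit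
  let t : DCoh.tensorRightMod LX ⋙ Scheme.Modules.pullback f.hom ≅
      Scheme.Modules.pullback f.hom ⋙ DCoh.tensorRightMod L :=
    (NatIso.ofComponents (fun N => ((KFlatLib.pullTensorBiIso f.hom).app N).app LX) (fun {N N'} φ =>
      congrArg (fun τ => NatTrans.app τ LX) ((KFlatLib.pullTensorBiIso f.hom).hom.naturality φ)) :
        DCoh.tensorRightMod LX ⋙ Scheme.Modules.pullback f.hom ≅
          Scheme.Modules.pullback f.hom ⋙ DCoh.tensorRightMod ((Scheme.Modules.pullback f.hom).obj LX)) ≪≫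
      Functor.isoWhiskerLeft _ (DCoh.tensorBi.flip.mapIso (pc.app L))
  exact ⟨(Functor.rightUnitor _).symm ≪≫ Functor.isoWhiskerLeft _ pc.symm ≪≫
    (Functor.associator _ _ _).symm ≪≫ Functor.isoWhiskerRight (Functor.associator _ _ _ ≪≫ eG.symm) _ ≪≫
    Functor.associator _ _ _ ≪≫ Functor.isoWhiskerLeft _ t⟩

end Local

/-- **Gabriel–Rosenberg reconstruction.** -/
theorem exists_iso_twist_of_equiv [CompactSpace X] [QuasiSeparatedSpace X] [CompactSpace Y]
    [QuasiSeparatedSpace Y] (F : QCohCat.QCoh X ≌ QCohCat.QCoh Y) :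
    ∃ (f : Y ≅ X) (L : Y.Modules), PicF.IsInvertible L ∧
      Nonempty (F.functor ⋙ (QCohCat.isQCoh Y).ι ≅
        (QCohCat.isQCoh X).ι ⋙ Scheme.Modules.pullback f.hom ⋙ DCoh.tensorRightMod L) := by
  obtain ⟨f, hf⟩ := exists_iso_of_equiv F
  obtain ⟨hL, hiso⟩ := nonempty_iso_twist F f hf
  exact ⟨f, _, hL, hiso⟩

end Groth.Agent.RPSM
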