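import Groth.Agent.RPSM.CohGen
import Groth.Agent.RPSM.GRTwist

/-!
# An equivalence of categories of coherent modules on Noetherian schemes
-/

universe u

set_option linter.style.haveILetI false
set_option backward.isDefEq.respectTransparency false
set_option backward.isDefEq.respectTransparency.types false

open CategoryTheory CategoryTheory.Limits AlgebraicGeometry TopologicalSpace

namespace Groth.Agent.RPSM

variable {X Y : Scheme.{u}}

/-- Two functors on coherent modules agree once they agree on the small model. -/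
noncomputable def cohIsoOfLift [IsNoetherian X] {B : Type*} [Category B] {H H' : CohC X ⥤ B}
    (e : cohLift X ⋙ H ≅ cohLift X ⋙ H') : H ≅ H' :=
  let E := (cohLift X).asEquivalence
  (Functor.leftUnitor H).symm ≪≫ Functor.isoWhiskerRight E.counitIso.symm H ≪≫
    Functor.associator _ _ _ ≪≫ Functor.isoWhiskerLeft E.inverse e ≪≫
    (Functor.associator _ _ _).symm ≪≫ Functor.isoWhiskerRight E.counitIso H' ≪≫
    Functor.leftUnitor H'

/-- The small model sits in the quasi-coherent modules through all coherent modules. -/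
noncomputable def cohLiftIncl [IsNoetherian X] : cohLift X ⋙ cohIncl X ≅ cohG X :=
  NatIso.ofComponents (fun _ => Iso.refl _) fun f => by
    refine (Category.comp_id _).trans (Eq.trans ?_ (Category.id_comp _).symm)
    rfl

variable [IsNoetherian X] [IsNoetherian Y]

/-- A functor on coherent modules extends to all quasi-coherent modules. -/
theorem exists_qcoh_ext (F : CohC X ⥤ CohC Y) :
    ∃ F' : QCohCat.QCoh X ⥤ QCohCat.QCoh Y, PreservesFilteredColimitsOfSize.{u, u} F' ∧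
      Nonempty (cohIncl X ⋙ F' ≅ F ⋙ cohIncl Y) := by
  obtain ⟨F', hF', ⟨e⟩⟩ := exists_ext (cohG X) (cohLift X ⋙ F ⋙ cohIncl Y)
  exact ⟨F', hF', ⟨cohIsoOfLift ((Functor.associator _ _ _).symm ≪≫
    Functor.isoWhiskerRight cohLiftIncl F' ≪≫ e)⟩⟩

/-- An equivalence of coherent modules extends to quasi-coherent modules. -/
theorem exists_equiv_ext (F : CohC X ≌ CohC Y) :
    ∃ F' : QCohCat.QCoh X ≌ QCohCat.QCoh Y,
      Nonempty (cohIncl X ⋙ F'.functor ≅ F.functor ⋙ cohIncl Y) := by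
  obtain ⟨F', hF', ⟨eF⟩⟩ := exists_qcoh_ext F.functor
  obtain ⟨G', hG', ⟨eG⟩⟩ := exists_qcoh_ext F.inverse
  haveI : PreservesFilteredColimitsOfSize.{u, u} (F' ⋙ G') := ⟨fun K _ _ => inferInstance⟩
  haveI : PreservesFilteredColimitsOfSize.{u, u} (G' ⋙ F') := ⟨fun K _ _ => inferInstance⟩
  haveI : PreservesFilteredColimitsOfSize.{u, u} (𝟭 (QCohCat.QCoh X)) := ⟨fun K _ _ => inferInstance⟩
  haveI : PreservesFilteredColimitsOfSize.{u, u} (𝟭 (QCohCat.QCoh Y)) := ⟨fun K _ _ => inferInstance⟩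
  let a : cohIncl X ⋙ F' ⋙ G' ≅ cohIncl X :=
    (Functor.associator _ _ _).symm ≪≫ Functor.isoWhiskerRight eF G' ≪≫ Functor.associator _ _ _ ≪≫
      Functor.isoWhiskerLeft F.functor eG ≪≫ (Functor.associator _ _ _).symm ≪≫
      Functor.isoWhiskerRight F.unitIso.symm (cohIncl X) ≪≫ Functor.leftUnitor _
  let b : cohIncl Y ⋙ G' ⋙ F' ≅ cohIncl Y :=
    (Functor.associator _ _ _).symm ≪≫ Functor.isoWhiskerRight eG F' ≪≫ Functor.associator _ _ _ ≪≫
      Functor.isoWhiskerLeft F.inverse eF ≪≫ (Functor.associator _ _ _).symm ≪≫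
      Functor.isoWhiskerRight F.counitIso (cohIncl Y) ≪≫ Functor.leftUnitor _
  obtain ⟨η⟩ := iso_of_restrict_iso (cohG X) (𝟭 _) (F' ⋙ G')
    (Functor.rightUnitor _ ≪≫ cohLiftIncl.symm ≪≫ Functor.isoWhiskerLeft (cohLift X) a.symm ≪≫
      (Functor.associator _ _ _).symm ≪≫ Functor.isoWhiskerRight cohLiftIncl _)
  obtain ⟨ε⟩ := iso_of_restrict_iso (cohG Y) (G' ⋙ F') (𝟭 _)
    ((Functor.isoWhiskerRight cohLiftIncl _).symm ≪≫ Functor.associator _ _ _ ≪≫
      Functor.isoWhiskerLeft (cohLift Y) b ≪≫ cohLiftIncl ≪≫ (Functor.rightUnitor _).symm)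
  exact ⟨CategoryTheory.Equivalence.mk F' G' η ε, ⟨eF⟩⟩

/-- **An equivalence of coherent modules is a twisted pullback.** -/
theorem exists_iso_twist_of_coh_equiv (F : CohC X ≌ CohC Y) :
    ∃ (f : Y ≅ X) (L : Y.Modules), PicF.IsInvertible L ∧
      Nonempty (F.functor ⋙ ObjectProperty.ι (fun M : Y.Modules => Coh.IsCoh M) ≅
        ObjectProperty.ι (fun M : X.Modules => Coh.IsCoh M) ⋙ Scheme.Modules.pullback f.hom ⋙
          DCoh.tensorRightMod L) := by
  obtain ⟨F', ⟨e⟩⟩ := exists_equiv_ext F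
  obtain ⟨f, L, hL, ⟨φ⟩⟩ := exists_iso_twist_of_equiv F'
  exact ⟨f, L, hL, ⟨Functor.isoWhiskerLeft F.functor (ObjectProperty.ιOfLECompιIso _).symm ≪≫
    (Functor.associator _ _ _).symm ≪≫ Functor.isoWhiskerRight e.symm _ ≪≫ Functor.associator _ _ _ ≪≫
    Functor.isoWhiskerLeft _ φ ≪≫ (Functor.associator _ _ _).symm ≪≫
    Functor.isoWhiskerRight (ObjectProperty.ιOfLECompιIso _) _⟩⟩

end Groth.Agent.RPSM
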