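import Groth.Agent.RPSM.GRLocal
import Groth.Prelude.Def_TwSh

/-!
# The isomorphism of schemes underlying an equivalence of categories of quasi-coherent modules
-/

universe u

set_option linter.style.haveILetI false
set_option backward.isDefEq.respectTransparency false
set_option backward.isDefEq.respectTransparency.types false

open CategoryTheory CategoryTheory.Limits AlgebraicGeometry TopologicalSpace Opposite

namespace Groth.Agent.RPSM

variable {X Y : Scheme.{u}}

theorem offW_mono {U U' : X.Opens} (h : U' ≤ U) {M N : QCohCat.QCoh X} {f : M ⟶ N} (hf : offW U f) :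
    offW U' f := by
  rw [offW_iff] at hf ⊢
  exact ⟨hf.1.trans (Set.compl_subset_compl.2 h), hf.2.trans (Set.compl_subset_compl.2 h)⟩

theorem app_injective_of_offW [CompactSpace X] [QuasiSeparatedSpace X] {U : X.Opens} (hU : IsAffineOpen U)
    {M N : QCohCat.QCoh X} {f : M ⟶ N} (hf : offW U f) : Function.Injective (f.hom.app U) := by
  haveI := secFun_isLocalization hU
  haveI := Localization.inverts (secFun U) (offW U) f hf
  exact (ModuleCat.mono_iff_injective ((secFun U).map f)).1 inferInstance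

/-- A global model of a module over an open, with an endomorphism acting as a given scalar. -/
theorem exists_acting [QuasiSeparatedSpace X] (M : QCohCat.QCoh X) (U : X.Opens) [QuasiCompact U.ι]
    (a : Γ(X, U)) :
    ∃ (M' : QCohCat.QCoh X) (η : M ⟶ M') (g : M' ⟶ M'), offW U η ∧
      ∀ (O : X.Opens) (hO : O ≤ U) (m : Γ(M'.obj, O)),
        g.hom.app O m = X.presheaf.map (homOfLE hO).op a • m := by
  let adj := Scheme.Modules.restrictAdjunction U.ι
  let N := (Scheme.Modules.restrictFunctor U.ι).obj M.obj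
  let M' : QCohCat.QCoh X := ⟨(Scheme.Modules.pushforward U.ι).obj N,
    QCoh.isQCoh_pushforward U.ι (QCoh.isQCoh_restrict U.ι M.property)⟩
  have htop : (⊤ : (U : Scheme.{u}).Opens) ≤ U.ι ⁻¹ᵁ U := fun z _ => z.2
  let a' : Γ((U : Scheme.{u}), ⊤) := U.ι.appLE U ⊤ htop a
  let g : M' ⟶ M' := ObjectProperty.homMk ((Scheme.Modules.pushforward U.ι).map (TwSh.scalarEnd N a'))
  refine ⟨M', ObjectProperty.homMk (adj.unit.app M.obj), g, ?_, fun O hO m => ?_⟩
  · show IsIso ((qRestrict U).map _)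
    have : IsIso ((Scheme.Modules.restrictFunctor U.ι).map (adj.unit.app M.obj)) :=
      IsIso.of_isIso_fac_right (adj.left_triangle_components M.obj)
    exact (isIso_iff_of_reflects_iso _ (QCohCat.isQCoh _).ι).1 this
  · show (TwSh.scalarEnd N a').app (U.ι ⁻¹ᵁ O) m = _
    rw [TwSh.scalarEnd_app_apply]
    show _ = (U.ι.app O (X.presheaf.map (homOfLE hO).op a)) • (show Γ(N, U.ι ⁻¹ᵁ O) from m)
    congr 1
    change ((U.ι.appLE U ⊤ htop) ≫ (U : Scheme.{u}).presheaf.map (homOfLE le_top).op) a =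
      (X.presheaf.map (homOfLE hO).op ≫ U.ι.app O) a
    rw [Scheme.Hom.appLE_map, Scheme.Hom.app_eq_appLE, Scheme.Hom.map_appLE]

/-- The model of `exists_acting` in which a given section extends globally. -/
theorem exists_acting_lift [QuasiSeparatedSpace X] (M : QCohCat.QCoh X) (U : X.Opens) [QuasiCompact U.ι]
    (a : Γ(X, U)) (m₀ : Γ(M.obj, U)) :
    ∃ (M' : QCohCat.QCoh X) (η : M ⟶ M') (g : M' ⟶ M') (t₀ : Γ(M'.obj, ⊤)), offW U η ∧
      (∀ (O : X.Opens) (hO : O ≤ U) (m : Γ(M'.obj, O)),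
        g.hom.app O m = X.presheaf.map (homOfLE hO).op a • m) ∧
      M'.obj.presheaf.map (homOfLE (le_top : U ≤ ⊤)).op t₀ = η.hom.app U m₀ := by
  let adj := Scheme.Modules.restrictAdjunction U.ι
  let N := (Scheme.Modules.restrictFunctor U.ι).obj M.obj
  let M' : QCohCat.QCoh X := ⟨(Scheme.Modules.pushforward U.ι).obj N,
    QCoh.isQCoh_pushforward U.ι (QCoh.isQCoh_restrict U.ι M.property)⟩
  have htop : (⊤ : (U : Scheme.{u}).Opens) ≤ U.ι ⁻¹ᵁ U := fun z _ => z.2
  let a' : Γ((U : Scheme.{u}), ⊤) := U.ι.appLE U ⊤ htop a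
  let g : M' ⟶ M' := ObjectProperty.homMk ((Scheme.Modules.pushforward U.ι).map (TwSh.scalarEnd N a'))
  have hle : U.ι ''ᵁ (U.ι ⁻¹ᵁ ⊤) ≤ U := by rintro _ ⟨q, -, rfl⟩; exact q.2
  refine ⟨M', ObjectProperty.homMk (adj.unit.app M.obj), g,
    M.obj.presheaf.map (homOfLE hle).op m₀, ?_, fun O hO m => ?_, ?_⟩
  · show IsIso ((qRestrict U).map _)
    have : IsIso ((Scheme.Modules.restrictFunctor U.ι).map (adj.unit.app M.obj)) :=
      IsIso.of_isIso_fac_right (adj.left_triangle_components M.obj)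
    exact (isIso_iff_of_reflects_iso _ (QCohCat.isQCoh _).ι).1 this
  · show (TwSh.scalarEnd N a').app (U.ι ⁻¹ᵁ O) m = _
    rw [TwSh.scalarEnd_app_apply]
    show _ = (U.ι.app O (X.presheaf.map (homOfLE hO).op a)) • (show Γ(N, U.ι ⁻¹ᵁ O) from m)
    congr 1
    change ((U.ι.appLE U ⊤ htop) ≫ (U : Scheme.{u}).presheaf.map (homOfLE le_top).op) a =
      (X.presheaf.map (homOfLE hO).op ≫ U.ι.app O) a
    rw [Scheme.Hom.appLE_map, Scheme.Hom.app_eq_appLE, Scheme.Hom.map_appLE]
  · show M.obj.presheaf.map _ (M.obj.presheaf.map (homOfLE hle).op m₀) =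
      M.obj.presheaf.map (homOfLE (U.ι.image_preimage_le U)).op m₀
    rw [← ConcreteCategory.comp_apply, ← Functor.map_comp]
    rfl

variable [CompactSpace X] [QuasiSeparatedSpace X] [CompactSpace Y] [QuasiSeparatedSpace Y]
  (F : QCohCat.QCoh X ≌ QCohCat.QCoh Y)

/-- The scalars of partners. -/
def IsScalarMap {U : X.Opens} {V : Y.Opens} (φ : Γ(X, U) → Γ(Y, V)) : Prop :=
  ∀ (a : Γ(X, U)) (M : QCohCat.QCoh X) (g : M ⟶ M),
    (∀ m : Γ(M.obj, U), g.hom.app U m = a • m) →
      ∀ n : Γ((F.functor.obj M).obj, V), (F.functor.map g).hom.app V n = φ a • n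

/-- Compatibility of the scalar maps with restriction. -/
theorem scalarMap_res {U U' : X.Opens} {V V' : Y.Opens} (hU : IsAffineOpen U) (hV' : IsAffineOpen V')
    (h : Corr F U V) (h' : Corr F U' V') (hle : U' ≤ U) (hle' : V' ≤ V)
    {φ : Γ(X, U) → Γ(Y, V)} {φ' : Γ(X, U') → Γ(Y, V')}
    (hφ : IsScalarMap F φ) (hφ' : IsScalarMap F φ') (a : Γ(X, U)) :
    φ' (X.presheaf.map (homOfLE hle).op a) = Y.presheaf.map (homOfLE hle').op (φ a) := by
  haveI := quasiCompact_ι hU.isCompact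
  let O : QCohCat.QCoh Y := ⟨Coh.structureModule Y, QCoh.isQCoh_structureModule⟩
  obtain ⟨M', η, g, hη, hg⟩ := exists_acting (F.inverse.obj O) U a
  have h1 := hφ a M' g (fun m => by
    refine (hg U le_rfl m).trans ?_
    rw [show (homOfLE (le_refl U)).op = 𝟙 (op U) from rfl, X.presheaf.map_id]
    rfl)
  have h2 := hφ' _ M' g (hg U' hle)
  let ε : O ⟶ F.functor.obj M' := F.counitIso.inv.app O ≫ F.functor.map η
  have hε : offW V' ε :=
    (MorphismProperty.cancel_left_of_respectsIso (offW V') (F.counitIso.inv.app O) (F.functor.map η)).2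
      ((offW_map_iff F h' η).2 (offW_mono hle hη))
  let e : Γ(O.obj, V) := (1 : Γ(Y, V))
  let x := ε.hom.app V e
  let res := (F.functor.obj M').obj.presheaf.map (homOfLE hle').op
  have h3 : φ' (X.presheaf.map (homOfLE hle).op a) • res x =
      Y.presheaf.map (homOfLE hle').op (φ a) • res x := by
    rw [← h2]
    have hn := ConcreteCategory.congr_hom
      ((F.functor.map g).hom.mapPresheaf.naturality (homOfLE hle').op) x
    refine hn.trans ?_
    change res ((F.functor.map g).hom.app V x) = _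
    rw [h1 x]
    exact Scheme.Modules.map_smul _ _ _ _
  let e' : Γ(O.obj, V') := (1 : Γ(Y, V'))
  have hx : res x = ε.hom.app V' e' := by
    refine (ConcreteCategory.congr_hom (ε.hom.mapPresheaf.naturality (homOfLE hle').op) e).symm.trans ?_
    exact congrArg (ε.hom.app V') (map_one (Y.presheaf.map (homOfLE hle').op).hom)
  rw [hx, ← ε.hom.app_smul, ← ε.hom.app_smul] at h3
  have h4 := app_injective_of_offW hV' hε h3
  change φ' _ * (1 : Γ(Y, V')) = _ * (1 : Γ(Y, V')) at h4
  rwa [mul_one, mul_one] at h4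

/-- **The isomorphism underlying an equivalence of categories of quasi-coherent modules.** -/
theorem exists_iso_of_equiv :
    ∃ f : Y ≅ X, ∀ U : X.Opens, IsAffineOpen U →
      Corr F U (f.hom ⁻¹ᵁ U) ∧ IsScalarMap F (f.hom.app U) := by
  choose V hVc hV using fun U : X.affineOpens => exists_corr F U.1 U.2.isCompact
  have hVa : ∀ U, IsAffineOpen (V U) := fun U => isAffineOpen_of_corr F U.2 (hVc U) (hV U)
  choose φ hφ using fun U => exists_ringEquiv_corr F U.2 (hVa U) (hV U)
  have hmono : ∀ {U U' : X.affineOpens}, U'.1 ≤ U.1 → V U' ≤ V U := fun {U U'} h => (hV U).mono (hV U') h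
  let φh : ∀ U : X.affineOpens, Γ(X, U.1) ⟶ Γ(Y, V U) := fun U => CommRingCat.ofHom (φ U).toRingHom
  let g : ∀ U : X.affineOpens, (V U : Scheme.{u}) ⟶ X := fun U =>
    (hVa U).isoSpec.hom ≫ Spec.map (φh U) ≫ U.2.fromSpec
  have hg : ∀ {U U' : X.affineOpens} (h : U'.1 ≤ U.1), Y.homOfLE (hmono h) ≫ g U = g U' := by
    intro U U' h
    have hsq : X.presheaf.map (homOfLE h).op ≫ φh U' = φh U ≫ Y.presheaf.map (homOfLE (hmono h)).op := by
      ext a
      exact scalarMap_res F U.2 (hVa U') (hV U) (hV U') h (hmono h) (hφ U) (hφ U') a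
    have hiso : (hVa U').isoSpec.hom ≫ Spec.map (Y.presheaf.map (homOfLE (hmono h)).op) =
        Y.homOfLE (hmono h) ≫ (hVa U).isoSpec.hom := by
      rw [← cancel_mono (hVa U).fromSpec, Category.assoc, (hVa U).map_fromSpec (hVa U'), Category.assoc,
        IsAffineOpen.isoSpec_hom_fromSpec, IsAffineOpen.isoSpec_hom_fromSpec, Scheme.homOfLE_ι]
    simp only [g]
    rw [← U.2.map_fromSpec U'.2 (homOfLE h).op, ← Category.assoc (Spec.map (φh U')), ← Spec.map_comp, hsq,
      Spec.map_comp, Category.assoc, reassoc_of% hiso]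
  have hcover : iSup V = ⊤ := by
    refine top_le_iff.1 fun y hy => ?_
    have h0 : Corr F ⊤ (⊤ : Y.Opens) := fun M => by
      simp only [Opens.coe_top, Set.compl_univ, Set.subset_empty_iff]
      constructor
      · intro h
        have hz : IsZero M := (IsZero.iff_id_eq_zero M).2 (ObjectProperty.hom_ext _
          ((KFlatLib.isZero_of_stalk M.obj fun x => (notMem_support_iff_isZero _ x).1 (by simp [h])).eq_of_src _ _))
        refine Set.eq_empty_iff_forall_notMem.2 fun z => (notMem_support_iff_isZero _ z).2 ?_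
        haveI : F.functor.PreservesZeroMorphisms := Functor.preservesZeroMorphisms_of_preserves_initial_object
        exact (DerSch.stalkFunctor Y z).map_isZero ((QCohCat.isQCoh Y).ι.map_isZero (F.functor.map_isZero hz))
      · intro h
        have hz : IsZero (F.functor.obj M) := (IsZero.iff_id_eq_zero _).2 (ObjectProperty.hom_ext _
          ((KFlatLib.isZero_of_stalk (F.functor.obj M).obj fun x =>
            (notMem_support_iff_isZero _ x).1 (by simp [h])).eq_of_src _ _))
        haveI : F.inverse.PreservesZeroMorphisms := Functor.preservesZeroMorphisms_of_preserves_initial_object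
        have hz' : IsZero M := (F.inverse.map_isZero hz).of_iso (F.unitIso.app M)
        refine Set.eq_empty_iff_forall_notMem.2 fun z => (notMem_support_iff_isZero _ z).2 ?_
        exact (DerSch.stalkFunctor X z).map_isZero ((QCohCat.isQCoh X).ι.map_isZero hz')
    have := Corr.cover (fun U : X.affineOpens => U.1) V h0 hV (fun x _ => by
      obtain ⟨W, hW, hxW, -⟩ := exists_isAffineOpen_mem_and_subset (x := x) (U := ⊤) trivial
      exact Set.mem_iUnion.2 ⟨⟨W, hW⟩, hxW⟩) hy
    obtain ⟨U, hU⟩ := Set.mem_iUnion.1 this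
    exact Opens.mem_iSup.2 ⟨U, hU⟩
  have hinter : ∀ (U U' : X.affineOpens) (y : Y), y ∈ V U → y ∈ V U' →
      ∃ U'' : X.affineOpens, U''.1 ≤ U.1 ∧ U''.1 ≤ U'.1 ∧ y ∈ V U'' := by
    intro U U' y h h'
    have hc : IsCompact ((U.1 ⊓ U'.1 : X.Opens) : Set X) :=
      U.2.isCompact.inter_of_isOpen U'.2.isCompact U.1.isOpen U'.1.isOpen
    obtain ⟨W, -, hW⟩ := exists_corr F _ hc
    have hy : y ∈ W := Corr.inter (hV U) (hV U') hW U.2.isCompact U'.2.isCompact le_rfl ⟨h, h'⟩
    obtain ⟨⟨U'', hU''⟩, hy''⟩ := Set.mem_iUnion.1 (Corr.cover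
      (fun U'' : {U'' : X.affineOpens // U''.1 ≤ U.1 ⊓ U'.1} => U''.1.1) (fun U'' => V U''.1) hW
      (fun U'' => hV U''.1) (fun x hx => by
        obtain ⟨W', hW', hxW', hsub⟩ := exists_isAffineOpen_mem_and_subset (x := x) (U := U.1 ⊓ U'.1) hx
        exact Set.mem_iUnion.2 ⟨⟨⟨W', hW'⟩, hsub⟩, hxW'⟩) hy)
    exact ⟨U'', hU''.trans inf_le_left, hU''.trans inf_le_right, hy''⟩
  let 𝒱 := Y.openCoverOfIsOpenCover V hcover
  let f : Y ⟶ X := Scheme.Cover.glueMorphisms 𝒱 g (fun U U' => by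
    let P := pullback (V U).ι (V U').ι
    let p : P ⟶ Y := pullback.fst _ _ ≫ (V U).ι
    choose W hW₁ hW₂ hW₃ using fun z : P => hinter U U' (p z) (pullback.fst (V U).ι (V U').ι z).2 (by
      have : p z = (pullback.snd (V U).ι (V U').ι ≫ (V U').ι) z :=
        congrArg (fun q : P ⟶ Y => q z) pullback.condition
      rw [this]
      exact (pullback.snd (V U).ι (V U').ι z).2)
    refine Scheme.Cover.hom_ext (P.openCoverOfIsOpenCover (fun z => p ⁻¹ᵁ V (W z))
      (top_le_iff.1 fun z _ => Opens.mem_iSup.2 ⟨z, hW₃ z⟩)) _ _ fun z => ?_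
    let O := p ⁻¹ᵁ V (W z)
    let l : (O : Scheme.{u}) ⟶ (V (W z) : Scheme.{u}) := p ∣_ V (W z)
    have hl : l ≫ (V (W z)).ι = O.ι ≫ p := morphismRestrict_ι p _
    have h₁ : O.ι ≫ pullback.fst (V U).ι (V U').ι = l ≫ Y.homOfLE (hmono (hW₁ z)) := by
      rw [← cancel_mono (V U).ι, Category.assoc, Category.assoc, Scheme.homOfLE_ι, hl]
    have h₂ : O.ι ≫ pullback.snd (V U).ι (V U').ι = l ≫ Y.homOfLE (hmono (hW₂ z)) := by
      rw [← cancel_mono (V U').ι, Category.assoc, Category.assoc, Scheme.homOfLE_ι, hl]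
      exact congrArg (O.ι ≫ ·) pullback.condition.symm
    show O.ι ≫ pullback.fst _ _ ≫ g U = O.ι ≫ pullback.snd _ _ ≫ g U'
    rw [reassoc_of% h₁, reassoc_of% h₂, hg (hW₁ z), hg (hW₂ z)])
  have hf : ∀ U, (V U).ι ≫ f = g U := fun U => Scheme.Cover.ι_glueMorphisms 𝒱 g _ U
  have hgiso : ∀ U : X.affineOpens, g U = ((hVa U).isoSpec.hom ≫ Spec.map (φh U) ≫ U.2.isoSpec.inv) ≫ U.1.ι := by
    intro U
    simp only [g, Category.assoc, IsAffineOpen.isoSpec_inv_ι]
  have hφiso : ∀ U, IsIso (φh U) := fun U => (ConcreteCategory.isIso_iff_bijective _).2 (φ U).bijective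
  have hpre : ∀ U : X.affineOpens, f ⁻¹ᵁ U.1 = V U := by
    intro U
    refine le_antisymm (fun y hy => ?_) fun y hy => ?_
    · obtain ⟨U', hy'⟩ := Opens.mem_iSup.1 (hcover.ge (trivial : y ∈ (⊤ : Y.Opens)))
      obtain ⟨W, hW, hxW, hsub⟩ := exists_isAffineOpen_mem_and_subset (x := f y) (U := U.1 ⊓ U'.1) ⟨hy, by
        rw [show f y = g U' ⟨y, hy'⟩ from congrArg (fun q => q ⟨y, hy'⟩) (hf U'), hgiso]
        exact ((((hVa U').isoSpec.hom ≫ Spec.map (φh U') ≫ U'.2.isoSpec.inv)) ⟨y, hy'⟩).2⟩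
      let W' : X.affineOpens := ⟨W, hW⟩
      haveI := hφiso W'
      haveI := hφiso U'
      obtain ⟨y'', hy''⟩ := ((hVa W').isoSpec.hom ≫ Spec.map (φh W') ≫ hW.isoSpec.inv).homeomorph.surjective
        ⟨f y, hxW⟩
      have hle : W'.1 ≤ U'.1 := fun z hz => (hsub hz).2
      have e1 : g U' (Y.homOfLE (hmono hle) y'') = g U' ⟨y, hy'⟩ := by
        rw [← Scheme.Hom.comp_apply, hg hle, hgiso W',
          show g U' ⟨y, hy'⟩ = f y from (congrArg (fun q => q ⟨y, hy'⟩) (hf U')).symm]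
        exact congrArg Subtype.val hy''
      have hinj : Function.Injective (g U') := by
        rw [hgiso]
        exact U'.1.ι.isOpenEmbedding.injective.comp
          ((hVa U').isoSpec.hom ≫ Spec.map (φh U') ≫ U'.2.isoSpec.inv).homeomorph.injective
      have := congrArg Subtype.val (hinj e1)
      have hy2 : y''.1 = y := (congrArg (fun q => q y'') (Y.homOfLE_ι (hmono hle))).symm.trans this
      exact hmono (fun z hz => (hsub hz).1) (hy2 ▸ y''.2 : y ∈ V W')
    · show f y ∈ U.1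
      rw [show f y = g U ⟨y, hy⟩ from congrArg (fun q => q ⟨y, hy⟩) (hf U), hgiso]
      exact ((((hVa U).isoSpec.hom ≫ Spec.map (φh U) ≫ U.2.isoSpec.inv)) ⟨y, hy⟩).2
  haveI : IsIso f := by
    refine (IsZariskiLocalAtTarget.of_iSup_eq_top (P := MorphismProperty.isomorphisms Scheme.{u})
      (fun U : X.affineOpens => U.1) (iSup_affineOpens_eq_top X) fun U => ?_ :
      (MorphismProperty.isomorphisms Scheme.{u}) f)
    haveI := hφiso U
    have h1 : f ∣_ U.1 = (Y.isoOfEq (hpre U)).hom ≫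
        ((hVa U).isoSpec.hom ≫ Spec.map (φh U) ≫ U.2.isoSpec.inv) := by
      rw [← cancel_mono U.1.ι, morphismRestrict_ι, Category.assoc, ← hgiso, ← hf, Scheme.isoOfEq_hom_ι_assoc]
    show IsIso (f ∣_ U.1)
    rw [h1]
    infer_instance
  refine ⟨asIso f, fun U hU => ⟨?_, ?_⟩⟩
  · show Corr F U (f ⁻¹ᵁ U)
    rw [hpre ⟨U, hU⟩]
    exact hV ⟨U, hU⟩
  · show IsScalarMap F (f.app U)
    let U₀ : X.affineOpens := ⟨U, hU⟩
    have h1 : f.appLE U (V U₀) (hpre U₀).ge = φh U₀ := by
      refine Spec.map_injective ((cancel_mono hU.fromSpec).1 ?_)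
      rw [IsAffineOpen.SpecMap_appLE_fromSpec f hU (hVa U₀), ← cancel_epi (hVa U₀).isoSpec.hom,
        IsAffineOpen.isoSpec_hom_fromSpec_assoc, hf U₀]
    intro a M k hk n
    have key : ∀ (V' : Y.Opens) (e : f ⁻¹ᵁ U = V') (n : Γ((F.functor.obj M).obj, f ⁻¹ᵁ U)),
        (∀ n' : Γ((F.functor.obj M).obj, V'),
          (F.functor.map k).hom.app V' n' = f.appLE U V' e.ge a • n') →
        (F.functor.map k).hom.app (f ⁻¹ᵁ U) n = f.app U a • n := by
      rintro _ rfl n h
      rw [← Scheme.Hom.appLE_eq_app]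
      exact h n
    exact key _ (hpre U₀) n fun n' => by rw [h1]; exact hφ U₀ a M k hk n'

end Groth.Agent.RPSM
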