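import Groth.Agent.RPSM.QCohCat
import Groth.Agent.QCoh.Qcqs
import Groth.Agent.QCoh.Tilde
import Groth.Agent.FComplLib.KrullSupp
import Mathlib.CategoryTheory.Localization.Adjunction
import Mathlib.CategoryTheory.Adjunction.Restrict

/-!
# Quasi-coherent modules on a quasi-compact open as a quotient category
-/

universe u

set_option backward.isDefEq.respectTransparency false
set_option backward.isDefEq.respectTransparency.types false

open CategoryTheory CategoryTheory.Limits AlgebraicGeometry TopologicalSpace Opposite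
open scoped ZeroObject

namespace Groth.Agent.RPSM

variable {X : Scheme.{u}}

/-- Sections over opens of `W` vanish if the restriction to `W` is zero. -/
theorem eq_zero_of_isZero_restrict {W : X.Opens} {M : X.Modules}
    (h : IsZero ((Scheme.Modules.restrictFunctor W.ι).obj M)) {O : X.Opens} (hO : O ≤ W)
    (s : Γ(M, O)) : s = 0 := by
  have h0 : ∀ (O' : W.toScheme.Opens) (t : Γ(M, W.ι ''ᵁ O')), t = 0 := fun O' t => by
    exact congrArg (fun φ => Scheme.Modules.Hom.app φ O' t) (h.eq_of_src (𝟙 _) 0)
  have he : W.ι ''ᵁ (W.ι ⁻¹ᵁ O) = O := by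
    rw [Scheme.Hom.image_preimage_eq_opensRange_inf, Scheme.Opens.opensRange_ι, inf_eq_right.2 hO]
  revert s
  rw [← he]
  exact h0 _

/-- A restriction is zero when all sections over opens inside vanish. -/
theorem isZero_restrict_of_sections {W : X.Opens} {M : X.Modules}
    (h : ∀ O ≤ W, ∀ s : Γ(M, O), s = 0) :
    IsZero ((Scheme.Modules.restrictFunctor W.ι).obj M) := by
  rw [IsZero.iff_id_eq_zero]
  refine Scheme.Modules.hom_ext _ _ fun V => ?_
  ext s
  have hle : W.ι ''ᵁ V ≤ W := by
    rintro _ ⟨q, -, rfl⟩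
    exact q.2
  exact (h _ hle s).trans (h _ hle _).symm

theorem isZero_restrict_iff_support {W : X.Opens} {M : X.Modules} :
    IsZero ((Scheme.Modules.restrictFunctor W.ι).obj M) ↔ CohB1.support M ⊆ ((W : Set X))ᶜ := by
  refine ⟨fun h x hx hxW => hx <| subsingleton_of_forall_eq 0 fun t => ?_, fun h => ?_⟩
  · obtain ⟨V, hxV, m, rfl⟩ := M.presheaf.exists_germ_eq t
    rw [← TopCat.Presheaf.germ_res_apply (F := M.presheaf) (homOfLE (inf_le_left : V ⊓ W ≤ V)) x
      ⟨hxV, hxW⟩ m, eq_zero_of_isZero_restrict h inf_le_right (M.presheaf.map _ m)]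
    exact map_zero _
  · exact FComplLib.isZero_restrict_of_subsingleton_stalk M W fun x hx =>
      Classical.not_not.1 fun hs => h hs hx

variable (U : X.Opens)

/-- A morphism restricts to an isomorphism iff its kernel and cokernel live outside the open. -/
theorem isIso_restrict_iff {A B : X.Modules} (f : A ⟶ B) :
    IsIso ((Scheme.Modules.restrictFunctor U.ι).map f) ↔
      CohB1.support (kernel f) ⊆ ((U : Set X))ᶜ ∧ CohB1.support (cokernel f) ⊆ ((U : Set X))ᶜ := by
  rw [← isZero_restrict_iff_support, ← isZero_restrict_iff_support]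
  haveI : (Scheme.Modules.restrictFunctor U.ι).PreservesZeroMorphisms :=
    Functor.preservesZeroMorphisms_of_preserves_initial_object
  have e₁ := PreservesKernel.iso (Scheme.Modules.restrictFunctor U.ι) f
  have e₂ := PreservesCokernel.iso (Scheme.Modules.restrictFunctor U.ι) f
  constructor
  · intro hf
    exact ⟨(isZero_kernel_of_mono _).of_iso e₁, (isZero_cokernel_of_epi _).of_iso e₂⟩
  · rintro ⟨h₁, h₂⟩
    haveI : Mono ((Scheme.Modules.restrictFunctor U.ι).map f) :=
      Preadditive.mono_of_isZero_kernel _ (h₁.of_iso e₁.symm)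
    haveI : Epi ((Scheme.Modules.restrictFunctor U.ι).map f) :=
      Preadditive.epi_of_isZero_cokernel _ (h₂.of_iso e₂.symm)
    exact isIso_of_mono_of_epi _

/-- Restriction of quasi-coherent modules. -/
noncomputable abbrev qRestrict : QCohCat.QCoh X ⥤ QCohCat.QCoh (U : Scheme.{u}) :=
  ObjectProperty.lift (QCohCat.isQCoh (U : Scheme.{u}))
    (ObjectProperty.ι (QCohCat.isQCoh X) ⋙ Scheme.Modules.restrictFunctor U.ι)
    (fun M => @Scheme.Modules.isQuasicoherent_restrictFunctor (U : Scheme.{u}) X U.ι
      inferInstance M.obj M.property)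

theorem qRestrict_isLocalization [QuasiCompact U.ι] :
    (qRestrict U).IsLocalization
      ((MorphismProperty.isomorphisms _).inverseImage (qRestrict U)) := by
  let R : QCohCat.QCoh (U : Scheme.{u}) ⥤ QCohCat.QCoh X :=
    ObjectProperty.lift (QCohCat.isQCoh X)
      (ObjectProperty.ι (QCohCat.isQCoh (U : Scheme.{u})) ⋙ Scheme.Modules.pushforward U.ι)
      (fun M => QCoh.isQCoh_pushforward U.ι M.property)
  haveI : R.Full := inferInstance
  haveI : R.Faithful := inferInstance
  exact ((Scheme.Modules.restrictAdjunction U.ι).restrictFullyFaithful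
    (iC := ObjectProperty.ι (QCohCat.isQCoh X)) (iD := ObjectProperty.ι (QCohCat.isQCoh _))
    (ObjectProperty.fullyFaithfulι _) (ObjectProperty.fullyFaithfulι _)
    (L := qRestrict U) (R := R) (Iso.refl _) (Iso.refl _)).isLocalization

variable {U}

theorem exists_sub_zero_on_open [QuasiCompact U.ι] (V : X.Opens) (F : X.Modules) (hF : Coh.IsQCoh F)
    (h : IsZero ((Scheme.Modules.restrictFunctor (U ⊓ V).ι).obj F)) :
    ∃ (A : X.Modules) (i : A ⟶ F), Mono i ∧ Coh.IsQCoh A ∧
      IsZero ((Scheme.Modules.restrictFunctor U.ι).obj A) ∧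
      IsZero ((Scheme.Modules.restrictFunctor V.ι).obj (cokernel i)) := by
  let adj := Scheme.Modules.restrictAdjunction U.ι
  let P := (Scheme.Modules.pushforward U.ι).obj ((Scheme.Modules.restrictFunctor U.ι).obj F)
  let η : F ⟶ P := adj.unit.app F
  have hP : Coh.IsQCoh P := QCoh.isQCoh_pushforward U.ι
    (@Scheme.Modules.isQuasicoherent_restrictFunctor (U : Scheme.{u}) X U.ι inferInstance F hF)
  haveI : (Scheme.Modules.restrictFunctor U.ι).PreservesZeroMorphisms :=
    Functor.preservesZeroMorphisms_of_preserves_initial_object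
  refine ⟨kernel η, kernel.ι η, inferInstance, QCoh.isQCoh_kernel hF hP η, ?_, ?_⟩
  · haveI : IsIso ((Scheme.Modules.restrictFunctor U.ι).map η) :=
      inferInstanceAs (IsIso ((Scheme.Modules.restrictFunctor U.ι).map (adj.unit.app F)))
    exact (isZero_kernel_of_mono _).of_iso (PreservesKernel.iso _ η)
  · have hV : IsZero ((Scheme.Modules.restrictFunctor V.ι).obj P) :=
      isZero_restrict_of_sections fun O hO s => eq_zero_of_isZero_restrict h
        (le_inf (by rintro _ ⟨q, -, rfl⟩; exact q.2)
          ((U.ι.image_preimage_le O).trans hO)) s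
    exact IsZero.of_mono ((Scheme.Modules.restrictFunctor V.ι).map (cokernel.desc _ η (kernel.condition η))) hV

end Groth.Agent.RPSM
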