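import Groth.Agent.RPSM.GRSupp
import Groth.Agent.RPSM.QuotCat
import Groth.Agent.RPSM.EquivAffine
import Groth.Agent.QCoh.FT
import Mathlib.CategoryTheory.Localization.Equivalence

/-!
# An equivalence of categories of quasi-coherent modules on affine opens
-/

universe u

set_option linter.style.haveILetI false
set_option backward.isDefEq.respectTransparency false
set_option backward.isDefEq.respectTransparency.types false

open CategoryTheory CategoryTheory.Limits AlgebraicGeometry TopologicalSpace Opposite

namespace Groth.Agent.RPSM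

variable {X Y : Scheme.{u}}

/-- Multiplication by a scalar on a module. -/
noncomputable abbrev smulHom {A : Type u} [CommRing A] (N : ModuleCat.{u} A) (a : A) : N ⟶ N :=
  ModuleCat.ofHom (LinearMap.lsmul A N a)

theorem smulHom_naturality {A : Type u} [CommRing A] {N N' : ModuleCat.{u} A} (f : N ⟶ N') (a : A) :
    smulHom N a ≫ f = f ≫ smulHom N' a :=
  ModuleCat.hom_ext (LinearMap.ext fun x => map_smul f.hom a x)

/-- An equivalence of module categories transports scalars. -/
theorem exists_ringEquiv_of_equiv {A B : Type u} [CommRing A] [CommRing B]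
    (E : ModuleCat.{u} A ≌ ModuleCat.{u} B) :
    ∃ φ : A ≃+* B, ∀ (a : A) (N : ModuleCat.{u} A),
      E.functor.map (smulHom N a) = smulHom (E.functor.obj N) (φ a) := by
  haveI : E.functor.Additive := E.functor.additive_of_preserves_binary_products (C := ModuleCat.{u} A) (D := ModuleCat.{u} B)
  have hex : ∀ a : A, ∃ b : B, ∀ N : ModuleCat.{u} A,
      E.functor.map (smulHom N a) = smulHom (E.functor.obj N) b := fun a => by
    let R0 : ModuleCat.{u} B := ModuleCat.of B B
    let ρ : ∀ N : ModuleCat.{u} B, N ⟶ N := fun N =>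
      E.counitIso.inv.app N ≫ E.functor.map (smulHom (E.inverse.obj N) a) ≫ E.counitIso.hom.app N
    have hρ : ∀ {N N' : ModuleCat.{u} B} (f : N ⟶ N'), ρ N ≫ f = f ≫ ρ N' := fun {N N'} f => by
      have h0 := congrArg E.functor.map (smulHom_naturality (E.inverse.map f) a)
      rw [Functor.map_comp, Functor.map_comp] at h0
      have h1 : E.counitIso.hom.app N ≫ f = E.functor.map (E.inverse.map f) ≫ E.counitIso.hom.app N' :=
        (E.counitIso.hom.naturality f).symm
      have h2 : f ≫ E.counitIso.inv.app N' = E.counitIso.inv.app N ≫ E.functor.map (E.inverse.map f) :=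
        E.counitIso.inv.naturality f
      simp only [ρ, Category.assoc]
      rw [h1, reassoc_of% h0, reassoc_of% h2]
    let b : B := (ρ R0).hom (1 : B)
    have hb : ∀ (N : ModuleCat.{u} B), ρ N = smulHom N b := fun N => ModuleCat.hom_ext (LinearMap.ext fun n => by
      have h := congrArg (fun q : R0 ⟶ N => q.hom (1 : B))
        (hρ (ModuleCat.ofHom (LinearMap.toSpanSingleton B N n)))
      have h' : b • n = (ρ N).hom ((1 : B) • n) := h
      rw [one_smul] at h'
      exact h'.symm)
    refine ⟨b, fun N => ?_⟩
    have h := hb (E.functor.obj N)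
    simp only [ρ] at h
    have hu : E.functor.map (E.unitIso.hom.app N) ≫ E.counitIso.hom.app (E.functor.obj N) = 𝟙 _ :=
      E.functor_unitIso_comp N
    have hn := congrArg E.functor.map (smulHom_naturality (E.unitIso.hom.app N) a)
    rw [Functor.map_comp, Functor.map_comp] at hn
    rw [← h]
    have hinv : E.counitIso.inv.app (E.functor.obj N) = E.functor.map (E.unitIso.hom.app N) :=
      E.counitInv_app_functor N
    rw [hinv, ← Category.assoc, show E.functor.map (E.unitIso.hom.app N) ≫
      E.functor.map (smulHom (E.inverse.obj (E.functor.obj N)) a) =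
      E.functor.map (smulHom N a) ≫ E.functor.map (E.unitIso.hom.app N) from hn.symm, Category.assoc, hu]
    exact (Category.comp_id _).symm
  choose φ hφ using hex
  let N0 : ModuleCat.{u} A := E.inverse.obj (ModuleCat.of B B)
  let e0 := E.counitIso.app (ModuleCat.of B B)
  have hinj : ∀ b b' : B, smulHom (E.functor.obj N0) b = smulHom (E.functor.obj N0) b' → b = b' :=
    fun b b' h => by
      have h2 : smulHom (ModuleCat.of B B) b = smulHom (ModuleCat.of B B) b' := by
        rw [← cancel_epi e0.hom]
        exact (smulHom_naturality e0.hom b).symm.trans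
          ((congrArg (· ≫ e0.hom) h).trans (smulHom_naturality e0.hom b'))
      have h3 := congrArg (fun q : ModuleCat.of B B ⟶ ModuleCat.of B B => q.hom (1 : B)) h2
      simpa using h3
  have hφ1 : φ 1 = 1 := hinj _ _ (by
    rw [← hφ, show smulHom N0 (1 : A) = 𝟙 N0 from ModuleCat.hom_ext (LinearMap.ext fun x => one_smul A x),
      E.functor.map_id]
    exact ModuleCat.hom_ext (LinearMap.ext fun x => (one_smul B x).symm))
  have hφm : ∀ a a', φ (a * a') = φ a * φ a' := fun a a' => hinj _ _ (by
    rw [← hφ, show smulHom N0 (a * a') = smulHom N0 a' ≫ smulHom N0 a from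
      ModuleCat.hom_ext (LinearMap.ext fun x => mul_smul a a' x), Functor.map_comp, hφ, hφ]
    exact ModuleCat.hom_ext (LinearMap.ext fun x => (mul_smul (φ a) (φ a') x).symm))
  have hφa : ∀ a a', φ (a + a') = φ a + φ a' := fun a a' => hinj _ _ (by
    rw [← hφ, show smulHom N0 (a + a') = smulHom N0 a + smulHom N0 a' from
      ModuleCat.hom_ext (LinearMap.ext fun x => add_smul a a' x), Functor.map_add, hφ, hφ]
    exact ModuleCat.hom_ext (LinearMap.ext fun x => (add_smul (φ a) (φ a') x).symm))
  let ψ : A →+* B := RingHom.mk' ⟨⟨φ, hφ1⟩, hφm⟩ hφa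
  have hbij : Function.Bijective ψ := by
    refine ⟨fun a a' h => ?_, fun b => ?_⟩
    · have h1 : smulHom (ModuleCat.of A A) a = smulHom (ModuleCat.of A A) a' := E.functor.map_injective (by
        rw [hφ, hφ, show φ a = φ a' from h])
      have h3 := congrArg (fun q : ModuleCat.of A A ⟶ ModuleCat.of A A => q.hom (1 : A)) h1
      simpa using h3
    · let R0 : ModuleCat.{u} A := ModuleCat.of A A
      obtain ⟨l, hl⟩ := E.functor.map_surjective (smulHom (E.functor.obj R0) b)
      let a : A := l.hom (1 : A)
      have hla : l = smulHom R0 a := ModuleCat.hom_ext (LinearMap.ext fun x => by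
        have := l.hom.map_smul (x : A) (1 : A)
        rw [smul_eq_mul, mul_one] at this
        exact this.trans (mul_comm (x : A) a))
      refine ⟨a, hinj _ _ ?_⟩
      show smulHom (E.functor.obj N0) (φ a) = smulHom (E.functor.obj N0) b
      have hR : smulHom (E.functor.obj R0) (φ a) = smulHom (E.functor.obj R0) b := by rw [← hφ, ← hla, hl]
      refine ModuleCat.hom_ext (LinearMap.ext fun x => ?_)
      -- `E R0` is a separator
      obtain ⟨y, rfl⟩ := (e0.toLinearEquiv.symm).surjective x
      by_contra hne
      have hsep : IsSeparator (E.functor.obj R0) := IsSeparator.of_equivalence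
        ((Preadditive.isSeparator_iff R0).2 fun {N N'} q h => by
          ext n
          have := congrArg (fun t => t.hom (1 : A)) (h (ModuleCat.ofHom (LinearMap.toSpanSingleton A N n)))
          exact (congrArg q.hom (one_smul A n).symm).trans this) E
      have h0 : smulHom (E.functor.obj N0) (φ a) - smulHom (E.functor.obj N0) b = 0 :=
        (Preadditive.isSeparator_iff _).1 hsep _ fun g => by
          rw [Preadditive.comp_sub, ← smulHom_naturality, ← smulHom_naturality, hR, sub_self]
      exact hne (congrArg (fun q : E.functor.obj N0 ⟶ E.functor.obj N0 => q.hom _) (sub_eq_zero.1 h0))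
  exact ⟨RingEquiv.ofBijective ψ hbij, hφ⟩

/-- The sections over an open as a functor on quasi-coherent modules. -/
noncomputable def secFun (U : X.Opens) : QCohCat.QCoh X ⥤ ModuleCat.{u} Γ(X, U) where
  obj M := ModuleCat.of Γ(X, U) Γ(M.obj, U)
  map f := ModuleCat.ofHom
    { toFun := f.hom.app U
      map_add' := map_add (f.hom.app U).hom
      map_smul' := fun r x => f.hom.app_smul r x }
  map_id _ := rfl
  map_comp _ _ := rfl

/-- Morphisms which are isomorphisms on `U`. -/
def offW (U : X.Opens) : MorphismProperty (QCohCat.QCoh X) :=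
  (MorphismProperty.isomorphisms _).inverseImage (qRestrict U)

theorem offW_iff (U : X.Opens) {M N : QCohCat.QCoh X} (f : M ⟶ N) :
    offW U f ↔ CohB1.support (kernel f).obj ⊆ (U : Set X)ᶜ ∧
      CohB1.support (cokernel f).obj ⊆ (U : Set X)ᶜ := by
  have e₁ := support_of_iso (PreservesKernel.iso (QCohCat.isQCoh X).ι f)
  have e₂ := support_of_iso (PreservesCokernel.iso (QCohCat.isQCoh X).ι f)
  refine Iff.trans ?_ ((isIso_restrict_iff U f.hom).trans (and_congr
    ⟨fun h => e₁.le.trans h, fun h => e₁.ge.trans h⟩ ⟨fun h => e₂.le.trans h, fun h => e₂.ge.trans h⟩))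
  show IsIso ((qRestrict U).map f) ↔ _
  exact (isIso_iff_of_reflects_iso ((qRestrict U).map f) (QCohCat.isQCoh _).ι).symm

instance respectsIso_offW (U : X.Opens) : (offW U).RespectsIso :=
  inferInstanceAs ((MorphismProperty.isomorphisms _).inverseImage (qRestrict U)).RespectsIso

variable [CompactSpace X] [QuasiSeparatedSpace X]

theorem quasiCompact_ι {U : X.Opens} (hU : IsCompact (U : Set X)) : QuasiCompact U.ι := by
  haveI : CompactSpace (U : Scheme.{u}) := isCompact_iff_compactSpace.1 hU
  exact QuasiCompact.of_comp U.ι (terminal.from X)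

/-- Taking sections over an affine open is a localisation. -/
theorem secFun_isLocalization {U : X.Opens} (hU : IsAffineOpen U) :
    (secFun U).IsLocalization (offW U) := by
  let A := Γ(X, U)
  let S : X.Opens → Scheme.{u} := fun V => (V : Scheme.{u})
  haveI := quasiCompact_ι hU.isCompact
  haveI : (qRestrict U).IsLocalization (offW U) := qRestrict_isLocalization U
  -- the chart
  let j := hU.fromSpec
  let T : QCohCat.QCoh (Spec A) ⥤ ModuleCat.{u} A :=
    (QCohCat.isQCoh _).ι ⋙ moduleSpecΓFunctor
  let Tt : ModuleCat.{u} A ⥤ QCohCat.QCoh (Spec A) := ObjectProperty.lift (QCohCat.isQCoh _)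
    (tilde.functor A) (fun N => QCoh.isQCoh_spec_iff.2 ((tilde.functor A).obj_mem_essImage N))
  haveI : Tt.Full := inferInstanceAs (ObjectProperty.lift _ (tilde.functor A) _).Full
  haveI : Tt.Faithful := inferInstanceAs (ObjectProperty.lift _ (tilde.functor A) _).Faithful
  haveI : Tt.EssSurj := ⟨fun M => by
    obtain ⟨N, ⟨e⟩⟩ := QCoh.isQCoh_spec_iff.1 M.property
    exact ⟨N, ⟨ObjectProperty.isoMk _ e⟩⟩⟩
  haveI : Tt.IsEquivalence := {}
  let unit : 𝟭 (ModuleCat.{u} A) ≅ Tt ⋙ T := asIso (tilde.adjunction (R := A)).unit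
  let eT : Tt.asEquivalence.inverse ≅ T :=
    (Functor.rightUnitor _).symm ≪≫ Functor.isoWhiskerLeft _ unit ≪≫ (Functor.associator _ _ _).symm ≪≫
      Functor.isoWhiskerRight Tt.asEquivalence.counitIso T ≪≫ Functor.leftUnitor _
  haveI : T.IsEquivalence := Functor.isEquivalence_of_iso eT
  let ρ : QCohCat.QCoh (U : Scheme.{u}) ⥤ QCohCat.QCoh (Spec A) :=
    ObjectProperty.lift (QCohCat.isQCoh _)
      ((QCohCat.isQCoh _).ι ⋙ Scheme.Modules.restrictFunctor hU.isoSpec.inv)
      (fun M => QCoh.isQCoh_restrict hU.isoSpec.inv M.property)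
  let ρ' : QCohCat.QCoh (Spec A) ⥤ QCohCat.QCoh (U : Scheme.{u}) :=
    ObjectProperty.lift (QCohCat.isQCoh _)
      ((QCohCat.isQCoh _).ι ⋙ Scheme.Modules.restrictFunctor hU.isoSpec.hom)
      (fun M => QCoh.isQCoh_restrict hU.isoSpec.hom M.property)
  let c₁ : ρ ⋙ ρ' ≅ 𝟭 _ := NatIso.ofComponents
    (fun M => ObjectProperty.isoMk _
      ((Scheme.Modules.restrictFunctorComp hU.isoSpec.hom hU.isoSpec.inv).symm.app M.obj ≪≫
        (Scheme.Modules.restrictFunctorCongr hU.isoSpec.hom_inv_id).app M.obj ≪≫
        Scheme.Modules.restrictFunctorId.app M.obj))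
    (fun f => ObjectProperty.hom_ext _
      (((Scheme.Modules.restrictFunctorComp hU.isoSpec.hom hU.isoSpec.inv).symm ≪≫
        Scheme.Modules.restrictFunctorCongr hU.isoSpec.hom_inv_id ≪≫
        Scheme.Modules.restrictFunctorId).hom.naturality f.hom))
  let c₂ : ρ' ⋙ ρ ≅ 𝟭 _ := NatIso.ofComponents
    (fun M => ObjectProperty.isoMk _
      ((Scheme.Modules.restrictFunctorComp hU.isoSpec.inv hU.isoSpec.hom).symm.app M.obj ≪≫
        (Scheme.Modules.restrictFunctorCongr hU.isoSpec.inv_hom_id).app M.obj ≪≫
        Scheme.Modules.restrictFunctorId.app M.obj))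
    (fun f => ObjectProperty.hom_ext _
      (((Scheme.Modules.restrictFunctorComp hU.isoSpec.inv hU.isoSpec.hom).symm ≪≫
        Scheme.Modules.restrictFunctorCongr hU.isoSpec.inv_hom_id ≪≫
        Scheme.Modules.restrictFunctorId).hom.naturality f.hom))
  let eρ : QCohCat.QCoh (U : Scheme.{u}) ≌ QCohCat.QCoh (Spec A) := CategoryTheory.Equivalence.mk ρ ρ' c₁.symm c₂
  let eq : QCohCat.QCoh (U : Scheme.{u}) ≌ ModuleCat.{u} A := eρ.trans T.asEquivalence
  have hj : hU.isoSpec.inv ≫ U.ι = j := hU.isoSpec_inv_ι
  let e : qRestrict U ⋙ eq.functor ≅ secFun U := NatIso.ofComponents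
    (fun M => moduleSpecΓFunctor.mapIso
        ((Scheme.Modules.restrictFunctorComp hU.isoSpec.inv U.ι).symm.app M.obj ≪≫
          (Scheme.Modules.restrictFunctorCongr hj).app M.obj) ≪≫
      (QCoh.chartEquiv hU M.obj).symm.toModuleIso)
    (fun {M N} f => by
      have h := congrArg moduleSpecΓFunctor.map (((Scheme.Modules.restrictFunctorComp hU.isoSpec.inv U.ι).symm ≪≫
        Scheme.Modules.restrictFunctorCongr hj).hom.naturality f.hom)
      rw [Functor.map_comp, Functor.map_comp] at h
      refine (Category.assoc _ _ _).symm.trans ((congrArg (· ≫ _) h).trans ?_)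
      refine (Category.assoc _ _ _).trans (Eq.trans ?_ (Category.assoc _ _ _).symm)
      refine congrArg (_ ≫ ·) ?_
      ext z
      obtain ⟨w, rfl⟩ := (QCoh.chartEquiv hU M.obj).surjective z
      refine Eq.trans ?_ (congrArg (f.hom.app U) ((QCoh.chartEquiv hU M.obj).symm_apply_apply w)).symm
      refine (congrArg (QCoh.chartEquiv hU N.obj).symm ?_).trans ((QCoh.chartEquiv hU N.obj).symm_apply_apply _)
      exact ConcreteCategory.congr_hom
        (f.hom.mapPresheaf.naturality (homOfLE (QCoh.image_top_fromSpec hU).le).op) w)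
  exact Functor.IsLocalization.of_equivalence_target (qRestrict U) (offW U) (secFun U) eq e

variable [CompactSpace Y] [QuasiSeparatedSpace Y] (F : QCohCat.QCoh X ≌ QCohCat.QCoh Y)

omit [CompactSpace X] [QuasiSeparatedSpace X] [CompactSpace Y] [QuasiSeparatedSpace Y] in
theorem offW_map_iff {U : X.Opens} {V : Y.Opens} (h : Corr F U V) {M N : QCohCat.QCoh X} (f : M ⟶ N) :
    offW V (F.functor.map f) ↔ offW U f := by
  haveI : F.functor.PreservesZeroMorphisms := Functor.preservesZeroMorphisms_of_preserves_initial_object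
  have e₁ := support_of_iso ((QCohCat.isQCoh Y).ι.mapIso (PreservesKernel.iso F.functor f))
  have e₂ := support_of_iso ((QCohCat.isQCoh Y).ι.mapIso (PreservesCokernel.iso F.functor f))
  rw [offW_iff, offW_iff, h (kernel f), h (cokernel f)]
  exact and_congr ⟨fun hk => e₁.le.trans hk, fun hk => e₁.ge.trans hk⟩
    ⟨fun hk => e₂.le.trans hk, fun hk => e₂.ge.trans hk⟩

omit [CompactSpace X] [QuasiSeparatedSpace X] in
theorem qRestrict_equiv_isLocalization {U : X.Opens} {V : Y.Opens} (hV : IsCompact (V : Set Y))
    (h : Corr F U V) : (F.functor ⋙ qRestrict V).IsLocalization (offW U) := by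
  haveI := quasiCompact_ι hV
  haveI : (qRestrict V).IsLocalization (offW V) := qRestrict_isLocalization V
  refine Functor.IsLocalization.of_equivalence_source (qRestrict V) (offW V)
    (F.functor ⋙ qRestrict V) (offW U) F.symm ?_ ?_ ?_
  · intro M N f hf
    refine (offW U).le_isoClosure _ ((offW_map_iff F h _).1 ?_)
    refine (MorphismProperty.arrow_mk_iso_iff (offW V) ?_).2 hf
    exact Arrow.isoMk (F.counitIso.app M) (F.counitIso.app N) (F.counitIso.hom.naturality f).symm
  · intro M N f hf
    exact (offW_map_iff F h f).2 hf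
  · exact (Functor.associator _ _ _).symm ≪≫ Functor.isoWhiskerRight F.counitIso _ ≪≫ Functor.leftUnitor _

/-- The partner of an affine open is affine. -/
theorem isAffineOpen_of_corr {U : X.Opens} {V : Y.Opens} (hU : IsAffineOpen U)
    (hV : IsCompact (V : Set Y)) (h : Corr F U V) : IsAffineOpen V := by
  haveI := qRestrict_equiv_isLocalization F hV h
  haveI := secFun_isLocalization hU
  haveI : CompactSpace (V : Scheme.{u}) := isCompact_iff_compactSpace.1 hV
  haveI : QuasiSeparatedSpace (V : Scheme.{u}) :=
    (isQuasiSeparated_iff_quasiSeparatedSpace (V : Set Y) V.isOpen).1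
      (isQuasiSeparated_univ.of_subset (Set.subset_univ _))
  exact isAffine_of_equiv_moduleCat Γ(X, U)
    (Localization.uniq (F.functor ⋙ qRestrict V) (secFun U) (offW U))

omit [CompactSpace X] [QuasiSeparatedSpace X] in
theorem secFun_equiv_isLocalization {U : X.Opens} {V : Y.Opens} (hV : IsAffineOpen V)
    (h : Corr F U V) : (F.functor ⋙ secFun V).IsLocalization (offW U) := by
  haveI : (secFun V).IsLocalization (offW V) := secFun_isLocalization hV
  refine Functor.IsLocalization.of_equivalence_source (secFun V) (offW V)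
    (F.functor ⋙ secFun V) (offW U) F.symm ?_ ?_ ?_
  · intro M N f hf
    refine (offW U).le_isoClosure _ ((offW_map_iff F h _).1 ?_)
    refine (MorphismProperty.arrow_mk_iso_iff (offW V) ?_).2 hf
    exact Arrow.isoMk (F.counitIso.app M) (F.counitIso.app N) (F.counitIso.hom.naturality f).symm
  · intro M N f hf
    exact Localization.inverts (secFun V) (offW V) _ ((offW_map_iff F h f).2 hf)
  · exact (Functor.associator _ _ _).symm ≪≫ Functor.isoWhiskerRight F.counitIso _ ≪≫ Functor.leftUnitor _

/-- Scalars correspond: `h` acting as `a` over `U` is sent to an endomorphism acting as `φ a` over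
`V`. -/
theorem exists_ringEquiv_corr {U : X.Opens} {V : Y.Opens} (hU : IsAffineOpen U)
    (hV : IsAffineOpen V) (h : Corr F U V) :
    ∃ φ : Γ(X, U) ≃+* Γ(Y, V), ∀ (a : Γ(X, U)) (M : QCohCat.QCoh X) (g : M ⟶ M),
      (∀ m : Γ(M.obj, U), g.hom.app U m = a • m) →
        ∀ n : Γ((F.functor.obj M).obj, V), (F.functor.map g).hom.app V n = φ a • n := by
  haveI := secFun_equiv_isLocalization F hV h
  haveI := secFun_isLocalization hU
  let E := Localization.uniq (secFun U) (F.functor ⋙ secFun V) (offW U)
  let e : secFun U ⋙ E.functor ≅ F.functor ⋙ secFun V :=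
    Localization.compUniqFunctor (secFun U) (F.functor ⋙ secFun V) (offW U)
  obtain ⟨φ, hφ⟩ := exists_ringEquiv_of_equiv E
  refine ⟨φ, fun a M g hg n => ?_⟩
  have hg' : (secFun U).map g = smulHom ((secFun U).obj M) a :=
    ModuleCat.hom_ext (LinearMap.ext hg)
  have h1 : smulHom (E.functor.obj ((secFun U).obj M)) (φ a) ≫ e.hom.app M =
      e.hom.app M ≫ (secFun V).map (F.functor.map g) := by
    have := e.hom.naturality g
    rw [Functor.comp_map, Functor.comp_map, hg', hφ] at this
    exact this
  rw [smulHom_naturality, cancel_epi] at h1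
  exact (congrArg (fun q => q.hom n) h1).symm

end Groth.Agent.RPSM
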