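import Groth.Agent.RPSM.SuppClass
import Groth.Agent.RPSM.CompactQCoh
import Groth.Agent.RPSM.CohGen
import Groth.Agent.RPSM.FPMod
import Groth.Agent.LimMor.SmallProps
import Groth.Agent.QCoh.FT

/-!
# Equivalences of categories of quasi-coherent modules and supports
-/

universe u

set_option linter.style.haveILetI false
set_option backward.isDefEq.respectTransparency false
set_option backward.isDefEq.respectTransparency.types false

open CategoryTheory CategoryTheory.Limits AlgebraicGeometry TopologicalSpace Opposite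

attribute [local instance] Cardinal.fact_isRegular_aleph0

namespace Groth.Agent.RPSM

variable {X Y : Scheme.{u}}

theorem support_X₂_subset {S : ShortComplex X.Modules} (hS : S.ShortExact) :
    CohB1.support S.X₂ ⊆ CohB1.support S.X₁ ∪ CohB1.support S.X₃ := fun x hx => by
  by_contra h
  simp only [Set.mem_union, not_or, notMem_support_iff_isZero] at h
  exact (notMem_support_iff_isZero S.X₂ x).2
    ((hS.map_of_exact (DerSch.stalkFunctor X x)).exact.isZero_X₂ (h.1.eq_of_src _ _) (h.2.eq_of_tgt _ _)) hx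

theorem support_sigma_subset {ι : Type u} (M : ι → X.Modules) :
    CohB1.support (∐ M) ⊆ ⋃ i, CohB1.support (M i) := fun x hx => by
  by_contra h
  simp only [Set.mem_iUnion, not_exists, notMem_support_iff_isZero] at h
  haveI := (KFlatLib.skyAdj (X := X) x).leftAdjoint_preservesColimits
  refine (notMem_support_iff_isZero _ x).2 ?_ hx
  rw [IsZero.iff_id_eq_zero]
  exact (isColimitCofanMkObjOfIsColimit (DerSch.stalkFunctor X x) _ _ (coproductIsCoproduct M)).hom_ext
    fun ⟨i⟩ => (h i).eq_of_src _ _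

theorem isClosed_support_fp {G : X.Modules} (hG : CohB1.IsFP G) : IsClosed (CohB1.support G) :=
  QCoh.isClosed_support_of_isFT (QCoh.isQCoh_of_isFP hG) (QCoh.isFT_of_isFP hG)

theorem support_structureModule : CohB1.support (Coh.structureModule X) = Set.univ :=
  Set.eq_univ_of_forall fun x => by
    obtain ⟨U, hU, hxU⟩ := QCoh.exists_affine_mem x
    refine (QCoh.mem_support_iff QCoh.isQCoh_structureModule hU hxU).2 ⟨(1 : Γ(X, U)), fun a ha h0 => ?_⟩
    change a * 1 = 0 at h0
    rw [mul_one] at h0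
    subst h0
    rw [Scheme.basicOpen_zero] at ha
    exact ha

/-- A finitely presented module supported exactly on the complement of a quasi-compact open. -/
theorem exists_fp_support [CompactSpace X] [QuasiSeparatedSpace X] (U : X.Opens)
    (hU : IsCompact (U : Set X)) :
    ∃ G : X.Modules, Coh.IsQCoh G ∧ CohB1.IsFP G ∧ CohB1.support G = (U : Set X)ᶜ := by
  obtain ⟨I, hfg, hI⟩ := (LimMor.isCompact_open_iff_fg X U).1 hU
  let i := I.subschemeι
  let G := (Scheme.Modules.pushforward i).obj (Coh.structureModule I.subscheme)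
  have hG : Coh.IsQCoh G := QCoh.isQCoh_pushforward i QCoh.isQCoh_structureModule
  have hrange : Set.range i.base = (U : Set X)ᶜ := by
    rw [← hI]
    exact I.range_subschemeι
  refine ⟨G, hG, (QCoh.isFP_iff hG).2 fun V => ?_, Set.Subset.antisymm ?_ ?_⟩
  · let l : Γ(X, V.1) →ₗ[Γ(X, V.1)] Γ(G, V.1) :=
      { toFun := fun r => (show Γ(I.subscheme, i ⁻¹ᵁ V.1) from i.app V.1 r)
        map_add' := fun a b => map_add (i.app V.1).hom a b
        map_smul' := fun a b => map_mul (i.app V.1).hom a b }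
    refine Module.finitePresentation_of_surjective l (fun s => ?_) ?_
    · exact Scheme.Hom.app_surjective i V.1 V.2 s
    · have hk : LinearMap.ker l = I.ideal V := by
        ext r
        rw [← congrArg (fun J : X.IdealSheafData => J.ideal V) I.ker_subschemeι, Scheme.Hom.ker_apply]
        rfl
      rw [hk]
      exact hfg V
  · exact support_push_subset i _ U.isOpen.isClosed_compl fun z _ => hrange.le ⟨z, rfl⟩
  · intro x hx
    obtain ⟨z, rfl⟩ := hrange.ge hx
    haveI : IsIso (TopCat.Presheaf.stalkPushforward Ab.{u} i.base (Coh.structureModule I.subscheme).presheaf z) :=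
      TopCat.Presheaf.stalkPushforward.stalkPushforward_iso_of_isInducing Ab.{u}
        i.isEmbedding.isInducing _ z
    let e : G.presheaf.stalk (i.base z) ≃+ (Coh.structureModule I.subscheme).presheaf.stalk z :=
      (asIso (TopCat.Presheaf.stalkPushforward Ab.{u} i.base
        (Coh.structureModule I.subscheme).presheaf z)).addCommGroupIsoToAddEquiv
    intro hs
    exact (support_structureModule (X := I.subscheme)).ge (Set.mem_univ z) e.toEquiv.symm.subsingleton

/-- The skyscraper module `κ(y)` at `y`. -/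
noncomputable abbrev pointMod [QuasiSeparatedSpace X] (y : X) : QCohCat.QCoh X :=
  ⟨(Scheme.Modules.pushforward (X.fromSpecResidueField y)).obj (Coh.structureModule _),
    QCoh.isQCoh_pushforward _ QCoh.isQCoh_structureModule⟩

theorem mem_support_pointMod [QuasiSeparatedSpace X] (y : X) : y ∈ CohB1.support (pointMod y).obj := by
  intro hs
  let i := X.fromSpecResidueField y
  have hy : ∀ z, i.base z = y := fun z => Scheme.fromSpecResidueField_apply y z
  let one : Γ((pointMod y).obj, ⊤) := (1 : Γ(Spec (X.residueField y), i ⁻¹ᵁ ⊤))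
  have h0 : (pointMod y).obj.presheaf.germ ⊤ y trivial one =
      (pointMod y).obj.presheaf.germ ⊤ y trivial 0 := hs.elim _ _
  obtain ⟨O, hyO, i₁, i₂, h⟩ :=
    TopCat.Presheaf.germ_eq (C := AddCommGrpCat.{u}) (pointMod y).obj.presheaf y (U := ⊤) (V := ⊤) trivial trivial _ _ h0
  have hne : Nonempty (i ⁻¹ᵁ O : (Spec (X.residueField y)).Opens) := by
    obtain ⟨z⟩ : Nonempty (Spec (X.residueField y)) := inferInstance
    exact ⟨⟨z, show i.base z ∈ O by rw [hy z]; exact hyO⟩⟩
  obtain ⟨z⟩ := hne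
  have h1 : (1 : Γ(Spec (X.residueField y), i ⁻¹ᵁ O)) = 0 := by
    rw [map_zero] at h
    exact (map_one ((Spec (X.residueField y)).presheaf.map ((Opens.map i.base).map i₁).op).hom).symm.trans h
  haveI : Subsingleton Γ(Spec (X.residueField y), i ⁻¹ᵁ O) :=
    subsingleton_of_zero_eq_one h1.symm
  exact one_ne_zero ((map_one ((Spec (X.residueField y)).presheaf.germ _ z.1 z.2).hom).symm.trans
    ((congrArg _ h1).trans (map_zero _)))

theorem support_pointMod_subset [QuasiSeparatedSpace X] {y : X} {T : Set X} (hT : IsClosed T)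
    (hy : y ∈ T) : CohB1.support (pointMod y).obj ⊆ T :=
  support_push_subset (X.fromSpecResidueField y) _ hT fun z _ => by
    show (X.fromSpecResidueField y).base z ∈ T
    rw [show (X.fromSpecResidueField y).base z = y from Scheme.fromSpecResidueField_apply y z]
    exact hy

/-- The complement of the support of a finitely presented module is quasi-compact. -/
theorem isCompact_compl_support [CompactSpace X] [QuasiSeparatedSpace X] {G : X.Modules}
    (hG : CohB1.IsFP G) : IsCompact (CohB1.support G)ᶜ := by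
  have hq := QCoh.isQCoh_of_isFP hG
  obtain ⟨c, hc⟩ := isCompact_univ.elim_finite_subcover (fun U : X.affineOpens => (U.1 : Set X))
    (fun U => U.1.isOpen) fun x _ => by
      obtain ⟨_, ⟨U, hU, rfl⟩, hx, -⟩ :=
        X.isBasis_affineOpens.exists_subset_of_mem_open (Set.mem_univ x) isOpen_univ
      exact Set.mem_iUnion.2 ⟨⟨U, hU⟩, hx⟩
  have : (CohB1.support G)ᶜ = ⋃ U ∈ c, (CohB1.support G)ᶜ ∩ (U.1 : Set X) := by
    rw [← Set.inter_iUnion₂, Set.inter_eq_left.2 fun x _ => hc (Set.mem_univ x)]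
  rw [this]
  refine c.finite_toSet.isCompact_biUnion fun U _ => ?_
  haveI := QCoh.finitePresentation_of_isFP hG U.2
  obtain ⟨D, r, hfg, hle, hpow⟩ := SerreClass.exists_fg_le_annihilator (A := Γ(X, U.1)) Γ(G, U.1)
  have hs : Module.support Γ(X, U.1) Γ(G, U.1) = PrimeSpectrum.zeroLocus (D : Set Γ(X, U.1)) := by
    rw [Module.support_eq_zeroLocus]
    refine Set.Subset.antisymm (PrimeSpectrum.zeroLocus_anti_mono hle) fun p hp a ha => ?_
    exact p.isPrime.mem_of_pow_mem r (hp (hpow (Ideal.pow_mem_pow ha r)))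
  have hcpt : IsCompact (Module.support Γ(X, U.1) Γ(G, U.1))ᶜ :=
    (PrimeSpectrum.isCompact_isOpen_iff_ideal.2 ⟨D, hfg, by rw [hs]⟩).1
  have himg : (CohB1.support G)ᶜ ∩ (U.1 : Set X) =
      U.2.fromSpec.base '' (Module.support Γ(X, U.1) Γ(G, U.1))ᶜ := by
    ext x
    constructor
    · rintro ⟨hx, hxU⟩
      refine ⟨U.2.primeIdealOf ⟨x, hxU⟩, fun h => hx ((QCoh.mem_moduleSupport_iff hq U.2 hxU).1 h), ?_⟩
      exact U.2.fromSpec_primeIdealOf ⟨x, hxU⟩
    · rintro ⟨p, hp, rfl⟩
      have hxU : U.2.fromSpec.base p ∈ U.1 := U.2.range_fromSpec.le ⟨p, rfl⟩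
      refine ⟨fun h => hp ?_, hxU⟩
      have h' := (QCoh.mem_moduleSupport_iff hq U.2 hxU).2 h
      rwa [U.2.fromSpec.isOpenEmbedding.injective (U.2.fromSpec_primeIdealOf ⟨_, hxU⟩)] at h'
  rw [himg]
  exact hcpt.image U.2.fromSpec.continuous

variable [CompactSpace X] [QuasiSeparatedSpace X] [CompactSpace Y] [QuasiSeparatedSpace Y]
  (F : QCohCat.QCoh X ≌ QCohCat.QCoh Y)

omit [CompactSpace Y] in
theorem isFP_equiv {G : QCohCat.QCoh X} (hG : CohB1.IsFP G.obj) : CohB1.IsFP (F.functor.obj G).obj := by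
  haveI : IsFinitelyPresentable.{u} G := isFinitelyPresentable_qcoh G hG
  haveI : PreservesFilteredColimitsOfSize.{u, u} F.inverse := ⟨fun _ _ _ => inferInstance⟩
  haveI : F.inverse.IsCardinalAccessible Cardinal.aleph0.{u} :=
    Functor.IsFinitelyAccessible_iff_preservesFilteredColimitsOfSize.2 inferInstance
  exact isFP_of_isFinitelyPresentable _
    (F.toAdjunction.isCardinalPresentable_leftAdjoint_obj Cardinal.aleph0.{u} G)

omit [CompactSpace Y] [QuasiSeparatedSpace Y] in
/-- The image of a module supported in the support of `G` is supported in that of the image of `G`. -/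
theorem support_equiv_subset {G : QCohCat.QCoh X} (hG : CohB1.IsFP G.obj) (E : QCohCat.QCoh X)
    (h : CohB1.support E.obj ⊆ CohB1.support G.obj) :
    CohB1.support (F.functor.obj E).obj ⊆ CohB1.support (F.functor.obj G).obj := by
  let Φ := F.functor
  let T := CohB1.support (Φ.obj G).obj
  haveI : Φ.Additive := Functor.additive_of_preserves_binary_products _
  let P : ObjectProperty X.Modules := fun M => ∀ hM : Coh.IsQCoh M, CohB1.support (Φ.obj ⟨M, hM⟩).obj ⊆ T
  refine mem_of_support_subset P ?_ G.property hG (fun _ => subset_rfl) ?_ E.property h E.property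
  · intro S hS h₁ h₂ h₃
    let S' : ShortComplex (QCohCat.QCoh X) := ShortComplex.mk
      (ObjectProperty.homMk S.f : (⟨S.X₁, h₁⟩ : QCohCat.QCoh X) ⟶ ⟨S.X₂, h₂⟩)
      (ObjectProperty.homMk S.g : (⟨S.X₂, h₂⟩ : QCohCat.QCoh X) ⟶ ⟨S.X₃, h₃⟩)
      (ObjectProperty.hom_ext _ S.zero)
    haveI : Mono S'.f.hom := hS.mono_f
    haveI : Epi S'.g.hom := hS.epi_g
    haveI : Mono S'.f := (QCohCat.isQCoh X).ι.mono_of_mono_map (f := S'.f) ‹_›
    haveI : Epi S'.g := (QCohCat.isQCoh X).ι.epi_of_epi_map (f := S'.g) ‹_›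
    have hS' : S'.ShortExact :=
      { exact := (ShortComplex.exact_map_iff_of_faithful S' (QCohCat.isQCoh X).ι).1 hS.exact }
    have hΦ := (hS'.map_of_exact Φ).map_of_exact (QCohCat.isQCoh Y).ι
    haveI := hΦ.mono_f
    haveI := hΦ.epi_g
    exact ⟨fun hP => ⟨fun _ => (support_subset_of_mono ((S'.map Φ).map (QCohCat.isQCoh Y).ι).f).trans (hP h₂),
        fun _ => (support_subset_of_epi ((S'.map Φ).map (QCohCat.isQCoh Y).ι).g).trans (hP h₂)⟩,
      fun hP _ => (support_X₂_subset hΦ).trans (Set.union_subset (hP.1 h₁) (hP.2 h₃))⟩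
  · intro ι M hM hP hsum
    let M' : ι → QCohCat.QCoh X := fun i => ⟨M i, hM i⟩
    let L := Φ ⋙ (QCohCat.isQCoh Y).ι
    let e : (⟨∐ M, hsum⟩ : QCohCat.QCoh X) ≅ ∐ M' := ObjectProperty.isoMk _
      ((PreservesCoproduct.iso (QCohCat.isQCoh X).ι M').symm)
    refine (support_of_iso (L.mapIso e ≪≫ PreservesCoproduct.iso L M')).le.trans ?_
    exact (support_sigma_subset _).trans (Set.iUnion_subset fun i => hP i (hM i))

/-- `U` and `V` correspond under the equivalence. -/
def Corr (U : X.Opens) (V : Y.Opens) : Prop :=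
  ∀ M : QCohCat.QCoh X,
    CohB1.support M.obj ⊆ (U : Set X)ᶜ ↔ CohB1.support (F.functor.obj M).obj ⊆ (V : Set Y)ᶜ

/-- Every quasi-compact open has a partner. -/
theorem exists_corr (U : X.Opens) (hU : IsCompact (U : Set X)) :
    ∃ V : Y.Opens, IsCompact (V : Set Y) ∧ Corr F U V := by
  obtain ⟨G, hGq, hG, hGU⟩ := exists_fp_support U hU
  let G' : QCohCat.QCoh X := ⟨G, hGq⟩
  have hFG := isFP_equiv F (G := G') hG
  refine ⟨⟨(CohB1.support (F.functor.obj G').obj)ᶜ, (isClosed_support_fp hFG).isOpen_compl⟩,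
    isCompact_compl_support hFG, fun M => ?_⟩
  change _ ↔ _ ⊆ (CohB1.support (F.functor.obj G').obj)ᶜᶜ
  rw [compl_compl]
  refine ⟨fun h => support_equiv_subset F (G := G') hG M (by rwa [hGU]), fun h => ?_⟩
  have h1 := support_equiv_subset F.symm hFG (F.functor.obj M) h
  have eM := support_of_iso ((QCohCat.isQCoh X).ι.mapIso (F.unitIso.app M))
  have eG := support_of_iso ((QCohCat.isQCoh X).ι.mapIso (F.unitIso.app G'))
  exact (eM.le.trans (h1.trans eG.ge)).trans hGU.le

variable {F}

omit [CompactSpace X] [CompactSpace Y] [QuasiSeparatedSpace X] in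
theorem Corr.mono {U U' : X.Opens} {V V' : Y.Opens} (h : Corr F U V) (h' : Corr F U' V')
    (hle : U' ≤ U) : V' ≤ V := fun y hy => by
  by_contra hyV
  let M := F.inverse.obj (pointMod y)
  have e : F.functor.obj M ≅ pointMod y := F.counitIso.app (pointMod y)
  have hs := support_of_iso ((QCohCat.isQCoh Y).ι.mapIso e)
  have h1 : CohB1.support M.obj ⊆ (U : Set X)ᶜ :=
    (h M).2 (hs.le.trans (support_pointMod_subset V.isOpen.isClosed_compl hyV))
  exact (h' M).1 (h1.trans (Set.compl_subset_compl.2 hle)) (hs.ge (mem_support_pointMod y)) hy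

omit [CompactSpace X] [CompactSpace Y] [QuasiSeparatedSpace X] in
theorem Corr.unique {U : X.Opens} {V V' : Y.Opens} (h : Corr F U V) (h' : Corr F U V') : V = V' :=
  le_antisymm (h'.mono h le_rfl) (h.mono h' le_rfl)

omit [CompactSpace X] [CompactSpace Y] [QuasiSeparatedSpace X] [QuasiSeparatedSpace Y] in
theorem Corr.symm {U : X.Opens} {V : Y.Opens} (h : Corr F U V) : Corr F.symm V U := fun M => by
  have hs := support_of_iso ((QCohCat.isQCoh Y).ι.mapIso (F.counitIso.app M))
  exact ⟨fun hM => (h _).2 (hs.le.trans hM), fun hM => hs.ge.trans ((h _).1 hM)⟩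

omit [CompactSpace X] [CompactSpace Y] [QuasiSeparatedSpace X] in
/-- Partners of a finite cover cover. -/
theorem Corr.cover {ι : Type*} {U : X.Opens} {V : Y.Opens} (U' : ι → X.Opens) (V' : ι → Y.Opens)
    (h : Corr F U V) (h' : ∀ i, Corr F (U' i) (V' i)) (hle : (U : Set X) ⊆ ⋃ i, (U' i : Set X)) :
    (V : Set Y) ⊆ ⋃ i, (V' i : Set Y) := fun y hy => by
  by_contra hyV
  simp only [Set.mem_iUnion, not_exists] at hyV
  let M := F.inverse.obj (pointMod y)
  have e : F.functor.obj M ≅ pointMod y := F.counitIso.app (pointMod y)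
  have hs := support_of_iso ((QCohCat.isQCoh Y).ι.mapIso e)
  refine (h M).1 (fun x hx hxU => ?_) (hs.ge (mem_support_pointMod y)) hy
  obtain ⟨i, hi⟩ := Set.mem_iUnion.1 (hle hxU)
  exact (h' i M).2 (hs.le.trans (support_pointMod_subset (V' i).isOpen.isClosed_compl (hyV i))) hx hi

/-- Partners of intersections. -/
theorem Corr.inter {U₁ U₂ U : X.Opens} {V₁ V₂ V : Y.Opens} (h₁ : Corr F U₁ V₁) (h₂ : Corr F U₂ V₂)
    (h : Corr F U V) (hU₁ : IsCompact (U₁ : Set X)) (hU₂ : IsCompact (U₂ : Set X))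
    (hU : U₁ ⊓ U₂ ≤ U) : V₁ ⊓ V₂ ≤ V := by
  rintro y ⟨hy₁, hy₂⟩
  by_contra hyV
  obtain ⟨G₁, hq₁, hG₁, hs₁⟩ := exists_fp_support U₁ hU₁
  obtain ⟨G₂, hq₂, hG₂, hs₂⟩ := exists_fp_support U₂ hU₂
  let A₁ : QCohCat.QCoh X := ⟨G₁, hq₁⟩
  let A₂ : QCohCat.QCoh X := ⟨G₂, hq₂⟩
  let Φ := F.functor
  haveI : Φ.Additive := Functor.additive_of_preserves_binary_products _
  haveI : HasBinaryBiproducts (QCohCat.QCoh X) := HasBinaryBiproducts.of_hasBinaryProducts
  haveI : HasBinaryBiproducts (QCohCat.QCoh Y) := HasBinaryBiproducts.of_hasBinaryProducts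
  haveI : IsFinitelyPresentable.{u} A₁ := isFinitelyPresentable_qcoh A₁ hG₁
  haveI : IsFinitelyPresentable.{u} A₂ := isFinitelyPresentable_qcoh A₂ hG₂
  have hfp : CohB1.IsFP (A₁ ⊞ A₂).obj :=
    isFP_of_isFinitelyPresentable _ (isFinitelyPresentable_biprod A₁ A₂ ‹_› ‹_›)
  let S := ShortComplex.mk (biprod.inl : A₁ ⟶ A₁ ⊞ A₂) biprod.snd biprod.inl_snd
  have hS : S.ShortExact := (ShortComplex.Splitting.ofHasBinaryBiproduct A₁ A₂).shortExact
  have hX := hS.map_of_exact (QCohCat.isQCoh X).ι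
  have hY := (hS.map_of_exact Φ).map_of_exact (QCohCat.isQCoh Y).ι
  haveI := hX.mono_f
  haveI := hX.epi_g
  have hsX : (U : Set X)ᶜ ⊆ CohB1.support (A₁ ⊞ A₂).obj := fun x hx => by
    by_cases hx₁ : x ∈ U₁
    · refine support_subset_of_epi (S.map (QCohCat.isQCoh X).ι).g (hs₂.ge fun hx₂ => hx ?_)
      exact hU ⟨hx₁, hx₂⟩
    · exact support_subset_of_mono (S.map (QCohCat.isQCoh X).ι).f (hs₁.ge hx₁)
  let M := F.inverse.obj (pointMod y)
  have e : Φ.obj M ≅ pointMod y := F.counitIso.app (pointMod y)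
  have hs := support_of_iso ((QCohCat.isQCoh Y).ι.mapIso e)
  have h1 : CohB1.support M.obj ⊆ (U : Set X)ᶜ :=
    (h M).2 (hs.le.trans (support_pointMod_subset V.isOpen.isClosed_compl hyV))
  have h2 := support_equiv_subset F hfp M (h1.trans hsX) (hs.ge (mem_support_pointMod y))
  rcases support_X₂_subset hY h2 with h3 | h3
  · exact (h₁ A₁).1 hs₁.le h3 hy₁
  · exact (h₂ A₂).1 hs₂.le h3 hy₂

end Groth.Agent.RPSM
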