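import Groth.Agent.ArtinBoot49.EtaleQuot
import Groth.Agent.ArtinBoot49.FreeAtlas
import Groth.Agent.AlgSpLib.AffineDescProps

/-!
# Diagonals of quotient stacks: quasi-affine and affine
-/

set_option autoImplicit false
set_option backward.isDefEq.respectTransparency false
set_option backward.isDefEq.respectTransparency.types false
set_option linter.unusedVariables false

universe u

open CategoryTheory CategoryTheory.Functor CategoryTheory.Limits MonoidalCategory CartesianMonoidalCategory MonObj
open AlgebraicGeometry AlgSp Groth.Agent.AlgSpLib Groth.Agent.AlgSpDec Groth.Agent.AlgStLib Groth.Agent.FibBase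
open Groth.Agent.QuotLib Groth.Agent.ArtinBoot49

namespace Groth.Agent.RPSM

variable {S : Scheme.{u}}

/-- Quasi-compact immersion diagonal. -/
abbrev DiagQCImm : MorphismProperty (Sp S) :=
  RepWith (MorphismProperty.diagonal (@IsImmersion ⊓ @QuasiCompact : MorphismProperty Scheme.{u}))

theorem stableBC_isQuasiAffineMor : StableBC (IsQuasiAffineMor (S := S)) :=
  fun _ _ _ _ _ _ _ _ _ _ _ _ sq h => isQuasiAffineMor_of_isPullback sq h

theorem isQuasiAffineMor_comp_qcImm {F G H : Sp S} {f : F ⟶ G} {g : G ⟶ H}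
    (hf : RepWith (@IsImmersion ⊓ @QuasiCompact : MorphismProperty Scheme.{u}) f) (hg : IsQuasiAffineMor g) :
    IsQuasiAffineMor (f ≫ g) := by
  intro Z hZ z
  obtain ⟨W, i, fst, sq, hW⟩ := hg hZ z
  let W' := hf.rep.pullback fst
  have sq' := hf.rep.isPullback fst
  have hp : (@IsImmersion ⊓ @QuasiCompact : MorphismProperty Scheme.{u}) (hf.rep.snd fst).left :=
    hf.property_snd fst
  have : IsImmersion (hf.rep.snd fst).left := hp.1
  have : QuasiCompact (hf.rep.snd fst).left := hp.2
  have : W.left.IsQuasiAffine := hW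
  have : CompactSpace W'.left := QuasiCompact.compactSpace_of_compactSpace (hf.rep.snd fst).left
  refine ⟨W', hf.rep.snd fst ≫ i, hf.rep.fst fst, ?_, Scheme.IsQuasiAffine.of_isImmersion (hf.rep.snd fst).left⟩
  rw [Functor.map_comp]
  exact sq'.paste_vert sq

theorem cancels_isQuasiAffineMor : Cancels (IsQuasiAffineMor (S := S)) DiagQCImm := by
  intro X Y Z _ _ _ a b hab hb
  have h1 : RepWith (@IsImmersion ⊓ @QuasiCompact : MorphismProperty Scheme.{u}) (pullback.diagonal b) :=
    repWith_diagonal hb fun g hg => hg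
  have h2 := AlgSpPts.graph_property (f := a) h1
  have h3 : IsQuasiAffineMor (pullback.snd (a ≫ b) b) :=
    isQuasiAffineMor_of_isPullback (IsPullback.of_hasPullback (a ≫ b) b) hab
  have h4 := isQuasiAffineMor_comp_qcImm h2 h3
  rwa [pullback.lift_snd] at h4

/-- The diagonal is quasi-affine if a cover by a quasi-separated scheme is quasi-affine. -/
theorem repByAlgSpWith_isQuasiAffineMor_diag_of_cover {𝒳 : AlgSt.Cat S} {U : Over S}
    (hU : QuasiSeparated U.hom)
    (hΔ : AlgSt.RepByAlgSp1 (FibCat.diag (FibCat.toSelf 𝒳))) {p : FibCat.overCat U ⥤ᵇ 𝒳}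
    (hp : AlgSt.RepByAlgSpWith IsQuasiAffineMor p) (hes : LocEssSurj p) :
    AlgSt.RepByAlgSpWith IsQuasiAffineMor (FibCat.diag (FibCat.toSelf 𝒳)) := by
  let t := FibCat.toSelf 𝒳
  have hQb : StableBC (DiagQCImm (S := S)) := fun _ _ _ _ _ _ _ _ _ _ _ _ sq h => repWith_of_isPullback sq h
  have hself : AlgSt.RepByAlgSpWith DiagQCImm (FibCat.toSelf (FibCat.overCat U : AlgSt.Cat S)) :=
    repByAlgSpWith_toSelf_overCat hQb U fun k => (repWith_yon_map_iff _ _).2 (by
      have h : k.left = U.hom := by simpa using Over.w k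
      show (@IsImmersion ⊓ @QuasiCompact : MorphismProperty Scheme.{u}) (pullback.diagonal k.left)
      rw [h]
      exact ⟨inferInstanceAs (IsImmersion (pullback.diagonal U.hom)),
        inferInstanceAs (QuasiCompact (pullback.diagonal U.hom))⟩)
  have hfst : AlgSt.RepByAlgSpWith DiagQCImm (FibCat.fpFst (BasedFunctor.comp p t) (BasedFunctor.comp p t)) := by
    rw [comp_toSelf p]
    exact repByAlgSpWith_fpFst _ hself
  have hweak : AlgSt.RepByAlgSpWith IsQuasiAffineMor (weaken p p t) :=
    repByAlgSpWith_of_comp stableBC_isQuasiAffineMor cancels_isQuasiAffineMor hfst (repByAlgSpWith_fpFst p hp)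
  exact repByAlgSpWith_of_locEssSurj stableBC_isQuasiAffineMor
    (isLocalOnBase_fppf_of_fpqc isLocalOnBase_fpqc_isQuasiAffineMor) hΔ (locEssSurj_pairMap t hes hes)
    ((repByAlgSpWith_iff_of_square (f' := weaken p p t) (f := FibCat.fpFst (pairMap p p t) (FibCat.diag t))
      (a := diagComparison p p t) (b := BasedFunctor.id _) (diagComparison_isEquivOver p p t) isEquivOver_id
      (Iso.refl _)).2 hweak)

variable {G : Over S} [GrpObj G] {X : Over S}

local notation "K₀" => Scheme.fppfPrecoverage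

theorem repByAlgSpWith_isAffineMor_quotOver [IsAffineHom G.hom] (aX : AlgGrp.Action G X) :
    AlgSt.RepByAlgSpWith IsAffineMor (quotOver K₀ G aX) :=
  repByAlgSpWith_quot _ fun A U eU => by
    subst eU
    rw [eqToHom_refl, Category.comp_id]
    exact isAffineMor_π A

theorem isQuasiAffineMor_of_isAffineMor {F G : Sp S} {f : F ⟶ G} (hf : IsAffineMor f) : IsQuasiAffineMor f := by
  intro Z hZ z
  obtain ⟨W, i, fst, sq, hW⟩ := hf hZ z
  exact ⟨W, i, fst, sq, inferInstance⟩

theorem repByAlgSpWith_isQuasiAffineMor_diag_quot [IsAffineHom G.hom] [Flat G.hom]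
    [LocallyOfFinitePresentation G.hom] [QuasiSeparated X.hom] (aX : AlgGrp.Action G X) :
    AlgSt.RepByAlgSpWith IsQuasiAffineMor (FibCat.diag (FibCat.toSelf (AlgSt.QuotSt K₀ G aX))) :=
  repByAlgSpWith_isQuasiAffineMor_diag_of_cover inferInstance (repByAlgSp1_diag_quotSt aX)
    (repByAlgSpWith_mono (fun _ _ _ h => isQuasiAffineMor_of_isAffineMor h)
      (repByAlgSpWith_isAffineMor_quotOver aX)) (quot_cover_locEssSurj aX)

end Groth.Agent.RPSM

namespace Groth.Agent.RPSM

variable {S : Scheme.{u}}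

theorem repBySpWith_of_overMap {P : MorphismProperty (Sp S)} (hPb : StableBC P) {U V : Over S} {k : V ⟶ U}
    (h : AlgSt.RepByAlgSpWith P (AlgSt.overMap k)) : P ((yon S).map k) := by
  let a := ((yon S).map k).hom
  have h1 := repByAlgSpWith_of_iso (overMapIso k).symm h
  have h2 : AlgSt.RepByAlgSpWith P (BasedFunctor.comp (AlgSt.ofOverCat V) (Stk.ofPshMap a)) :=
    (repByAlgSpWith_iff_of_square
      (f := BasedFunctor.comp (BasedFunctor.comp (AlgSt.ofOverCat V) (Stk.ofPshMap a)) (AlgSt.toOverCat U))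
      (f' := BasedFunctor.comp (AlgSt.ofOverCat V) (Stk.ofPshMap a)) (a := BasedFunctor.id _)
      (b := AlgSt.toOverCat U) isEquivOver_id (isEquivOver_toOverCat U) (Iso.refl _)).1 h1
  have h3 : RepBySpWith P a := repBySpWith_of_repByAlgSpWith _ (AlgSt.toOverCat V) hPb (isEquivOver_toOverCat V) h2
    (whiskerRightIso (toOverCatIso V) (Stk.ofPshMap a))
  have sq : IsPullback (𝟙 _) a a (𝟙 _) := IsPullback.of_horiz_isIso ⟨by simp⟩
  obtain ⟨h', -, hP⟩ := h3 (𝟙 _) _ _ sq
  exact hP

theorem isAffineHom_diagonal_of_repByAlgSpWith {X : Over S}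
    (h : AlgSt.RepByAlgSpWith IsAffineMor (FibCat.diag (FibCat.toSelf (FibCat.overCat X : AlgSt.Cat S)))) :
    IsAffineHom (pullback.diagonal X.hom) := by
  let δ : X ⟶ X ⨯ X := prod.lift (𝟙 X) (𝟙 X)
  let cmp : ∀ x : (FibCat.overCat X).obj, (BasedFunctor.comp (AlgSt.overMap δ) (sliceProd X X)).obj x ≅
      (BasedFunctor.comp (BasedFunctor.id _) (FibCat.diag (FibCat.toSelf (FibCat.overCat X)))).obj x := fun x =>
    (FibCat.fpProp _ _).isoMk (CategoricalPullback.mkIso
      (Over.isoMk (Iso.refl _) (by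
        show 𝟙 x.left ≫ x.hom = (x.hom ≫ δ) ≫ prod.fst
        simp [δ]))
      (Over.isoMk (Iso.refl _) (by
        show 𝟙 x.left ≫ x.hom = (x.hom ≫ δ) ≫ prod.snd
        simp [δ]))
      (self_w (x := (BasedFunctor.comp (AlgSt.overMap δ) (sliceProd X X)).obj x)
        (y := (BasedFunctor.comp (BasedFunctor.id _) (FibCat.diag (FibCat.toSelf (FibCat.overCat X)))).obj x)
        _ _ x.left (by refine isHomLift_id_of_map_eq (p := Over.forget X) ?_ ?_ ?_ <;> rfl)
        (by refine isHomLift_id_of_map_eq (p := Over.forget X) ?_ ?_ ?_ <;> rfl)))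
  let e : BasedFunctor.comp (AlgSt.overMap δ) (sliceProd X X) ≅
      BasedFunctor.comp (BasedFunctor.id _) (FibCat.diag (FibCat.toSelf (FibCat.overCat X))) :=
    BasedNatIso.mkNatIso (NatIso.ofComponents cmp (fun {x y} φ =>
      ObjectProperty.hom_ext _ (CategoricalPullback.hom_ext
        (Over.OverMorphism.ext ((Category.comp_id φ.left).trans (Category.id_comp φ.left).symm))
        (Over.OverMorphism.ext ((Category.comp_id φ.left).trans (Category.id_comp φ.left).symm)))))
      (fun x => fp_isHomLift (F := FibCat.toSelf (FibCat.overCat X)) (G := FibCat.toSelf (FibCat.overCat X))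
        (𝟙 x.left) _ (h := by refine isHomLift_id_of_map_eq (p := Over.forget X) ?_ ?_ ?_ <;> rfl))
  have hδ : AlgSt.RepByAlgSpWith IsAffineMor (AlgSt.overMap δ) :=
    (repByAlgSpWith_iff_of_square (f' := AlgSt.overMap δ)
      (f := FibCat.diag (FibCat.toSelf (FibCat.overCat X))) (a := BasedFunctor.id _) (b := sliceProd X X)
      isEquivOver_id (sliceProd_isEquivOver X X) e).1 h
  have h1 : IsAffineHom δ.left :=
    (repWith_yon_map_iff _ _).1 (repWith_isAffineHom_of_isAffineMor (repBySpWith_of_overMap stableBC_isAffineMor hδ))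
  have h2 : δ.left ≫ (Over.prodLeftIsoPullback X X).hom = pullback.diagonal X.hom := by
    apply pullback.hom_ext
    · rw [Category.assoc, Over.prodLeftIsoPullback_hom_fst, ← Over.comp_left, prod.lift_fst,
        pullback.diagonal_fst]
      rfl
    · rw [Category.assoc, Over.prodLeftIsoPullback_hom_snd, ← Over.comp_left, prod.lift_snd,
        pullback.diagonal_snd]
      rfl
  rw [← h2]
  exact inferInstance

variable {G : Over S} [GrpObj G] {X : Over S}

local notation "K₀" => Scheme.fppfPrecoverage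

theorem isAffineMor_of_isIso {F H : Sp S} (φ : F ⟶ H) [IsIso φ] : IsAffineMor φ :=
  isAffineMor_of_repWith le_rfl (repWith_of_isIso _ φ)

theorem isAffineHom_diagonal_of_diag_quot [IsAffineHom G.hom] [Flat G.hom]
    [LocallyOfFinitePresentation G.hom] (aX : AlgGrp.Action G X)
    (h : AlgSt.RepByAlgSpWith IsAffineMor (FibCat.diag (FibCat.toSelf (AlgSt.QuotSt K₀ G aX)))) :
    IsAffineHom (pullback.diagonal X.hom) := by
  apply isAffineHom_diagonal_of_repByAlgSpWith
  let p := quotOver K₀ G aX
  have hp := repByAlgSpWith_isAffineMor_quotOver aX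
  have hfst : AlgSt.RepByAlgSpWith DiagAff (FibCat.fpFst p p) :=
    repByAlgSpWith_fpFst p (repByAlgSpWith_mono (fun _ _ f (hf : IsAffineMor f) =>
      repWith_mono (fun _ _ g (hg : IsAffineHom g) => inferInstanceAs (IsAffineHom (pullback.diagonal g))) _
        (repWith_isAffineHom_of_isAffineMor hf)) hp)
  have hdp : AlgSt.RepByAlgSpWith IsAffineMor (FibCat.diag p) :=
    repByAlgSpWith_of_comp stableBC_isAffineMor cancels_isAffineMor hfst
      (repByAlgSpWith_of_iso (Iso.refl _)
        (repByAlgSpWith_of_isEquivOver (fun φ _ => isAffineMor_of_isIso φ) isEquivOver_id))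
  have := repByAlgSpWith_diag_comp stableBC_isAffineMor stableComp_isAffineMor
    (isLocalOnBase_fppf_of_fpqc isLocalOnBase_fpqc_isAffineMor) (isFibGrpd_overCat X)
    (isStack_quotSt (aX := aX)).1 hdp h
  rwa [comp_toSelf p] at this

end Groth.Agent.RPSM
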