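import Groth.Agent.ZClosLib.ColimSections
import Mathlib.AlgebraicGeometry.Noetherian
import Mathlib.CategoryTheory.Limits.ConcreteCategory.Filtered

/-!
# Sections over compact opens of filtered colimits of modules, for directed index sets
-/

universe u

open CategoryTheory CategoryTheory.Limits AlgebraicGeometry TopologicalSpace Opposite

namespace Groth.Agent.RPSM

open ZClosLib (res res_res res_self app_res germ_res stalkMap stalkMap_germ exists_res_eq_of_germ_eq section_ext res_eq_of_cover exists_glue)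

variable {X : Scheme.{u}} {M N : X.Modules}

variable {J : Type u} [PartialOrder J] [IsDirected J (· ≤ ·)] [Nonempty J] {D : J ⥤ X.Modules} {c : Cocone D}

theorem stalk_exists_rep (hc : IsColimit c) (x : X) (z : c.pt.presheaf.stalk x) :
    ∃ (j : J) (y : (D.obj j).presheaf.stalk x), stalkMap (c.ι.app j) x y = z :=
  Concrete.isColimit_exists_rep _ (isColimitOfPreserves (KFlatLib.stalkAb x) hc) z

theorem stalk_eq_iff (hc : IsColimit c) (x : X) {i : J} (y y' : (D.obj i).presheaf.stalk x) :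
    stalkMap (c.ι.app i) x y = stalkMap (c.ι.app i) x y' ↔
      ∃ (k : J) (h : i ≤ k), stalkMap (D.map (homOfLE h)) x y = stalkMap (D.map (homOfLE h)) x y' := by
  refine ⟨fun h => ?_, fun ⟨k, h, e⟩ => ?_⟩
  · obtain ⟨k, f, g, e⟩ := (Concrete.isColimit_rep_eq_iff_exists _
      (isColimitOfPreserves (KFlatLib.stalkAb x) hc) y y').1 h
    refine ⟨k, f.le, ?_⟩
    rw [Subsingleton.elim g f] at e
    rw [Subsingleton.elim (homOfLE f.le) f]
    exact e
  · rw [← c.w (homOfLE h)]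
    show (KFlatLib.stalkAb x).map (D.map (homOfLE h) ≫ c.ι.app k) y =
      (KFlatLib.stalkAb x).map (D.map (homOfLE h) ≫ c.ι.app k) y'
    rw [Functor.map_comp, ConcreteCategory.comp_apply, ConcreteCategory.comp_apply]
    exact congrArg _ e

theorem map_map_app {i j k : J} (h : i ≤ j) (h' : j ≤ k) (V : X.Opens) (s : Γ(D.obj i, V)) :
    (D.map (homOfLE h')).app V ((D.map (homOfLE h)).app V s) = (D.map (homOfLE (h.trans h'))).app V s := by
  rw [← homOfLE_comp h h', Functor.map_comp, Scheme.Modules.Hom.comp_app, ConcreteCategory.comp_apply]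

theorem ι_map_app (c : Cocone D) {i k : J} (h : i ≤ k) (V : X.Opens) (s : Γ(D.obj i, V)) :
    (c.ι.app k).app V ((D.map (homOfLE h)).app V s) = (c.ι.app i).app V s := by
  rw [← c.w (homOfLE h), Scheme.Modules.Hom.comp_app, ConcreteCategory.comp_apply]

/-- A relation between sections of a filtered colimit over a compact open holds at a finite stage. -/
theorem exists_eq_stage (hc : IsColimit c) {V : X.Opens} (hV : IsCompact (V : Set X)) {i : J}
    (s t : Γ(D.obj i, V)) (h : (c.ι.app i).app V s = (c.ι.app i).app V t) :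
    ∃ (k : J) (h : i ≤ k), (D.map (homOfLE h)).app V s = (D.map (homOfLE h)).app V t := by
  classical
  have key : ∀ x : V, ∃ (k : J) (hk : i ≤ k) (W : X.Opens) (hW : W ≤ V), x.1 ∈ W ∧
      res _ hW ((D.map (homOfLE hk)).app V s) = res _ hW ((D.map (homOfLE hk)).app V t) := fun x => by
    have := congrArg (c.pt.presheaf.germ V x.1 x.2) h
    rw [← stalkMap_germ, ← stalkMap_germ] at this
    obtain ⟨k, hk, hk'⟩ := (stalk_eq_iff hc x.1 _ _).1 this
    rw [stalkMap_germ, stalkMap_germ] at hk'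
    obtain ⟨W, h₁, h₂, hxW, e⟩ := exists_res_eq_of_germ_eq _ x.2 x.2 _ _ hk'
    exact ⟨k, hk, W, h₁, hxW, e⟩
  choose k hk W hW hxW he using key
  obtain ⟨T, hT⟩ := hV.elim_finite_subcover (fun x : V => (W x : Set X)) (fun x => (W x).2)
    fun x hx => Set.mem_iUnion.2 ⟨⟨x, hx⟩, hxW ⟨x, hx⟩⟩
  obtain ⟨m, hm⟩ := Finset.exists_le (insert i (T.image k))
  have him : i ≤ m := hm i (Finset.mem_insert_self _ _)
  have hkm : ∀ a : T, k a.1 ≤ m := fun a => hm _ (Finset.mem_insert_of_mem (Finset.mem_image_of_mem k a.2))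
  refine ⟨m, him, res_eq_of_cover _ (fun a : T => W a.1) (fun a => hW _) (fun x hx => ?_) _ _ fun a => ?_⟩
  · obtain ⟨a, ha, hxa⟩ := Set.mem_iUnion₂.1 (hT hx)
    exact ⟨⟨a, ha⟩, hxa⟩
  · rw [← map_map_app (hk a.1) (hkm a) V s, ← map_map_app (hk a.1) (hkm a) V t,
      ← app_res (D.map (homOfLE (hkm a))) (hW a.1), ← app_res (D.map (homOfLE (hkm a))) (hW a.1), he]

/-- A section of a filtered colimit over a compact quasi-separated open comes from a finite stage. -/
theorem exists_stage' (hc : IsColimit c) {V : X.Opens} (hV : IsCompact (V : Set X))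
    (hVq : IsQuasiSeparated (V : Set X))
    (s : Γ(c.pt, V)) : ∃ (j : J) (a : Γ(D.obj j, V)), (c.ι.app j).app V a = s := by
  classical
  have key : ∀ x : V, ∃ (j : J) (W : X.Opens) (hW : W ≤ V) (a : Γ(D.obj j, W)), x.1 ∈ W ∧
      IsCompact (W : Set X) ∧ (c.ι.app j).app W a = res c.pt hW s := fun x => by
    obtain ⟨j, y, hy⟩ := stalk_exists_rep hc x.1 (c.pt.presheaf.germ V x.1 x.2 s)
    obtain ⟨U, hxU, a, rfl⟩ := TopCat.Presheaf.germ_exist (D.obj j).presheaf y
    rw [stalkMap_germ] at hy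
    obtain ⟨W₀, h₁, h₂, hx₀, e⟩ := exists_res_eq_of_germ_eq _ hxU x.2 _ _ hy
    obtain ⟨_, ⟨W, hWaff, rfl⟩, hxW, hle⟩ := X.isBasis_affineOpens.exists_subset_of_mem_open (show x.1 ∈ W₀ from hx₀) W₀.2
    refine ⟨j, W, (show W ≤ W₀ from hle).trans h₂, res _ ((show W ≤ W₀ from hle).trans h₁) a, hxW, hWaff.isCompact, ?_⟩
    rw [app_res, ← res_res _ (show W ≤ W₀ from hle) h₁, e]
    exact res_res c.pt _ _ s
  choose j W hW a hxW hWc he using key
  obtain ⟨T, hT⟩ := hV.elim_finite_subcover (fun x : V => (W x : Set X)) (fun x => (W x).2)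
    fun x hx => Set.mem_iUnion.2 ⟨⟨x, hx⟩, hxW ⟨x, hx⟩⟩
  obtain ⟨m, hm⟩ : ∃ m : J, ∀ p : T, j p.1 ≤ m := by
    obtain ⟨m, hm⟩ := Finset.exists_le (T.image j)
    exact ⟨m, fun p => hm _ (Finset.mem_image_of_mem j p.2)⟩
  let b : ∀ p : T, Γ(D.obj m, W p.1) := fun p => (D.map (homOfLE (hm p))).app _ (a p.1)
  have hb : ∀ p, (c.ι.app m).app _ (b p) = res c.pt (hW p.1) s := fun p => by rw [ι_map_app, he]
  have hagree : ∀ pq : T × T, ∃ (n : J) (hn : m ≤ n),
      (D.map (homOfLE hn)).app _ (res _ (inf_le_left : W pq.1.1 ⊓ W pq.2.1 ≤ _) (b pq.1)) =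
        (D.map (homOfLE hn)).app _ (res _ (inf_le_right : W pq.1.1 ⊓ W pq.2.1 ≤ _) (b pq.2)) := fun pq => by
    refine exists_eq_stage hc ?_ _ _ ?_
    · exact hVq _ _ (hW _) (W pq.1.1).2 (hWc _) (hW _) (W pq.2.1).2 (hWc _)
    · rw [app_res, app_res, hb, hb]
      exact (res_res c.pt _ _ s).trans (res_res c.pt _ _ s).symm
  choose n hn hne using hagree
  obtain ⟨M', hM'⟩ := Finset.exists_le (insert m (Finset.univ.image n))
  have hmM : m ≤ M' := hM' m (Finset.mem_insert_self _ _)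
  obtain ⟨t, ht⟩ := exists_glue (D.obj M') (fun p : T => W p.1) (fun p => hW _) (fun x hx => by
      obtain ⟨p, hp, hxp⟩ := Set.mem_iUnion₂.1 (hT hx)
      exact ⟨⟨p, hp⟩, hxp⟩) (fun p => (D.map (homOfLE hmM)).app _ (b p)) fun p q => by
    rw [← app_res (D.map (homOfLE hmM)) (inf_le_left : W p.1 ⊓ W q.1 ≤ _),
      ← app_res (D.map (homOfLE hmM)) (inf_le_right : W p.1 ⊓ W q.1 ≤ _)]
    have hle : n (p, q) ≤ M' := hM' _ (Finset.mem_insert_of_mem (Finset.mem_image_of_mem n (Finset.mem_univ _)))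
    rw [← map_map_app (hn (p, q)) hle _ (res _ inf_le_left (b p)),
      ← map_map_app (hn (p, q)) hle _ (res _ inf_le_right (b q))]
    exact congrArg _ (hne (p, q))
  refine ⟨M', t, res_eq_of_cover c.pt (fun p : T => W p.1) (fun p => hW _) (fun x hx => ?_) _ _ fun p => ?_⟩
  · obtain ⟨p, hp, hxp⟩ := Set.mem_iUnion₂.1 (hT hx)
    exact ⟨⟨p, hp⟩, hxp⟩
  · rw [← app_res, ht, ι_map_app, hb]

/-- A section of a filtered colimit over a compact open comes from a finite stage. -/
theorem exists_stage [QuasiSeparatedSpace X] (hc : IsColimit c) {V : X.Opens} (hV : IsCompact (V : Set X))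
    (s : Γ(c.pt, V)) : ∃ (j : J) (a : Γ(D.obj j, V)), (c.ι.app j).app V a = s :=
  exists_stage' hc hV (fun _ _ _ h₁ h₁' _ h₂ h₂' => QuasiSeparatedSpace.inter_isCompact _ _ h₁ h₁' h₂ h₂') s

end Groth.Agent.RPSM
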