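import Mathlib

/-!
# Classes of modules closed under subquotients, extensions and sums, generated by a finitely
presented module
-/

universe u

open CategoryTheory CategoryTheory.Limits

namespace Groth.Agent.RPSM.SerreClass

variable {A : Type u} [CommRing A]

/-- A vector-row determinant in the span of the generators is in the ideal of their determinants. -/
theorem det_mem_span {r : ℕ} {σ : Type*} [Fintype σ] (v : σ → (Fin r → A)) (w : Fin r → (Fin r → A))
    (hw : ∀ i, w i ∈ Submodule.span A (Set.range v)) :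
    Matrix.detRowAlternating w ∈
      Ideal.span (Set.range fun f : Fin r → σ => Matrix.detRowAlternating (v ∘ f)) := by
  classical
  choose c hc using fun i => (Submodule.mem_span_range_iff_exists_fun A).1 (hw i)
  rw [show w = fun i => ∑ j, c i j • v j from funext fun i => (hc i).symm,
    ← AlternatingMap.coe_multilinearMap, MultilinearMap.map_sum]
  refine Ideal.sum_mem _ fun f _ => ?_
  rw [MultilinearMap.map_smul_univ, smul_eq_mul]
  exact Ideal.mul_mem_left _ _ (Ideal.subset_span ⟨f, rfl⟩)

/-- A finitely generated ideal between a power of the annihilator and the annihilator. -/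
theorem exists_fg_le_annihilator (M : Type u) [AddCommGroup M] [Module A M] [Module.FinitePresentation A M] :
    ∃ (D : Ideal A) (r : ℕ), D.FG ∧ D ≤ Module.annihilator A M ∧ Module.annihilator A M ^ r ≤ D := by
  classical
  obtain ⟨r, K, e, hK⟩ := Module.FinitePresentation.exists_fin A M
  obtain ⟨s, v, hv⟩ := Submodule.fg_iff_exists_fin_generating_family.1 hK
  let D := Ideal.span (Set.range fun f : Fin r → Fin s => Matrix.detRowAlternating (v ∘ f))
  refine ⟨D, r, ⟨Finset.univ.image
    (fun f : Fin r → Fin s => Matrix.detRowAlternating (v ∘ f)), by simp [D]⟩, ?_, ?_⟩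
  · refine Ideal.span_le.2 ?_
    rintro _ ⟨f, rfl⟩
    refine Module.mem_annihilator.2 fun m => ?_
    obtain ⟨x, rfl⟩ : ∃ x, e.symm (Submodule.Quotient.mk x) = m := by
      obtain ⟨x, hx⟩ := Submodule.Quotient.mk_surjective _ (e m)
      exact ⟨x, by rw [hx, LinearEquiv.symm_apply_apply]⟩
    rw [← map_smul, ← Submodule.Quotient.mk_smul]
    suffices Matrix.det (Matrix.of (v ∘ f)) • x ∈ K by
      exact (congrArg e.symm ((Submodule.Quotient.mk_eq_zero K).2 this)).trans (map_zero _)
    let V : Matrix (Fin r) (Fin r) A := Matrix.of (v ∘ f)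
    have hx : Matrix.vecMul (Matrix.vecMul x V.adjugate) V = V.det • x := by
      rw [Matrix.vecMul_vecMul, Matrix.adjugate_mul, Matrix.vecMul_smul, Matrix.vecMul_one]
    rw [← hx, Matrix.vecMul_eq_sum]
    exact Submodule.sum_mem _ fun i _ => Submodule.smul_mem _ _
      (hv ▸ Submodule.subset_span ⟨f i, rfl⟩)
  rw [Submodule.pow_eq_span_pow_set, Submodule.span_le]
  intro z hz
  obtain ⟨a, rfl⟩ := Set.mem_pow.1 hz
  rw [List.prod_ofFn, SetLike.mem_coe]
  have hrow : ∀ i, (Matrix.diagonal fun i => (a i : A)) i ∈ Submodule.span A (Set.range v) := fun i => by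
    rw [hv, show (Matrix.diagonal fun i => (a i : A)) i = (a i : A) • Pi.single i (1 : A) from funext fun j => by
      by_cases hij : j = i
      · subst hij; simp
      · simp [Matrix.diagonal, Ne.symm hij, hij]]
    rw [← Submodule.Quotient.mk_eq_zero, Submodule.Quotient.mk_smul]
    apply e.symm.injective
    rw [map_smul, map_zero]
    exact Module.mem_annihilator.1 (a i).2 _
  rw [← Matrix.det_diagonal]
  exact det_mem_span v _ hrow

/-- If the annihilator of a finitely presented module consists of nilpotents, it is nilpotent. -/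
theorem isNilpotent_annihilator (M : Type u) [AddCommGroup M] [Module A M] [Module.FinitePresentation A M]
    (h : ∀ a ∈ Module.annihilator A M, IsNilpotent a) : IsNilpotent (Module.annihilator A M) := by
  obtain ⟨D, r, hfg, hle, hpow⟩ := exists_fg_le_annihilator (A := A) M
  obtain ⟨n, hn⟩ : IsNilpotent D :=
    (Ideal.FG.isNilpotent_iff_le_nilradical hfg).2 fun a ha => h a (hle ha)
  refine ⟨r * n, bot_unique ?_⟩
  rw [pow_mul, ← show D ^ n = ⊥ from hn]
  exact Ideal.pow_right_mono hpow n

open scoped DirectSum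

variable (Q : ModuleCat.{u} A → Prop)

/-- Closure under subobjects, quotients, extensions and direct sums. -/
structure IsClass : Prop where
  quot : ∀ {M N : ModuleCat.{u} A} (l : M →ₗ[A] N), Function.Surjective l → Q M → Q N
  sub : ∀ {M N : ModuleCat.{u} A} (l : M →ₗ[A] N), Function.Injective l → Q N → Q M
  ext : ∀ {M₁ M₂ M₃ : ModuleCat.{u} A} (f : M₁ →ₗ[A] M₂) (g : M₂ →ₗ[A] M₃), Function.Injective f →
    Function.Exact f g → Function.Surjective g → Q M₁ → Q M₃ → Q M₂
  sum : ∀ {ι : Type u} (M : ι → ModuleCat.{u} A), (∀ i, Q (M i)) → Q (ModuleCat.of A (⨁ i, M i))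

variable {Q}

theorem IsClass.finsupp (hQ : IsClass Q) {M : ModuleCat.{u} A} (h : Q M) (ι : Type u) :
    Q (ModuleCat.of A (ι →₀ M)) := by
  classical
  exact hQ.quot (M := ModuleCat.of A (⨁ _ : ι, M)) (finsuppLEquivDirectSum A M ι).symm.toLinearMap
    (LinearEquiv.surjective _) (hQ.sum (fun _ => M) fun _ => h)

theorem IsClass.pi (hQ : IsClass Q) {M : ModuleCat.{u} A} (h : Q M) (r : ℕ) :
    Q (ModuleCat.of A (ULift.{u} (Fin r) → M)) :=
  hQ.quot (M := ModuleCat.of A (ULift.{u} (Fin r) →₀ M))
    (Finsupp.linearEquivFunOnFinite A M (ULift.{u} (Fin r))).toLinearMap (LinearEquiv.surjective _)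
    (hQ.finsupp h _)

/-- Modules killed by an ideal are generated by the quotient by it. -/
theorem IsClass.of_killed (hQ : IsClass Q) {I : Ideal A} (hI : Q (ModuleCat.of A (A ⧸ I)))
    (N : ModuleCat.{u} A) (hN : ∀ a ∈ I, ∀ x : N, a • x = 0) : Q N := by
  refine hQ.quot (M := ModuleCat.of A ((N : Type u) →₀ A ⧸ I))
    (Finsupp.lsum ℕ fun x : N => Submodule.liftQ I (LinearMap.toSpanSingleton A N x) fun a ha => hN a ha x)
    (fun x => ⟨Finsupp.single x (Submodule.Quotient.mk 1), ?_⟩) (hQ.finsupp hI _)
  rw [Finsupp.lsum_single]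
  exact one_smul A x

/-- Quotients by nilpotent ideals do not change the class. -/
theorem IsClass.of_nilpotent (hQ : IsClass Q) (h0 : ∀ M : ModuleCat.{u} A, Subsingleton M → Q M)
    {I : Ideal A} (hI : Q (ModuleCat.of A (A ⧸ I))) :
    ∀ (n : ℕ) (N : ModuleCat.{u} A), (∀ a ∈ I ^ n, ∀ x : N, a • x = 0) → Q N := by
  intro n
  induction n with
  | zero =>
    intro N hN
    exact h0 N (subsingleton_of_forall_eq 0 fun x => by
      have := hN 1 (by simp) x
      rwa [one_smul] at this)
  | succ n ih =>
    intro N hN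
    let S : Submodule A N := I ^ n • ⊤
    refine hQ.ext (M₁ := ModuleCat.of A S) (M₃ := ModuleCat.of A ((N : Type u) ⧸ S)) S.subtype S.mkQ
      S.injective_subtype (LinearMap.exact_subtype_mkQ S) (Submodule.mkQ_surjective S) ?_ (ih _ ?_)
    · refine hQ.of_killed hI _ fun a ha x => Subtype.ext ?_
      show a • (x : N) = 0
      refine Submodule.smul_induction_on x.2 (fun b hb y _ => ?_) fun y z hy hz => by
        rw [smul_add, hy, hz, add_zero]
      rw [smul_smul]
      exact hN _ (by rw [pow_succ']; exact Ideal.mul_mem_mul ha hb) y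
    · intro a ha x
      induction x using Submodule.Quotient.induction_on with
      | _ y => exact (Submodule.Quotient.mk_eq_zero S).2 (Submodule.smul_mem_smul ha Submodule.mem_top)

/-- A class containing a finitely presented module contains every module supported in its support. -/
theorem IsClass.mem_of_support (hQ : IsClass Q) {M : ModuleCat.{u} A} [Module.FinitePresentation A M]
    (hM : Q M) (N : ModuleCat.{u} A) (hN : Module.support A N ⊆ Module.support A M) : Q N := by
  classical
  have h0 : ∀ P : ModuleCat.{u} A, Subsingleton P → Q P := fun P _ =>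
    hQ.sub (0 : P →ₗ[A] M) (fun a b _ => Subsingleton.elim a b) hM
  suffices h : ∀ I : Ideal A, PrimeSpectrum.zeroLocus (I : Set A) ⊆ Module.support A M →
      Q (ModuleCat.of A (A ⧸ I)) by
    let f : ∀ x : N, (A ⧸ LinearMap.ker (LinearMap.toSpanSingleton A N x)) →ₗ[A] N := fun x =>
      Submodule.liftQ _ (LinearMap.toSpanSingleton A N x) le_rfl
    refine hQ.quot (M := ModuleCat.of A (⨁ x : N, A ⧸ LinearMap.ker (LinearMap.toSpanSingleton A N x)))
      (DirectSum.toModule A _ _ f)
      (fun x => ⟨DirectSum.lof A _ _ x (Submodule.Quotient.mk 1), by rw [DirectSum.toModule_lof]; exact one_smul A x⟩)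
      (hQ.sum _ fun x => h _ ?_)
    intro p hp
    refine hN (Module.mem_support_iff'.2 ⟨x, fun r hr hx => hr (hp ?_)⟩)
    exact hx
  intro I hI
  let M' := (M : Type u) ⧸ (I • ⊤ : Submodule A M)
  have hM' : Q (ModuleCat.of A M') := hQ.quot (Submodule.mkQ _) (Submodule.mkQ_surjective _) hM
  haveI : Module.FinitePresentation (A ⧸ I) M' :=
    Module.FinitePresentation.of_equiv (TensorProduct.quotTensorEquivQuotSMul M I |>.extendScalarsOfSurjective
      Ideal.Quotient.mk_surjective)
  have hsupp : Module.support A M' = PrimeSpectrum.zeroLocus (I : Set A) := by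
    rw [Module.support_quotient, Set.inter_eq_right.2 hI]
  let 𝔞 := Module.annihilator (A ⧸ I) M'
  have hnil : IsNilpotent 𝔞 := isNilpotent_annihilator (A := A ⧸ I) M' fun a ha => by
    obtain ⟨a, rfl⟩ := Ideal.Quotient.mk_surjective a
    rw [← mem_nilradical, nilradical, Ideal.zero_eq_bot, Ideal.radical_eq_sInf, Submodule.mem_sInf]
    rintro q ⟨-, hq⟩
    let p : PrimeSpectrum A := ⟨Ideal.comap (Ideal.Quotient.mk I) q, Ideal.IsPrime.comap _⟩
    have hp : p ∈ Module.support A M' := hsupp ▸ fun b hb => by
      show Ideal.Quotient.mk I b ∈ q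
      rw [Ideal.Quotient.eq_zero_iff_mem.2 hb]
      exact q.zero_mem
    by_contra hna
    obtain ⟨m, hm⟩ := Module.mem_support_iff'.1 hp
    exact hm a hna (Module.mem_annihilator.1 ha m)
  let J : Ideal A := Ideal.comap (Ideal.Quotient.mk I) 𝔞
  have hJ : Q (ModuleCat.of A (A ⧸ J)) := by
    obtain ⟨r, g, hg⟩ := Module.Finite.exists_fin (R := A) (M := M')
    let l : A →ₗ[A] (ULift.{u} (Fin r) → M') := LinearMap.pi fun i => LinearMap.toSpanSingleton A M' (g i.down)
    refine hQ.sub (N := ModuleCat.of A (ULift.{u} (Fin r) → M')) (Submodule.liftQ J l fun a ha => ?_) ?_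
      (hQ.pi hM' r)
    · funext i
      exact Module.mem_annihilator.1 (show Ideal.Quotient.mk I a ∈ 𝔞 from ha) (g i.down)
    · rw [← LinearMap.ker_eq_bot, Submodule.ker_liftQ_eq_bot _ _ _ fun a ha => ?_]
      show Ideal.Quotient.mk I a ∈ 𝔞
      refine Module.mem_annihilator.2 fun m => ?_
      show a • m = 0
      have hm : m ∈ Submodule.span A (Set.range g) := hg ▸ Submodule.mem_top
      induction hm using Submodule.span_induction with
      | mem y hy => obtain ⟨i, rfl⟩ := hy; exact congrFun ha ⟨i⟩
      | zero => exact smul_zero a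
      | add y z _ _ hy hz => rw [smul_add, hy, hz, add_zero]
      | smul c y _ hy => rw [smul_comm, hy, smul_zero]
  obtain ⟨n, hn⟩ := hnil
  refine hQ.of_nilpotent h0 hJ n _ fun a ha x => ?_
  induction x using Submodule.Quotient.induction_on with
  | _ b =>
    rw [← Submodule.Quotient.mk_smul, Submodule.Quotient.mk_eq_zero]
    refine I.mul_mem_right b (Ideal.Quotient.eq_zero_iff_mem.1 ?_)
    have := Ideal.le_comap_pow (Ideal.Quotient.mk I) n ha
    rw [show 𝔞 ^ n = 0 from hn] at this
    exact this

end Groth.Agent.RPSM.SerreClass
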