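import Groth.Agent.RPSM.GRGlue
import Groth.Agent.QCoh.ArtinRees
import Groth.Agent.QCoh.DevissageSum
import Groth.Agent.KFlatLib.Scheme.Exact
import Groth.Agent.KZ.OpenExt
import Groth.Agent.RefX.Reflexive

/-!
# Coherent modules are quotients of torsion-free ones
-/

universe u

set_option linter.style.haveILetI false
set_option backward.isDefEq.respectTransparency false
set_option backward.isDefEq.respectTransparency.types false

open CategoryTheory CategoryTheory.Limits AlgebraicGeometry TopologicalSpace Opposite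

namespace Groth.Agent.RPSM

variable {X : Scheme.{u}}

theorem subsingleton_sections_of_empty (M : X.Modules) {U : X.Opens} (hU : ∀ x, x ∉ U) :
    Subsingleton Γ(M, U) :=
  ⟨fun a b => TopCat.Sheaf.eq_of_locally_eq' (X := X.toTopCat)
    (⟨M.presheaf, M.isSheaf⟩ : TopCat.Sheaf AddCommGrpCat.{u} X.toTopCat)
    (fun i : PEmpty.{u + 1} => i.elim) U (fun i => i.elim) (fun x hx => (hU x hx).elim) a b
    (fun i => i.elim)⟩

variable [IsNoetherian X]

attribute [local instance] QCoh.hasFiniteBiproducts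

/-- A section over an open extends to a map from a submodule of the structure module which is the
whole structure module on that open. -/
theorem exists_extend_section {F : X.Modules} (hF : Coh.IsCoh F) (U : X.Opens) (s : Γ(F, U)) :
    ∃ (J : X.Modules) (j : J ⟶ Coh.structureModule X) (π : J ⟶ F) (e : Γ(J, U)),
      Mono j ∧ Coh.IsCoh J ∧ π.app U e = s := by
  haveI := quasiCompact_ι (NoetherianSpace.isCompact (U : Set X))
  obtain ⟨M', η, -, t₀, hη, -, ht₀⟩ := exists_acting_lift (⟨F, hF.1⟩ : QCohCat.QCoh X) U 0 s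
  have hs : CohB1.support (kernel η.hom) ⊆ (U : Set X)ᶜ :=
    (support_of_iso (PreservesKernel.iso (QCohCat.isQCoh X).ι η)).ge.trans ((offW_iff U η).1 hη).1
  let O : X.Modules := Coh.structureModule X
  let d : O ⊞ F ⟶ M'.obj := biprod.desc (QCoh.homOfTop t₀) (-η.hom)
  have hsum : Coh.IsCoh (O ⊞ F) := KZ.isCoh_biprod QCoh.isCoh_structureModule' hF
  have hP : Coh.IsCoh (kernel d) :=
    QCoh.isCoh_of_mono (kernel.ι d) hsum (QCoh.isQCoh_kernel hsum.1 M'.property d)
  let p : kernel d ⟶ O := kernel.ι d ≫ biprod.fst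
  let k : kernel p ⟶ kernel d := kernel.ι p
  have hK : Coh.IsCoh (kernel p) :=
    QCoh.isCoh_of_mono k hP (QCoh.isQCoh_kernel hP.1 QCoh.isQCoh_structureModule p)
  have h1 : k ≫ kernel.ι d ≫ biprod.fst = 0 := kernel.condition p
  have hd : k ≫ kernel.ι d ≫ d = 0 := by rw [kernel.condition, comp_zero]
  replace hd : k ≫ kernel.ι d ≫ (biprod.fst ≫ QCoh.homOfTop t₀ + biprod.snd ≫ (-η.hom)) = 0 :=
    (congrArg (fun q => k ≫ kernel.ι d ≫ q) biprod.desc_eq).symm.trans hd
  rw [Preadditive.comp_add, Preadditive.comp_add, reassoc_of% h1, zero_comp, zero_add] at hd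
  simp only [Preadditive.comp_neg, neg_eq_zero] at hd
  let l : kernel p ⟶ kernel η.hom := kernel.lift η.hom (k ≫ kernel.ι d ≫ biprod.snd)
    (by simpa only [Category.assoc] using hd)
  haveI : Mono l := Preadditive.mono_of_cancel_zero _ fun g hg => by
    have h2 : g ≫ k ≫ kernel.ι d ≫ biprod.snd = 0 := by
      rw [← kernel.lift_ι η.hom (k ≫ kernel.ι d ≫ biprod.snd) (by simpa only [Category.assoc] using hd),
        ← Category.assoc, hg, zero_comp]
    refine zero_of_comp_mono k (zero_of_comp_mono (kernel.ι d) (biprod.hom_ext _ _ ?_ ?_))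
    · simpa only [Category.assoc, zero_comp, h1, comp_zero] using (rfl : (0 : _ ⟶ O) = 0)
    · simpa only [Category.assoc, zero_comp] using h2
  let I : X.IdealSheafData := Scheme.IdealSheafData.vanishingIdeal ⟨(U : Set X)ᶜ, U.2.isClosed_compl⟩
  have hsI : CohB1.support (kernel p) ⊆ (I.support : Set X) :=
    ((QCoh.mem_support_of_mono hK.1 (QCoh.isQCoh_kernel hF.1 M'.property η.hom) l).trans hs).trans
      (by rw [Scheme.IdealSheafData.coe_support_vanishingIdeal]; exact subset_rfl)
  obtain ⟨n, hn⟩ := QCoh.exists_pow_mono hP hK k I hsI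
  let i := (I ^ n).subschemeι
  let v := (Scheme.Modules.pullbackPushforwardAdjunction i).unit.app (kernel d)
  have hv : Coh.IsQCoh ((Scheme.Modules.pullback i ⋙ Scheme.Modules.pushforward i).obj (kernel d)) :=
    QCoh.isQCoh_pushforward i (QCoh.isQCoh_pullback i hP.1)
  have hmono : Mono (k ≫ v) := hn
  let J := kernel v
  have hJ : Coh.IsCoh J := QCoh.isCoh_of_mono (kernel.ι v) hP (QCoh.isQCoh_kernel hP.1 hv v)
  have hj : Mono (kernel.ι v ≫ p) := Preadditive.mono_of_cancel_zero _ fun g hg => by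
    rw [← Category.assoc] at hg
    obtain ⟨g', hg'⟩ := kernel.lift' p _ hg
    refine zero_of_comp_mono (kernel.ι v) ?_
    rw [← hg', show g' = 0 from zero_of_comp_mono (k ≫ v) (by
      rw [← Category.assoc, hg', Category.assoc, kernel.condition, comp_zero]), zero_comp]
  let a : Γ(O ⊞ F, U) := (biprod.inl : O ⟶ O ⊞ F).app U (1 : Γ(X, U)) + (biprod.inr : F ⟶ O ⊞ F).app U s
  have hcomp : ∀ {A B C : X.Modules} (φ : A ⟶ B) (ψ : B ⟶ C) (χ : A ⟶ C) (_ : φ ≫ ψ = χ) (z : Γ(A, U)),
      ψ.app U (φ.app U z) = χ.app U z := fun φ ψ χ h z => by subst h; rfl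
  have ha : d.app U a = 0 := by
    rw [map_add, hcomp _ _ _ (biprod.inl_desc _ _), hcomp _ _ _ (biprod.inr_desc _ _)]
    show (QCoh.homOfTop t₀).app U (1 : Γ(X, U)) + -(η.hom.app U s) = 0
    rw [QCoh.homOfTop_app, one_smul, ht₀, add_neg_cancel]
  obtain ⟨w, hw⟩ := QCoh.exists_kernel_lift d U a ha
  have hempty : Subsingleton Γ((Scheme.Modules.pullback i).obj (kernel d), i ⁻¹ᵁ U) :=
    subsingleton_sections_of_empty _ fun z hz => by
      have h3 : i.base z ∈ ((I ^ n).support : Set X) := (I ^ n).range_subschemeι.le ⟨z, rfl⟩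
      rcases eq_or_ne n 0 with rfl | hn0
      · simp at h3
      · rw [Scheme.IdealSheafData.support_pow I n hn0, Scheme.IdealSheafData.coe_support_vanishingIdeal] at h3
        exact h3 hz
  obtain ⟨e, he⟩ := QCoh.exists_kernel_lift v U w (hempty.elim _ _)
  refine ⟨J, kernel.ι v ≫ p, kernel.ι v ≫ kernel.ι d ≫ biprod.snd, e, hj, hJ, ?_⟩
  show (biprod.snd : O ⊞ F ⟶ F).app U ((kernel.ι d).app U ((kernel.ι v).app U e)) = s
  rw [he, hw, map_add, hcomp _ _ _ biprod.inl_snd, hcomp _ _ _ biprod.inr_snd]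
  exact zero_add s

/-- **Every coherent module on a Noetherian integral scheme is a quotient of a torsion-free one.** -/
theorem exists_epi_torsionFree [IsIntegral X] {F : X.Modules} (hF : Coh.IsCoh F) :
    ∃ (F' : X.Modules) (π : F' ⟶ F), Coh.IsCoh F' ∧
      (∀ y : X, NoZeroSMulDivisors ↥(X.presheaf.stalk y) ↥(F'.presheaf.stalk y)) ∧ Epi π := by
  classical
  choose U hU hxU using fun x : X => QCoh.exists_affine_mem x
  obtain ⟨t, ht⟩ := isCompact_univ.elim_finite_subcover (fun x : X => (U x : Set X))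
    (fun x => (U x).2) (fun x _ => Set.mem_iUnion.2 ⟨x, hxU x⟩)
  haveI := fun x : t => QCoh.finite_sections hF (hU x.1)
  choose m g hg using fun x : t => Module.Finite.exists_fin (R := Γ(X, U x.1)) (M := Γ(F, U x.1))
  choose J j π e hj hJ hπ using fun b : Σ x : t, Fin (m x) => exists_extend_section hF (U b.1.1) (g b.1 b.2)
  haveI : Fintype (Σ x : t, Fin (m x)) := inferInstance
  let β : Type u := ULift.{u} (Σ x : t, Fin (m x))
  haveI : Fintype β := Fintype.ofEquiv _ Equiv.ulift.symm
  let π' : (⨁ fun b : β => J b.down) ⟶ F := biproduct.desc fun b => π b.down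
  have hcoh := QCoh.isCoh_biproduct (fun b : β => J b.down) fun b => hJ b.down
  refine ⟨_, π', hcoh, fun y => ?_, ?_⟩
  · let S := DerSch.stalkFunctor X y
    haveI : IsDomain (X.presheaf.stalk y) := inferInstance
    haveI : ∀ b : β, Mono (S.map (j b.down)) := fun b => by haveI := hj b.down; infer_instance
    refine ⟨fun {a z} h => or_iff_not_imp_left.2 fun ha => ?_⟩
    have key : ∀ b : β, (S.map (biproduct.π (fun b : β => J b.down) b)).hom z = 0 := fun b => by
      refine (ModuleCat.mono_iff_injective (S.map (j b.down))).1 inferInstance ?_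
      rw [map_zero]
      generalize hw : (S.map (j b.down)).hom ((S.map (biproduct.π (fun b : β => J b.down) b)).hom z) = w
      have h5 : a • w = 0 := by
        subst hw
        rw [← map_smul, ← map_smul]
        exact (congrArg (fun q => (S.map (j b.down)).hom ((S.map (biproduct.π (fun b : β => J b.down) b)).hom q)) h).trans
          (by rw [map_zero, map_zero])
      obtain ⟨r, rfl⟩ := (RefX.unitStalk y).surjective w
      have h6 : a * r = 0 := (RefX.unitStalk y).injective
        (((RefX.unitStalk y).map_smul a r).trans (h5.trans (map_zero _).symm))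
      rw [(mul_eq_zero.1 h6).resolve_left ha]
      exact map_zero _
    have htot := congrArg
      (fun q : (⨁ fun b : β => J b.down) ⟶ ⨁ fun b : β => J b.down => (S.map q).hom z)
      (QCoh.biproduct_total' fun b : β => J b.down)
    simp only [CategoryTheory.Functor.map_sum, CategoryTheory.Functor.map_id, ModuleCat.hom_sum,
      LinearMap.sum_apply] at htot
    refine htot.symm.trans (Finset.sum_eq_zero fun b _ => ?_)
    rw [S.map_comp]
    exact (congrArg (S.map (biproduct.ι (fun b : β => J b.down) b)).hom (key b)).trans (map_zero _)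
  · refine Preadditive.epi_of_isZero_cokernel _ (QCoh.isZero_of_cover
      (QCoh.isQCoh_cokernel hcoh.1 hF.1 π') (fun x : t => U x.1) (fun x => hU x.1)
      (fun p => by
        obtain ⟨x, hx, hp⟩ := Set.mem_iUnion₂.1 (ht (Set.mem_univ p))
        exact ⟨⟨x, hx⟩, hp⟩) fun x => subsingleton_of_forall_eq 0 fun z => ?_)
    obtain ⟨z, rfl⟩ := QCoh.app_surjective_of_epi hF.1 (QCoh.isQCoh_cokernel hcoh.1 hF.1 π')
      (cokernel.π π') (hU x.1) z
    refine Submodule.span_induction (p := fun z _ => (cokernel.π π').app (U x.1) z = 0) ?_ (map_zero _)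
      (fun a b _ _ ha hb => by rw [map_add, ha, hb, add_zero])
      (fun a b _ hb => by rw [Scheme.Modules.Hom.app_smul, hb, smul_zero])
      ((hg x).ge (Submodule.mem_top (x := z)))
    rintro _ ⟨q, rfl⟩
    have h6 : biproduct.ι (fun b : β => J b.down) ⟨⟨x, q⟩⟩ ≫ π' = π ⟨x, q⟩ := biproduct.ι_desc _ _
    have h7 := congrArg (fun φ : _ ⟶ F => (cokernel.π π').app (U x.1) (φ.app (U x.1) (e ⟨x, q⟩))) h6
    dsimp only at h7
    rw [hπ] at h7
    exact h7.symm.trans (congrArg (fun φ : _ ⟶ cokernel π' => φ.app (U x.1)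
      ((biproduct.ι (fun b : β => J b.down) ⟨⟨x, q⟩⟩).app (U x.1) (e ⟨x, q⟩))) (cokernel.condition π'))

end Groth.Agent.RPSM
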