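import Groth.Agent.AlgStLib.QuasiCompact
import Groth.Agent.AlgStLib.AffineMor
import Groth.Agent.AmpleX.QAGenerated
import Groth.Agent.QCoh.Devissage
import Groth.Prelude.Def_StMod2
import Groth.Prelude.Def_StMod6

/-!
# Universal objects over a test scheme of affine and quasi-affine morphisms of stacks
-/

universe u

set_option linter.style.haveILetI false
set_option backward.isDefEq.respectTransparency false
set_option backward.isDefEq.respectTransparency.types false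

open CategoryTheory CategoryTheory.Functor CategoryTheory.Limits AlgebraicGeometry Opposite TopologicalSpace AlgSp

namespace Groth.Agent.RPSM

open Groth.Agent.FibBase Groth.Agent.AlgStLib

variable {S : Scheme.{u}} {𝒳 𝒴 : AlgSt.Cat S}

/-- Base changes to affine schemes are schemes with property `R`. -/
def AffBC (R : Scheme.{u} → Prop) : MorphismProperty (Sp S) := fun F G a =>
  ∀ ⦃Z : Over S⦄, IsAffine Z.left → ∀ (g : (yon S).obj Z ⟶ G),
    ∃ (W : Over S) (i : W ⟶ Z) (fst : (yon S).obj W ⟶ F), IsPullback fst ((yon S).map i) a g ∧ R W.left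

/-- A space isomorphic to a scheme has a universal object. -/
theorem exists_isTerminal_ofSp {F : Sp S} (W : Over S) (t : (yon S).obj W ⟶ F) [IsIso t] :
    ∃ x : (AlgSt.ofSp F).obj, Nonempty (IsTerminal x) ∧ x.base = W := by
  have hbij : ∀ T : Over S, Function.Bijective (t.hom.app (op T)) := fun T => by
    haveI : IsIso t.hom := inferInstanceAs (IsIso ((sheafToPresheaf _ _).map t))
    exact ConcreteCategory.bijective_of_isIso _
  have hnat : ∀ {T : Over S} (g : T ⟶ W),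
      F.obj.map g.op (t.hom.app (op W) ⟨𝟙 W⟩) = t.hom.app (op T) ⟨g⟩ := fun {T} g => by
    refine (ConcreteCategory.congr_hom (t.hom.naturality g.op) ⟨𝟙 W⟩).symm.trans ?_
    exact congrArg (t.hom.app (op T)) (congrArg ULift.up (Category.comp_id g))
  refine ⟨⟨W, t.hom.app (op W) ⟨𝟙 W⟩⟩, ⟨IsTerminal.ofUniqueHom
    (fun a => ⟨((hbij a.base).2 a.sec).choose.down,
      (hnat _).trans ((hbij a.base).2 a.sec).choose_spec⟩) fun a m => ?_⟩, rfl⟩
  ext1
  exact congrArg ULift.down ((hbij a.base).1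
    ((((hnat _).symm.trans m.map_sec)).trans ((hbij a.base).2 a.sec).choose_spec.symm))

variable (h𝒴 : FibCat.IsFibGrpd 𝒴.p)
include h𝒴

/-- A universal object of a base change gives one over the object. -/
theorem exists_isTerminal_fibCat {f : 𝒳 ⥤ᵇ 𝒴} (η : 𝒴.obj) (y : FibCat.overCat (𝒴.p.obj η) ⥤ᵇ 𝒴)
    (e : y.obj (Over.mk (𝟙 (𝒴.p.obj η))) ≅ η) (he : 𝒴.p.IsHomLift (𝟙 (𝒴.p.obj η)) e.hom)
    {z : (FibCat.fp y f).obj} (hz : IsTerminal z) :
    ∃ c : (StMod.fibCat f η).obj, Nonempty (IsTerminal c) ∧ 𝒳.p.obj c.left = (FibCat.fp y f).p.obj z := by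
  obtain ⟨⟨V₀, ξ₀, i₀⟩, hi₀⟩ := z
  change 𝒴.p.IsHomLift (𝟙 V₀.left) i₀.hom at hi₀
  haveI := h𝒴
  have h0 : 𝒳.p.obj ξ₀ = V₀.left :=
    (f.w_obj ξ₀).symm.trans (IsHomLift.codomain_eq 𝒴.p (𝟙 V₀.left) i₀.hom)
  let α₀ : f.obj ξ₀ ⟶ η := i₀.inv ≫ y.map (toId V₀) ≫ e.hom
  haveI : 𝒴.p.IsHomLift (𝟙 V₀.left) i₀.inv := IsHomLift.lift_id_inv 𝒴.p V₀.left i₀
  haveI hα₀ : 𝒴.p.IsHomLift V₀.hom α₀ := by
    haveI := overMap_isHomLift y (toId V₀)
    haveI : 𝒴.p.IsHomLift V₀.hom (y.map (toId V₀) ≫ e.hom) :=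
      IsHomLift.comp_lift_id_right' 𝒴.p (toId V₀).left (y.map (toId V₀)) (𝒴.p.obj η) e.hom
    exact IsHomLift.comp_lift_id_left' 𝒴.p V₀.left i₀.inv V₀.hom (y.map (toId V₀) ≫ e.hom)
  have hb₀ : StMod.baseOver f ξ₀ α₀ = eqToHom h0 ≫ V₀.hom := by
    rw [StMod.baseOver, IsHomLift.fac' 𝒴.p V₀.hom α₀]
    simp
  let c : (StMod.fibCat f η).obj := CostructuredArrow.mk α₀
  -- the point of the base change attached to an object over `η`
  have key : ∀ a : CostructuredArrow f.toFunctor η, ∃ φ : a.left ⟶ ξ₀, f.map φ ≫ α₀ = a.hom ∧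
      ∀ φ' : a.left ⟶ ξ₀, f.map φ' ≫ α₀ = a.hom → φ' = φ := by
    intro a
    let V : Over (𝒴.p.obj η) := Over.mk (StMod.baseOver f a.left a.hom)
    haveI : 𝒴.p.IsHomLift V.hom a.hom := by
      refine IsHomLift.of_fac' 𝒴.p _ _ (f.w_obj a.left) rfl ?_
      simp [V, StMod.baseOver]
    obtain ⟨i, hi, w⟩ := exists_point_of_hom h𝒴 y e he V a.hom
    let ox : (FibCat.fp y f).obj := ⟨⟨V, a.left, i⟩, hi⟩
    let m := hz.from ox
    have hw : y.map m.hom.fst ≫ i₀.hom = i.hom ≫ f.map m.hom.snd := m.hom.w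
    have hto : m.hom.fst ≫ toId V₀ = toId V := Over.OverMorphism.ext (Over.w m.hom.fst)
    refine ⟨m.hom.snd, ?_, fun φ' hφ' => ?_⟩
    · rw [← cancel_epi i.hom, ← reassoc_of% hw]
      simp only [α₀, Iso.hom_inv_id_assoc]
      rw [← Category.assoc, ← y.toFunctor.map_comp, hto]
      exact w
    · have hφb : (𝒳.p.map φ' ≫ eqToHom h0) ≫ V₀.hom = V.hom := by
        rw [Category.assoc, ← hb₀, StMod.map_comp_baseOver, hφ']
        rfl
      let fst : V ⟶ V₀ := Over.homMk (𝒳.p.map φ' ≫ eqToHom h0) hφb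
      haveI := overMap_isHomLift y fst
      haveI : 𝒴.p.IsHomLift fst.left (f.map φ') := by
        haveI := f.isHomLift_map (𝒳.p.map φ') φ'
        refine IsHomLift.of_fac' 𝒴.p _ _ (f.w_obj a.left) ((f.w_obj ξ₀).trans h0) ?_
        rw [IsHomLift.fac' 𝒴.p (𝒳.p.map φ') (f.map φ')]
        simp [fst]
      haveI : 𝒴.p.IsHomLift fst.left (y.map fst ≫ i₀.hom) :=
        IsHomLift.comp_lift_id_right' 𝒴.p fst.left (y.map fst) V₀.left i₀.hom
      haveI : 𝒴.p.IsHomLift fst.left (i.hom ≫ f.map φ') :=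
        IsHomLift.comp_lift_id_left' 𝒴.p V.left i.hom fst.left (f.map φ')
      haveI := isSC (p := 𝒴.p) V₀.hom α₀
      have hto' : fst ≫ toId V₀ = toId V := Over.OverMorphism.ext hφb
      have hw' : y.map fst ≫ i₀.hom = i.hom ≫ f.map φ' := by
        refine IsStronglyCartesian.ext 𝒴.p V₀.hom α₀ fst.left ?_
        rw [Category.assoc, Category.assoc, hφ']
        simp only [α₀, Iso.hom_inv_id_assoc]
        rw [← Category.assoc, ← y.toFunctor.map_comp, hto']
        exact w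
      let m' : ox ⟶ ⟨⟨V₀, ξ₀, i₀⟩, hi₀⟩ := ObjectProperty.homMk ⟨fst, φ', hw'⟩
      exact congrArg (fun t => t.hom.snd) (hz.hom_ext m' m)
  choose φ hφ huniq using key
  refine ⟨c, ⟨IsTerminal.ofUniqueHom (fun a => CostructuredArrow.homMk (φ a) (hφ a))
    fun a m => CostructuredArrow.hom_ext _ _ (huniq a m.left (CostructuredArrow.w m))⟩, h0⟩

/-- Over an object with affine scheme, a morphism with `AffBC R` has a universal object with property `R`. -/
theorem exists_univ_obj {R : Scheme.{u} → Prop} {P : MorphismProperty (Sp S)}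
    (hP : ∀ {F G : Sp S} (a : F ⟶ G), P a → AffBC R a) {f : 𝒳 ⥤ᵇ 𝒴} (hf : AlgSt.RepByAlgSpWith P f)
    (η : 𝒴.obj) [IsAffine (StMod.sch 𝒴 η)] :
    ∃ c : (StMod.fibCat f η).obj, Nonempty (IsTerminal c) ∧ R (StMod.sch 𝒳 c.left) := by
  obtain ⟨y, e, he⟩ := exists_overCat_obj h𝒴 (U := 𝒴.p.obj η) η rfl
  obtain ⟨F, E, hE, ha⟩ := hf (𝒴.p.obj η) y
  obtain ⟨W, i, fst, sq, hW⟩ := hP _ ha (Z := 𝒴.p.obj η) ‹_› (𝟙 _)
  haveI : IsIso fst := sq.isIso_fst_of_isIso
  obtain ⟨x, ⟨hx⟩, hxW⟩ := exists_isTerminal_ofSp W fst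
  haveI := full_of_isEquivOver hE
  haveI := faithful_of_isEquivOver hE
  obtain ⟨G, -, ⟨ε⟩⟩ := hE
  haveI : E.toFunctor.EssSurj :=
    ⟨fun b => ⟨G.obj b, ⟨((BasedNatTrans.forgetful _ _).mapIso ε).app b⟩⟩⟩
  haveI : E.toFunctor.IsEquivalence := {}
  obtain ⟨c, hc, hcW⟩ := exists_isTerminal_fibCat h𝒴 η y e he (IsTerminal.isTerminalObj E.toFunctor x hx)
  refine ⟨c, hc, ?_⟩
  show R (𝒳.p.obj c.left).left
  have hb : (FibCat.fp y f).p.obj (E.toFunctor.obj x) = W := (E.w_obj x).trans hxW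
  rw [hcW, hb]
  exact hW

omit h𝒴

/-- Pushforward along a morphism with affine universal objects preserves surjections. -/
theorem surjective_relSectMap {f : 𝒳 ⥤ᵇ 𝒴} {η : 𝒴.obj} {c : (StMod.fibCat f η).obj} (hc : IsTerminal c)
    {F G : StMod.Mod 𝒳} (v : F ⟶ G) (hv : Function.Surjective ((v.app c.left).app ⊤)) :
    Function.Surjective (StMod.Mod.relSectMap f v η) := by
  intro s
  obtain ⟨m, hm⟩ := hv (s.1 c.left c.hom)
  let t : ∀ (ξ : 𝒳.obj) (α : f.obj ξ ⟶ η), ξ ⟶ c.left := fun ξ α =>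
    (hc.from (CostructuredArrow.mk α)).left
  refine ⟨⟨fun ξ α => F.mapTop (t ξ α) m, fun ξ' ξ φ α => ?_⟩, StMod.Mod.RelSect.ext _ _ _ fun ξ α => ?_⟩
  · rw [← StMod.Mod.mapTop_comp]
    refine congrArg (fun q => F.mapTop q m) ?_
    exact congrArg CommaMorphism.left (hc.hom_ext
      ((CostructuredArrow.homMk φ rfl : CostructuredArrow.mk (f.map φ ≫ α) ⟶ CostructuredArrow.mk α) ≫
        hc.from (CostructuredArrow.mk α)) (hc.from (CostructuredArrow.mk (f.map φ ≫ α))))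
  · show (v.app ξ).app ⊤ (F.mapTop (t ξ α) m) = s.1 ξ α
    rw [← StMod.Mod.mapTop_app, hm, s.2 (t ξ α) c.hom]
    exact congrArg (s.1 ξ) (CostructuredArrow.w (hc.from (CostructuredArrow.mk α)))

/-- An affine morphism to an algebraic space is cohomologically affine. -/
theorem isCohAffine_of_affine {M : Sp S} (hM : FibCat.IsFibGrpd (AlgSt.ofSp M).p) {π : 𝒳 ⥤ᵇ AlgSt.ofSp M}
    (hπ : AlgSt.RepByAlgSpWith AlgSp.IsAffineMor π) : StMod.IsCohAffine π := fun F G v hv E hE => by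
  haveI : IsAffine (StMod.sch (AlgSt.ofSp M) (StMod.etaOf E)) := hE
  obtain ⟨c, ⟨hc⟩, hR⟩ := exists_univ_obj hM (R := fun X => IsAffine X) (P := AlgSp.IsAffineMor)
    (fun _ h => h) hπ (StMod.etaOf E)
  exact surjective_relSectMap hc v.hom (hv c.left hR)

section Generation

variable {Z : AlgSt.Cat S}

/-- A compatible family of global sections gives a map from the structure sheaf. -/
noncomputable def homOfGlobSect {F : StMod.Mod Z} (s : F.GlobSect) : StMod.O Z ⟶ F where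
  app ξ := QCoh.homOfTop (s.1 ξ)
  comm := fun {ξ' ξ} φ g hg => by
    subst hg
    refine Scheme.Modules.hom_ext _ _ fun U => ?_
    ext r
    show (QCoh.homOfTop (s.1 ξ')).app ((StMod.bmap Z φ) ⁻¹ᵁ U) ((StMod.bmap Z φ).app U r) =
      (F.map φ rfl).app U ((QCoh.homOfTop (s.1 ξ)).app U r)
    rw [QCoh.homOfTop_app, QCoh.homOfTop_app, Scheme.Modules.Hom.app_smul]
    refine congrArg ((StMod.bmap Z φ).app U r • ·) ?_
    refine Eq.trans ?_
      (ConcreteCategory.congr_hom ((F.map φ rfl).mapPresheaf.naturality (homOfLE le_top).op) (s.1 ξ)).symm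
    rw [← s.2 φ]
    rfl

theorem hom_eq_zero_of_top {X : Scheme.{u}} [X.IsQuasiAffine] {M N : X.Modules} (hM : Coh.IsQCoh M)
    (v : M ⟶ N) (h : ∀ m : Γ(M, ⊤), v.app ⊤ m = 0) : v = 0 := by
  obtain ⟨ι, p, hp⟩ := AmpleX.isGloballyGenerated_of_isQuasiAffine hM
  rw [← cancel_epi p, comp_zero]
  refine Sigma.hom_ext _ _ fun i => ?_
  rw [comp_zero]
  refine (SheafOfModules.unitHomEquiv _).injective (Subtype.ext (funext fun W => ?_))
  let q : Coh.structureModule X ⟶ M := Sigma.ι (fun _ : ι => SheafOfModules.unit X.ringCatSheaf) i ≫ p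
  show v.app W.unop (q.app W.unop (1 : Γ(X, W.unop))) = 0
  have h1 : q.app W.unop (1 : Γ(X, W.unop)) =
      M.presheaf.map (homOfLE (le_top : W.unop ≤ ⊤)).op (q.app ⊤ (1 : Γ(X, ⊤))) := by
    refine Eq.trans ?_ (ConcreteCategory.congr_hom (q.mapPresheaf.naturality (homOfLE le_top).op) _)
    exact congrArg (q.app W.unop) (map_one (X.presheaf.map (homOfLE le_top).op).hom).symm
  rw [h1]
  refine (ConcreteCategory.congr_hom (v.mapPresheaf.naturality (homOfLE le_top).op) _).trans ?_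
  exact (congrArg (N.presheaf.map (homOfLE le_top).op) (h _)).trans (map_zero _)

/-- Quasi-affine universal objects make the structure sheaf generating. -/
theorem isGenFam_O_of_terminal {c : Z.obj} (hc : IsTerminal c) [(StMod.sch Z c).IsQuasiAffine]
    {M N : StMod.QCoh Z} (v : M ⟶ N) (h : ∀ φ : StMod.O Z ⟶ M.obj, φ ≫ v.hom = 0) : v = 0 := by
  have h0 : v.hom.app c = 0 := hom_eq_zero_of_top (M.property.2 c) _ fun m => by
    let s : M.obj.GlobSect := ⟨fun ξ => M.obj.mapTop (hc.from ξ) m, fun ξ' ξ φ => by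
      rw [← StMod.Mod.mapTop_comp]
      exact congrArg (fun q => M.obj.mapTop q m) (hc.hom_ext _ _)⟩
    have h1 := congrArg (fun q : StMod.O Z ⟶ N.obj => (q.app c).app ⊤ (1 : Γ(StMod.sch Z c, ⊤))) (h (homOfGlobSect s))
    change (v.hom.app c).app ⊤ ((QCoh.homOfTop (M.obj.mapTop (hc.from c) m)).app ⊤ (1 : Γ(StMod.sch Z c, ⊤))) = 0 at h1
    rw [QCoh.homOfTop_app, one_smul, hc.hom_ext (hc.from c) (𝟙 c), StMod.Mod.mapTop_id] at h1
    rwa [show (homOfLE (le_top : (⊤ : (StMod.sch Z c).Opens) ≤ ⊤)).op = 𝟙 (op ⊤) from rfl,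
      CategoryTheory.Functor.map_id] at h1
  refine ObjectProperty.hom_ext _ (StMod.Mod.hom_ext fun ξ => ?_)
  show v.hom.app ξ = 0
  let φ := hc.from ξ
  haveI := M.property.1 φ (g := StMod.bmap Z φ) rfl
  have h2 := v.hom.comm φ rfl
  rw [h0, zero_comp] at h2
  let adj := Scheme.Modules.pullbackPushforwardAdjunction (StMod.bmap Z φ)
  rw [← cancel_epi ((adj.homEquiv _ _).symm (M.obj.map φ rfl)), ← adj.homEquiv_naturality_right_symm, h2]
  simp [Adjunction.homEquiv_counit]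

end Generation

include h𝒴

/-- The structure sheaf is generating relative to a quasi-affine morphism. -/
theorem isRelGenFam_O_of_quasiAffine {f : 𝒳 ⥤ᵇ 𝒴} (hf : AlgSt.RepByAlgSpWith AlgSp.IsQuasiAffineMor f) :
    StMod.IsRelGenFam f (fun _ : PUnit.{u + 1} => StMod.OQ (𝒳 := 𝒳)) := fun η hη => by
  haveI := hη
  obtain ⟨c, ⟨hc⟩, hR⟩ := exists_univ_obj h𝒴 (R := fun X => X.IsQuasiAffine) (P := AlgSp.IsQuasiAffineMor)
    (fun _ h => h) hf η
  haveI : (StMod.sch (StMod.fibCat f η) c).IsQuasiAffine := hR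
  rw [StMod.isGenFam_iff]
  intro M N v hv
  refine isGenFam_O_of_terminal (Z := StMod.fibCat f η) hc v fun φ => ?_
  have h1 := hv ⟨⟩ ((StMod.comapOIso (StMod.fibFst f η)).hom ≫ φ)
  rw [Category.assoc] at h1
  exact (cancel_epi (StMod.comapOIso (StMod.fibFst f η)).hom).1 (h1.trans comp_zero.symm)

end Groth.Agent.RPSM
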